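import Groth.Agent.InvLib.Depth
import Groth.Agent.CommAlgDim.CM
import Mathlib.RingTheory.Localization.Ideal

/-!
# Cutting a Cohen-Macaulay domain by an element
-/

universe u

namespace SMTLib

open RingTheory.Sequence IsLocalRing

lemma isCM_of_isCohenMacaulayLocalRing (B : Type u) [CommRing B] [LocCoh.IsCohenMacaulayLocalRing B] :
    CommAlgDim.IsCM B := by
  have h := LocCoh.IsCohenMacaulayLocalRing.supportDim_eq_depth (R := B)
  rw [Module.supportDim_self_eq_ringKrullDim] at h
  obtain ⟨d, hd⟩ := CommAlgDim.exists_ringKrullDim_eq (R := B)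
  have hdep : LocCoh.depth B B = (d : ℕ∞) := WithBot.coe_inj.1 (h.symm.trans hd)
  obtain ⟨rs, hl, hm, hr⟩ := InvLib.hasSeq_of_le_depth (B := B) (N := B) hdep.ge
  exact ⟨rs, IsRegular.of_isWeaklyRegular_of_mem_maximalIdeal B hm hr, by rw [hd, hl]⟩

lemma isCohenMacaulayLocalRing_of_isCM (B : Type u) [CommRing B] [IsLocalRing B] [IsNoetherianRing B]
    (h : CommAlgDim.IsCM B) : LocCoh.IsCohenMacaulayLocalRing B := by
  obtain ⟨rs, hrs, hd⟩ := h
  have hseq : InvLib.HasSeq B B rs.length :=
    ⟨rs, rfl, CommAlgDim.mem_maximalIdeal_of_isRegular hrs, hrs.toIsWeaklyRegular⟩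
  constructor
  refine le_antisymm ?_ InvLib.depth_le_supportDim
  rw [Module.supportDim_self_eq_ringKrullDim, hd]
  exact WithBot.coe_le_coe.2 hseq.le_depth

lemma isCohenMacaulayLocalRing_of_ringEquiv {A B : Type u} [CommRing A] [CommRing B] (e : A ≃+* B)
    [LocCoh.IsCohenMacaulayLocalRing A] : LocCoh.IsCohenMacaulayLocalRing B := by
  have : IsNoetherianRing B := isNoetherianRing_of_ringEquiv A e
  have : IsLocalRing B := e.isLocalRing
  refine isCohenMacaulayLocalRing_of_isCM _ ?_
  obtain ⟨rs, hrs, hd⟩ := isCM_of_isCohenMacaulayLocalRing A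
  refine ⟨rs.map e, ?_, by rw [← ringKrullDim_eq_of_ringEquiv e, hd, List.length_map]⟩
  have hfor : List.Forall₂ (fun r s => ∀ x : A, e.toAddEquiv (r • x) = s • e.toAddEquiv x) rs (rs.map e) := by
    clear hrs hd
    induction rs with
    | nil => exact List.Forall₂.nil
    | cons r rs ih => exact List.Forall₂.cons (fun x => map_mul e r x) ih
  exact (AddEquiv.isRegular_congr (e := e.toAddEquiv) hfor).1 hrs

theorem isCohenMacaulayRing_of_ringEquiv {A B : Type u} [CommRing A] [CommRing B] (e : A ≃+* B)
    (hA : LocCoh.IsCohenMacaulayRing A) : LocCoh.IsCohenMacaulayRing B := by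
  have : IsNoetherianRing A := inferInstance
  have : IsNoetherianRing B := isNoetherianRing_of_ringEquiv A e
  refine ⟨fun p _ => ?_⟩
  let q := p.comap (e : A →+* B)
  have := hA.isCohenMacaulayLocalRing_localization q
  have H : q.primeCompl.map (e.toMonoidHom) = p.primeCompl := by
    ext x
    constructor
    · rintro ⟨z, hz, rfl⟩; exact hz
    · intro hx
      exact ⟨e.symm x, (fun h : e (e.symm x) ∈ p => hx (by simpa using h)), e.apply_symm_apply x⟩
  exact isCohenMacaulayLocalRing_of_ringEquiv
    (IsLocalization.ringEquivOfRingEquiv (Localization.AtPrime q) (Localization.AtPrime p) e H)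

theorem isCohenMacaulayRing_quotient_singleton {R : Type u} [CommRing R] [IsDomain R]
    [hR : LocCoh.IsCohenMacaulayRing R] {y : R} (hy : y ≠ 0) :
    LocCoh.IsCohenMacaulayRing (R ⧸ Ideal.span {y}) := by
  have : IsNoetherianRing R := inferInstance
  refine ⟨fun p _ => ?_⟩
  let π := Ideal.Quotient.mk (Ideal.span {y})
  let q := p.comap π
  let B := Localization.AtPrime q
  have hyq : y ∈ q := by
    show π y ∈ p
    rw [show π y = 0 from Ideal.Quotient.eq_zero_iff_mem.2 (Ideal.subset_span rfl)]
    exact p.zero_mem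
  have hB := hR.isCohenMacaulayLocalRing_localization q
  have : IsDomain B := IsLocalization.isDomain_of_le_nonZeroDivisors B q.primeCompl_le_nonZeroDivisors
  let yB := algebraMap R B y
  have hyB : yB ≠ 0 := (map_ne_zero_iff _ (IsLocalization.injective B q.primeCompl_le_nonZeroDivisors)).2 hy
  have hym : yB ∈ maximalIdeal B := (IsLocalization.AtPrime.to_map_mem_maximal_iff B q y).2 hyq
  have hcm := (isCM_of_isCohenMacaulayLocalRing B).quotient_singleton
    (IsSMulRegular.of_right_eq_zero_of_smul fun x hx => (mul_eq_zero.1 hx).resolve_left hyB) hym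
  let g : R ⧸ Ideal.span {y} →+* B ⧸ Ideal.span {yB} :=
    Ideal.quotientMap _ (algebraMap R B) (by
      rw [Ideal.span_singleton_le_iff_mem, Ideal.mem_comap]; exact Ideal.subset_span rfl)
  letI := g.toAlgebra
  have hmap : q.primeCompl.map π = p.primeCompl := by
    ext x
    constructor
    · rintro ⟨z, hz, rfl⟩; exact hz
    · intro hx
      obtain ⟨z, rfl⟩ := Ideal.Quotient.mk_surjective x
      exact ⟨z, hx, rfl⟩
  have hloc : IsLocalization p.primeCompl (B ⧸ Ideal.span {yB}) := by
    rw [← hmap]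
    refine IsLocalization.of_surjective (S := B) q.primeCompl π Ideal.Quotient.mk_surjective (Ideal.Quotient.mk _)
      Ideal.Quotient.mk_surjective (RingHom.ext fun _ => rfl) ?_
    rw [Ideal.mk_ker, Ideal.mk_ker, Ideal.map_span, Set.image_singleton]
  let e : (B ⧸ Ideal.span {yB}) ≃+* Localization.AtPrime p :=
    (IsLocalization.algEquiv p.primeCompl (B ⧸ Ideal.span {yB}) (Localization.AtPrime p)).toRingEquiv
  have : IsLocalRing (B ⧸ Ideal.span {yB}) := e.symm.isLocalRing
  have hB' := isCohenMacaulayLocalRing_of_isCM _ hcm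
  exact isCohenMacaulayLocalRing_of_ringEquiv e

end SMTLib
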