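import Mathlib.RingTheory.UniqueFactorizationDomain.Basic
import Mathlib.RingTheory.Localization.Defs
import Mathlib.RingTheory.Localization.Basic

/-!
# Nagata's criterion for factoriality
-/

universe u

namespace SMTLib

variable {A : Type u} [CommRing A] [IsDomain A] {P : Set A}

lemma dvd_of_dvd_mul_closure (hP : ∀ p ∈ P, Prime p) {a : A} (ha : ∀ p ∈ P, ¬ p ∣ a) {s : A}
    (hs : s ∈ Submonoid.closure P) : ∀ x, a ∣ s * x → a ∣ x := by
  induction hs using Submonoid.closure_induction with
  | mem p hp =>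
    intro x hx
    obtain ⟨z, hz⟩ := hx
    obtain ⟨w, rfl⟩ := ((hP p hp).dvd_or_dvd ⟨x, hz.symm⟩).resolve_left (ha p hp)
    exact ⟨w, mul_left_cancel₀ (hP p hp).ne_zero (by rw [hz]; ring)⟩
  | one => intro x hx; simpa using hx
  | mul s t _ _ h1 h2 => intro x hx; exact h2 x (h1 _ (by rwa [← mul_assoc]))

lemma exists_split_closure (hP : ∀ p ∈ P, Prime p) {s : A} (hs : s ∈ Submonoid.closure P) :
    ∀ a b c : A, a * s = b * c → ∃ b' c', a = b' * c' ∧ (∃ u ∈ Submonoid.closure P, b = b' * u) ∧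
      ∃ v ∈ Submonoid.closure P, c = c' * v := by
  induction hs using Submonoid.closure_induction with
  | mem p hp =>
    intro a b c h
    rcases (hP p hp).dvd_or_dvd ⟨a, by rw [← h, mul_comm]⟩ with ⟨b', rfl⟩ | ⟨c', rfl⟩
    · exact ⟨b', c, mul_right_cancel₀ (hP p hp).ne_zero (by rw [h]; ring), ⟨p, Submonoid.subset_closure hp, mul_comm _ _⟩,
        1, one_mem _, (mul_one _).symm⟩
    · exact ⟨b, c', mul_right_cancel₀ (hP p hp).ne_zero (by rw [h]; ring), ⟨1, one_mem _, (mul_one _).symm⟩,
        p, Submonoid.subset_closure hp, mul_comm _ _⟩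
  | one => exact fun a b c h => ⟨b, c, by simpa using h, ⟨1, one_mem _, by simp⟩, 1, one_mem _, by simp⟩
  | mul s t _ _ h1 h2 =>
    intro a b c h
    obtain ⟨b', c', e, ⟨u, hu, rfl⟩, v, hv, rfl⟩ := h2 (a * s) b c (by rw [← h]; ring)
    obtain ⟨b'', c'', e', ⟨u', hu', rfl⟩, v', hv', rfl⟩ := h1 a b' c' e
    exact ⟨b'', c'', e', ⟨u' * u, mul_mem hu' hu, mul_assoc _ _ _⟩, v' * v, mul_mem hv' hv, mul_assoc _ _ _⟩

/-- Nagata's criterion. -/
theorem ufd_of_ufd_localization (hfac : ∀ a : A, a ≠ 0 → ∃ f : Multiset A, (∀ b ∈ f, Irreducible b) ∧ Associated f.prod a)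
    (hP : ∀ p ∈ P, Prime p) (L : Type u) [CommRing L] [IsDomain L] [Algebra A L]
    [IsLocalization (Submonoid.closure P) L] [UniqueFactorizationMonoid L] : UniqueFactorizationMonoid A := by
  have hM : Submonoid.closure P ≤ nonZeroDivisors A :=
    Submonoid.closure_le.2 fun p hp => mem_nonZeroDivisors_of_ne_zero (hP p hp).ne_zero
  have hunit : ∀ v ∈ Submonoid.closure P, IsUnit (algebraMap A L v) := fun v hv => IsLocalization.map_units L ⟨v, hv⟩
  have hirr : ∀ a : A, Irreducible a → Prime a := by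
    intro a ha
    by_cases hdvd : ∃ p ∈ P, p ∣ a
    · obtain ⟨p, hp, hpa⟩ := hdvd
      exact ((hP p hp).irreducible.associated_of_dvd ha hpa).prime (hP p hp)
    push Not at hdvd
    refine ⟨ha.ne_zero, ha.not_isUnit, fun x y hxy => ?_⟩
    have back : ∀ x, algebraMap A L a ∣ algebraMap A L x → a ∣ x := by
      rintro x ⟨z, hz⟩
      obtain ⟨z, ⟨s, hs⟩, rfl⟩ := IsLocalization.exists_mk'_eq (Submonoid.closure P) z
      rw [mul_comm] at hz
      have : algebraMap A L (s * x) = algebraMap A L (a * z) := by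
        rw [map_mul, map_mul, hz]
        have := IsLocalization.mk'_spec L z (⟨s, hs⟩ : Submonoid.closure P)
        rw [← this]; ring
      exact dvd_of_dvd_mul_closure hP hdvd hs x ⟨z, IsLocalization.injective L hM this⟩
    by_cases hau : IsUnit (algebraMap A L a)
    · exact Or.inl (back x hau.dvd)
    have hprime : Prime (algebraMap A L a) := by
      refine UniqueFactorizationMonoid.irreducible_iff_prime.1 ⟨hau, fun {β γ} h => ?_⟩
      obtain ⟨b, ⟨s, hs⟩, rfl⟩ := IsLocalization.exists_mk'_eq (Submonoid.closure P) β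
      obtain ⟨c, ⟨t, ht⟩, rfl⟩ := IsLocalization.exists_mk'_eq (Submonoid.closure P) γ
      rw [← IsLocalization.mk'_mul, IsLocalization.eq_mk'_iff_mul_eq, ← map_mul] at h
      obtain ⟨b', c', e, ⟨u, hu, rfl⟩, v, hv, rfl⟩ :=
        exists_split_closure hP (mul_mem hs ht) a b c (IsLocalization.injective L hM h)
      rcases ha.isUnit_or_isUnit e with h' | h'
      · left
        refine isUnit_of_mul_isUnit_left (y := algebraMap A L s) ?_
        rw [IsLocalization.mk'_spec L (b' * u) (⟨s, hs⟩ : Submonoid.closure P), map_mul]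
        exact (h'.map _).mul (hunit u hu)
      · right
        refine isUnit_of_mul_isUnit_left (y := algebraMap A L t) ?_
        rw [IsLocalization.mk'_spec L (c' * v) (⟨t, ht⟩ : Submonoid.closure P), map_mul]
        exact (h'.map _).mul (hunit v hv)
    rcases hprime.dvd_or_dvd (by rw [← map_mul (algebraMap A L)]; exact map_dvd (algebraMap A L) hxy) with h | h
    exacts [Or.inl (back x h), Or.inr (back y h)]
  refine UniqueFactorizationMonoid.of_exists_prime_factors fun a ha => ?_
  obtain ⟨f, hf, hfa⟩ := hfac a ha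
  exact ⟨f, fun b hb => hirr b (hf b hb), hfa⟩

end SMTLib
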