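import Groth.Agent.InvLib.Depth
import Groth.Agent.CommAlgDim.Depth

/-!
# The condition `S₂` on a Noetherian domain
-/

universe u

namespace SMTLib

open CommAlgDim IsLocalRing RingTheory.Sequence

variable {R : Type u} [CommRing R]

lemma supportDim_localized_self (P : Ideal R) [P.IsPrime] :
    Module.supportDim (Localization.AtPrime P) (LocalizedModule P.primeCompl R) = P.height := by
  rw [Module.supportDim_eq_of_equiv ((IsLocalizedModule.iso P.primeCompl (Algebra.linearMap R (Localization.AtPrime P)))
    |>.extendScalarsOfIsLocalization P.primeCompl (Localization.AtPrime P)), Module.supportDim_self_eq_ringKrullDim,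
    IsLocalization.AtPrime.ringKrullDim_eq_height P]

/-- The quotient by a principal ideal as a module. -/
noncomputable def quotSpanEquiv (a : R) : (R ⧸ Ideal.span {a}) ≃ₗ[R] QuotSMulTop a R :=
  Submodule.quotEquivOfEq _ _ (by rw [← Submodule.ideal_span_singleton_smul, smul_eq_mul, Ideal.mul_top])

theorem hasSk_two_iff [IsDomain R] [IsNoetherianRing R] :
    LocCoh.HasSk 2 R R ↔
      ∀ a : R, a ≠ 0 → ∀ P : Ideal R, P ∈ associatedPrimes R (R ⧸ Ideal.span {a}) → P.height = 1 := by
  constructor
  · intro h a ha P hP
    have := hP.isPrime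
    have hP' : P ∈ associatedPrimes R (QuotSMulTop a R) := by
      rwa [← LinearEquiv.AssociatedPrimes.eq (quotSpanEquiv a)]
    have haP : a ∈ P := by
      refine (IsAssociatedPrime.annihilator_le hP') ?_
      rw [Submodule.mem_annihilator]
      intro y _
      obtain ⟨y, rfl⟩ := Submodule.mkQ_surjective _ y
      rw [← map_smul]
      exact (Submodule.Quotient.mk_eq_zero _).2 (Submodule.smul_mem_pointwise_smul _ _ _ trivial)
    have hreg : IsSMulRegular R a := IsSMulRegular.of_right_eq_zero_of_smul fun x hx => (mul_eq_zero.1 hx).resolve_left ha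
    refine le_antisymm ?_ ?_
    · by_contra hlt
      rw [not_le] at hlt
      have h2 : (2 : ℕ∞) ≤ P.height := Order.add_one_le_of_lt hlt
      have := h P
      rw [supportDim_localized_self, ← WithBot.coe_natCast, ← WithBot.coe_min, WithBot.coe_le_coe, min_eq_left (show ((2 : ℕ) : ℕ∞) ≤ P.height from h2), le_depth_iff] at this
      have hq := HasSeqIn.quotSMulTop
        ((IsLocalization.AtPrime.to_map_mem_maximal_iff (Localization.AtPrime P) P a).2 haP)
        (isSMulRegular_localization P hreg) this
      obtain ⟨e⟩ := exists_quot_equiv (M := R) P a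
      exact maximalIdeal_notMem_of_hasSeqIn_one (HasSeqIn.congr e.symm hq) hP'
    · rw [Order.one_le_iff_pos]
      refine lt_of_le_of_lt zero_le (Ideal.height_strict_mono_of_isPrime (I := ⊥) (J := P) (bot_lt_iff_ne_bot.2 fun h0 => ?_))
      exact ha (by rwa [h0, Submodule.mem_bot] at haP)
  · intro h P _
    rw [supportDim_localized_self]
    have aux : ∀ n : ℕ, HasSeqIn P R n → ((n : ℕ∞) : WithBot ℕ∞) ≤
        ((LocCoh.depth (Localization.AtPrime P) (LocalizedModule P.primeCompl R) : ℕ∞) : WithBot ℕ∞) :=
      fun n hn => WithBot.coe_le_coe.2 ((le_depth_iff n).2 (HasSeqIn.localization le_rfl hn))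
    rcases eq_or_ne P ⊥ with hP | hP
    · refine (min_le_right _ _).trans ?_
      have : P.height = 0 := by rw [hP]; simp
      rw [this]
      exact le_trans le_rfl (aux 0 (hasSeqIn_zero P))
    obtain ⟨a, haP, ha⟩ := Submodule.exists_mem_ne_zero_of_ne_bot hP
    have hreg : IsSMulRegular R a := IsSMulRegular.of_right_eq_zero_of_smul fun x hx => (mul_eq_zero.1 hx).resolve_left ha
    by_cases h2 : P.height ≤ 1
    · refine (min_le_right _ _).trans ((WithBot.coe_le_coe.2 h2).trans ?_)
      exact aux 1 (hasSeqIn_succ_of_cons haP hreg (hasSeqIn_zero P))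
    · refine (min_le_left _ _).trans ?_
      have := aux 2 (hasSeqIn_succ_of_cons haP hreg ((hasSeqIn_one_iff P).2 fun Q hQ hle => h2 ?_))
      · exact this
      · have hQ' : Q ∈ associatedPrimes R (R ⧸ Ideal.span {a}) := by
          rwa [LinearEquiv.AssociatedPrimes.eq (quotSpanEquiv a)]
        exact (Ideal.height_mono hle).trans (h a ha Q hQ').le

end SMTLib
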