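import Mathlib

/-!
# Maximal ideals of affine domains have height equal to the dimension
-/

universe u v

open Polynomial in
lemma MaxHeight.mvPolynomial (k : Type u) [Field k] : ∀ (n : ℕ) (M : Ideal (MvPolynomial (Fin n) k))
    [M.IsMaximal], M.height = (n : ℕ∞) := by
  intro n
  induction n with
  | zero =>
    intro M _
    have h := Ideal.height_le_ringKrullDim_of_isPrime (I := M)
    rw [MvPolynomial.ringKrullDim_of_isNoetherianRing, ringKrullDim_eq_zero_of_field] at h
    simp only [Nat.card_eq_fintype_card, Fintype.card_fin, Nat.cast_zero, add_zero] at h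
    have h' : M.height ≤ 0 := by exact_mod_cast h
    simpa using h'
  | succ n ih =>
    intro M _
    let e := (MvPolynomial.finSuccEquiv k n).toRingEquiv
    set M' := M.comap e.symm with hM'
    haveI : M'.IsMaximal := Ideal.comap_isMaximal_of_equiv e.symm
    have hh : M'.height = M.height := e.symm.height_comap M
    haveI : (M'.comap (Polynomial.C : MvPolynomial (Fin n) k →+* _)).IsMaximal :=
      Polynomial.isMaximal_comap_C_of_isJacobsonRing M'
    haveI : M'.LiesOver (M'.comap (Polynomial.C : MvPolynomial (Fin n) k →+* _)) := ⟨rfl⟩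
    rw [← hh, Polynomial.height_eq_height_add_one (M'.comap (Polynomial.C)) M', ih]
    norm_cast

theorem MaxHeight.affine_domain (k : Type u) (A : Type v) [Field k] [CommRing A] [IsDomain A]
    [Algebra k A] [Algebra.FiniteType k A] (m : Ideal A) [m.IsMaximal] :
    (m.height : WithBot ℕ∞) = ringKrullDim A := by
  haveI : IsNoetherianRing A := Algebra.FiniteType.isNoetherianRing k A
  obtain ⟨s, g, hinj, hfin⟩ := exists_finite_inj_algHom_of_fg k A
  letI := g.toRingHom.toAlgebra
  haveI : Module.Finite (MvPolynomial (Fin s) k) A := hfin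
  haveI : FaithfulSMul (MvPolynomial (Fin s) k) A :=
    (faithfulSMul_iff_algebraMap_injective _ _).2 hinj
  have h2 : ringKrullDim A ≤ (s : WithBot ℕ∞) := by
    have h3 : ringKrullDim A ≤ ringKrullDim (MvPolynomial (Fin s) k) := by
      refine Order.krullDim_le_of_strictMono
        (fun P => PrimeSpectrum.comap (algebraMap (MvPolynomial (Fin s) k) A) P) ?_
      intro P Q hPQ
      exact Ideal.IsIntegral.comap_lt_comap (R := MvPolynomial (Fin s) k) hPQ
    rw [MvPolynomial.ringKrullDim_of_isNoetherianRing, ringKrullDim_eq_zero_of_field, zero_add] at h3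
    simpa using h3
  haveI : (m.under (MvPolynomial (Fin s) k)).IsMaximal := Ideal.IsMaximal.under _ m
  have h1 := Ideal.height_eq_height_add_of_liesOver_of_hasGoingDown (m.under (MvPolynomial (Fin s) k)) m
  rw [MaxHeight.mvPolynomial k s] at h1
  refine le_antisymm (Ideal.height_le_ringKrullDim_of_isPrime) (h2.trans ?_)
  have h4 : (s : ℕ∞) ≤ m.height := h1 ▸ le_self_add
  exact_mod_cast h4
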