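import Groth.Agent.SMTLib.MaxHeight

/-!
# Dimension of a connected graded Noetherian algebra at its irrelevant ideal
-/

universe u v

namespace SMTLib

open DirectSum

variable {K : Type u} [Field K] {A : Type v} [CommRing A] [Algebra K A]
  (𝒜 : ℕ → Submodule K A) [GradedAlgebra 𝒜]

/-- The degree zero part of a connected graded algebra consists of scalars. -/
lemma exists_scalar_proj_zero (h0 : ∀ a ∈ 𝒜 0, ∃ c : K, algebraMap K A c = a) (a : A) :
    ∃ c : K, algebraMap K A c = GradedRing.proj 𝒜 0 a :=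
  h0 _ (by rw [GradedRing.proj_apply]; exact SetLike.coe_mem _)

lemma le_irrelevant_of_isHomogeneous (h0 : ∀ a ∈ 𝒜 0, ∃ c : K, algebraMap K A c = a) {P : Ideal A}
    (hP : P.IsHomogeneous 𝒜) (hP' : P ≠ ⊤) : P ≤ (HomogeneousIdeal.irrelevant 𝒜).toIdeal := by
  intro a ha
  obtain ⟨c, hc⟩ := exists_scalar_proj_zero 𝒜 h0 a
  rw [HomogeneousIdeal.mem_iff, HomogeneousIdeal.mem_irrelevant_iff]
  by_cases hc0 : c = 0
  · rw [← hc, hc0, map_zero]
  · refine absurd (Ideal.eq_top_of_isUnit_mem P ?_ ((isUnit_iff_ne_zero.2 hc0).map (algebraMap K A))) hP'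
    rw [hc, GradedRing.proj_apply]
    exact hP 0 ha

lemma irrelevant_isMaximal (h0 : ∀ a ∈ 𝒜 0, ∃ c : K, algebraMap K A c = a) [Nontrivial A] :
    (HomogeneousIdeal.irrelevant 𝒜).toIdeal.IsMaximal := by
  refine Ideal.isMaximal_iff.2 ⟨fun h => ?_, fun J a hle ha haJ => ?_⟩
  · rw [HomogeneousIdeal.mem_iff, HomogeneousIdeal.mem_irrelevant_iff, GradedRing.proj_apply,
      DirectSum.decompose_of_mem_same 𝒜 SetLike.GradedOne.one_mem] at h
    exact one_ne_zero h
  · obtain ⟨c, hc⟩ := exists_scalar_proj_zero 𝒜 h0 a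
    have hc0 : c ≠ 0 := by
      rintro rfl
      apply ha
      rw [HomogeneousIdeal.mem_iff, HomogeneousIdeal.mem_irrelevant_iff, ← hc, map_zero]
    have hsub : a - algebraMap K A c ∈ (HomogeneousIdeal.irrelevant 𝒜).toIdeal := by
      rw [HomogeneousIdeal.mem_iff, HomogeneousIdeal.mem_irrelevant_iff, map_sub, hc]
      simp [GradedRing.proj_apply]
    have : algebraMap K A c ∈ J := by simpa using J.sub_mem haJ (hle hsub)
    rw [Ideal.eq_top_of_isUnit_mem J this ((isUnit_iff_ne_zero.2 hc0).map (algebraMap K A))]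
    trivial

/-- A connected graded Noetherian algebra is of finite type. -/
lemma finiteType_of_graded (h0 : ∀ a ∈ 𝒜 0, ∃ c : K, algebraMap K A c = a) [IsNoetherianRing A] :
    Algebra.FiniteType K A := by
  classical
  obtain ⟨T, hT⟩ := IsNoetherian.noetherian (HomogeneousIdeal.irrelevant 𝒜).toIdeal
  let S : Finset A := T.biUnion fun t => ((decompose 𝒜 t).support.filter (· ≠ 0)).image fun i => (decompose 𝒜 t i : A)
  have hdeg : ∀ s ∈ S, ∃ k, 0 < k ∧ s ∈ 𝒜 k := by
    intro s hs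
    obtain ⟨t, -, hs⟩ := Finset.mem_biUnion.1 hs
    obtain ⟨i, hi, rfl⟩ := Finset.mem_image.1 hs
    exact ⟨i, Nat.pos_of_ne_zero (Finset.mem_filter.1 hi).2, SetLike.coe_mem _⟩
  have hTS : (T : Set A) ⊆ Ideal.span (S : Set A) := by
    intro t ht
    have ht' : t ∈ (HomogeneousIdeal.irrelevant 𝒜).toIdeal := hT ▸ Ideal.subset_span ht
    rw [HomogeneousIdeal.mem_iff, HomogeneousIdeal.mem_irrelevant_iff, GradedRing.proj_apply] at ht'
    rw [SetLike.mem_coe, ← DirectSum.sum_support_decompose 𝒜 t]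
    refine Ideal.sum_mem _ fun i hi => ?_
    by_cases hi0 : i = 0
    · subst hi0; rw [ht']; exact Submodule.zero_mem _
    · exact Ideal.subset_span (Finset.mem_biUnion.2 ⟨t, ht, Finset.mem_image.2 ⟨i, Finset.mem_filter.2 ⟨hi, hi0⟩, rfl⟩⟩)
  have hmem : ∀ n, ∀ a ∈ 𝒜 n, a ∈ Algebra.adjoin K (S : Set A) := by
    intro n
    induction n using Nat.strong_induction_on with
    | _ n ih =>
      intro a ha
      rcases Nat.eq_zero_or_pos n with rfl | hn
      · obtain ⟨c, rfl⟩ := h0 a ha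
        exact Subalgebra.algebraMap_mem _ c
      have hirr : a ∈ Ideal.span (S : Set A) := by
        have h1 : a ∈ (HomogeneousIdeal.irrelevant 𝒜).toIdeal := by
          rw [HomogeneousIdeal.mem_iff, HomogeneousIdeal.mem_irrelevant_iff, GradedRing.proj_apply,
            DirectSum.decompose_of_mem_ne 𝒜 ha hn.ne']
        rw [← hT] at h1
        exact Submodule.span_le.2 hTS h1
      obtain ⟨f, -, hf⟩ := Submodule.mem_span_finset.1 hirr
      have key : GradedRing.proj 𝒜 n a = ∑ s ∈ S, GradedRing.proj 𝒜 n (f s * s) := by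
        rw [← hf, map_sum]
        rfl
      rw [GradedRing.proj_apply, DirectSum.decompose_of_mem_same 𝒜 ha] at key
      rw [key]
      refine Subalgebra.sum_mem _ fun s hs => ?_
      obtain ⟨k, hk, hsk⟩ := hdeg s hs
      rw [GradedRing.proj_apply, DirectSum.coe_decompose_mul_of_right_mem 𝒜 n hsk]
      split_ifs with hkn
      · exact Subalgebra.mul_mem _ (ih (n - k) (by omega) _ (SetLike.coe_mem _)) (Algebra.subset_adjoin hs)
      · exact Subalgebra.zero_mem _
  refine ⟨⟨S, ?_⟩⟩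
  rw [eq_top_iff]
  intro a _
  rw [← DirectSum.sum_support_decompose 𝒜 a]
  exact Subalgebra.sum_mem _ fun i _ => hmem i _ (SetLike.coe_mem _)

/-- For a homogeneous ideal `I` the dimension of `A/I` is the height of the image of the
irrelevant ideal. -/
theorem ringKrullDim_quotient_eq_height (h0 : ∀ a ∈ 𝒜 0, ∃ c : K, algebraMap K A c = a)
    [IsNoetherianRing A] {I : Ideal A} (hI : I.IsHomogeneous 𝒜) (hI' : I ≠ ⊤) :
    ringKrullDim (A ⧸ I) =
      (((HomogeneousIdeal.irrelevant 𝒜).toIdeal.map (Ideal.Quotient.mk I)).height : WithBot ℕ∞) := by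
  haveI : Nontrivial A := not_subsingleton_iff_nontrivial.1 fun h => hI' (Subsingleton.elim _ _)
  haveI := irrelevant_isMaximal 𝒜 h0
  haveI := finiteType_of_graded 𝒜 h0
  have hIm := le_irrelevant_of_isHomogeneous 𝒜 h0 hI hI'
  set m := (HomogeneousIdeal.irrelevant 𝒜).toIdeal with hm
  set mI := m.map (Ideal.Quotient.mk I) with hmI
  haveI : mI.IsPrime :=
    Ideal.map_isPrime_of_surjective Ideal.Quotient.mk_surjective (by rwa [Ideal.mk_ker])
  refine le_antisymm ?_ (Ideal.height_le_ringKrullDim_of_isPrime)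
  rw [ringKrullDim, Order.krullDim]
  refine iSup_le fun l => ?_
  obtain ⟨P, hP, hPle⟩ := Ideal.exists_minimalPrimes_le
    (show I ≤ l.head.asIdeal.comap (Ideal.Quotient.mk I) from
      le_trans (le_of_eq Ideal.mk_ker.symm) (Ideal.comap_mono bot_le))
  haveI := hP.1.1
  have hPh : P.IsHomogeneous 𝒜 := by
    have h1 : I ≤ (P.homogeneousCore 𝒜).toIdeal := by
      rw [← hI.toIdeal_homogeneousCore_eq_self]
      exact Ideal.homogeneousCore_mono 𝒜 hP.1.2
    have h2 := P.toIdeal_homogeneousCore_le 𝒜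
    rw [le_antisymm (hP.2 ⟨hP.1.1.homogeneousCore, h1⟩ h2) h2]
    exact HomogeneousIdeal.isHomogeneous _
  have hPm : P ≤ m := le_irrelevant_of_isHomogeneous 𝒜 h0 hPh hP.1.1.ne_top
  let π : A ⧸ I →+* A ⧸ P := Ideal.Quotient.factor hP.1.2
  have hπ : Function.Surjective π := Ideal.Quotient.factor_surjective _
  have hkerπ : ∀ q : PrimeSpectrum (A ⧸ I), l.head ≤ q → RingHom.ker π ≤ q.asIdeal := by
    intro q hq x hx
    obtain ⟨a, rfl⟩ := Ideal.Quotient.mk_surjective x
    have ha : a ∈ P := Ideal.Quotient.eq_zero_iff_mem.1 hx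
    exact hq (hPle ha)
  have hle : ∀ i, l.head ≤ l i := fun i => l.head_le i
  let f : Fin (l.length + 1) → PrimeSpectrum (A ⧸ P) := fun i =>
    ⟨(l i).asIdeal.map π, Ideal.map_isPrime_of_surjective hπ (hkerπ _ (hle i))⟩
  have hf : ∀ i : Fin l.length, f i.castSucc < f i.succ := fun i => by
    refine lt_of_le_of_ne (Ideal.map_mono (l.step i).le) fun h => (l.step i).ne (PrimeSpectrum.ext ?_)
    have h1 := congrArg (fun q : PrimeSpectrum (A ⧸ P) => q.asIdeal.comap π) h
    simp only [f, Ideal.comap_map_of_surjective π hπ, ← RingHom.ker_eq_comap_bot] at h1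
    rwa [sup_eq_left.2 (hkerπ _ (hle _)), sup_eq_left.2 (hkerπ _ (hle _))] at h1
  let l' : LTSeries (PrimeSpectrum (A ⧸ P)) := ⟨l.length, f, hf⟩
  haveI hmP : (m.map (Ideal.Quotient.mk P)).IsMaximal :=
    Ideal.IsMaximal.map_of_surjective_of_ker_le Ideal.Quotient.mk_surjective (by rwa [Ideal.mk_ker])
  have h1 : ((l'.length : ℕ∞) : WithBot ℕ∞) ≤ ((m.map (Ideal.Quotient.mk P)).height : WithBot ℕ∞) := by
    rw [MaxHeight.affine_domain K (A ⧸ P)]
    exact Order.LTSeries.length_le_krullDim l'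
  refine h1.trans (WithBot.coe_le_coe.2 ?_)
  obtain ⟨l₂, hl₂, hlen⟩ := (m.map (Ideal.Quotient.mk P)).exists_ltSeries_length_eq_height
  rw [← hlen, (⟨mI, inferInstance⟩ : PrimeSpectrum (A ⧸ I)).height_eq_orderHeight]
  let l₃ := l₂.map (PrimeSpectrum.comap π) (RingHom.strictMono_comap_of_surjective hπ)
  have hlast : l₃.last = ⟨mI, inferInstance⟩ := by
    apply PrimeSpectrum.ext
    simp only [l₃, LTSeries.last_map, hl₂, PrimeSpectrum.comap_asIdeal]
    have h2 : m.map (Ideal.Quotient.mk P) = mI.map π := by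
      rw [hmI, Ideal.map_map]; rfl
    rw [h2, Ideal.comap_map_of_surjective π hπ, sup_eq_left, ← RingHom.ker_eq_comap_bot]
    intro x hx
    obtain ⟨a, rfl⟩ := Ideal.Quotient.mk_surjective x
    exact Ideal.mem_map_of_mem _ (hPm (Ideal.Quotient.eq_zero_iff_mem.1 hx))
  calc (l₂.length : ℕ∞) = l₃.length := rfl
    _ ≤ _ := Order.length_le_height (le_of_eq hlast)

end SMTLib
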