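import Groth.Agent.InvLib.Depth
import Groth.Agent.CommAlgDim.CM
import Mathlib.RingTheory.Ideal.GoingUp
import Mathlib.RingTheory.Flat.Localization
import Mathlib.RingTheory.Regular.Flat
import Mathlib.RingTheory.RegularLocalRing.Polynomial

/-!
# Finite flat algebras over regular rings are Cohen-Macaulay
-/

universe u

namespace SMTLib

open RingTheory.Sequence IsLocalRing

variable (P R : Type u) [CommRing P] [CommRing R] [Algebra P R] [Module.Finite P R]

lemma height_le_height_under (q : Ideal R) [q.IsPrime] : q.height ≤ (q.under P).height := by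
  have : Algebra.IsIntegral P R := inferInstance
  have hmono : StrictMono fun x : PrimeSpectrum R => (⟨x.asIdeal.under P, inferInstance⟩ : PrimeSpectrum P) := by
    intro x y hxy
    obtain ⟨z, hzy, hzx⟩ := SetLike.exists_of_lt (show x.asIdeal < y.asIdeal from hxy)
    exact Ideal.comap_lt_comap_of_integral_mem_sdiff (show x.asIdeal ≤ y.asIdeal from hxy.le) ⟨hzy, hzx⟩
      (Algebra.IsIntegral.isIntegral z)
  show (⟨q, inferInstance⟩ : PrimeSpectrum R).asIdeal.height ≤ (⟨q.under P, inferInstance⟩ : PrimeSpectrum P).asIdeal.height
  rw [PrimeSpectrum.height_eq_orderHeight, PrimeSpectrum.height_eq_orderHeight]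
  exact Order.height_le_height_apply_of_strictMono _ hmono ⟨q, inferInstance⟩

theorem isCohenMacaulayRing_of_flat [IsRegularRing P] [Module.Flat P R] : LocCoh.IsCohenMacaulayRing R := by
  have : IsNoetherianRing R := IsNoetherianRing.of_finite P R
  refine ⟨fun q _ => ?_⟩
  let p := q.under P
  let A := Localization.AtPrime p
  let B := Localization.AtPrime q
  have : IsRegularLocalRing A := IsRegularRing.isRegularLocalRing_localization p
  let φ : A →+* B := Localization.localRingHom p q (algebraMap P R) rfl
  algebraize [φ]
  have : IsScalarTower P A B := IsScalarTower.of_algebraMap_eq fun x => by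
    show _ = φ (algebraMap P A x)
    rw [Localization.localRingHom_to_map, IsScalarTower.algebraMap_apply P R B]
  have : Module.Flat P B := Module.Flat.trans P R B
  have : Module.Flat A B := (Module.flat_iff_of_isLocalization A p.primeCompl B).2 this
  obtain ⟨rs, hrs, hdim⟩ := CommAlgDim.isCM_of_isRegularLocalRing A
  have hw : IsWeaklyRegular B (rs.map (algebraMap A B)) := hrs.toIsWeaklyRegular.of_flat
  have hm : ∀ r ∈ rs.map (algebraMap A B), r ∈ maximalIdeal B := by
    intro r hr
    obtain ⟨a, ha, rfl⟩ := List.mem_map.1 hr
    have := CommAlgDim.mem_maximalIdeal_of_isRegular hrs a ha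
    exact map_nonunit φ a this
  have hseq : InvLib.HasSeq B B rs.length := ⟨_, by simp, hm, hw⟩
  have hdepth := hseq.le_depth
  constructor
  refine le_antisymm ?_ (InvLib.depth_le_supportDim)
  rw [Module.supportDim_self_eq_ringKrullDim, IsLocalization.AtPrime.ringKrullDim_eq_height q B]
  refine le_trans ?_ (WithBot.coe_le_coe.2 hdepth)
  rw [IsLocalization.AtPrime.ringKrullDim_eq_height p A] at hdim
  have := height_le_height_under P R q
  calc (q.height : WithBot ℕ∞) ≤ (p.height : WithBot ℕ∞) := WithBot.coe_le_coe.2 this
    _ = _ := by rw [hdim]; rfl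

end SMTLib
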