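import Groth.Agent.SMTLib.Coord
import Mathlib.LinearAlgebra.Matrix.Adjugate
import Mathlib.LinearAlgebra.Matrix.Rank
import Mathlib.LinearAlgebra.Matrix.NonsingularInverse

/-!
# The Plücker embedding
-/

universe u

namespace SMTLib

open MvPolynomial W4bk4grassmannian Matrix

variable {K : Type u} [Field K] {d n : ℕ}

lemma exists_det_ne_zero (A : Matrix (Fin n) (Fin d) K) (hA : LinearIndependent K A.transpose) :
    ∃ θ : Idx d n, (A.submatrix θ.1 id).det ≠ 0 := by
  classical
  have hrank : A.rank = d := by
    rw [← Matrix.rank_transpose]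
    exact (LinearIndependent.rank_matrix (M := A.transpose) hA).trans (Fintype.card_fin d)
  obtain ⟨κ, a, ha, hspan, hli⟩ := exists_linearIndependent' K A.row
  have : Finite κ := Finite.of_injective a ha
  have : Fintype κ := Fintype.ofFinite κ
  have hcard : Fintype.card κ = d := by
    rw [← finrank_span_eq_card hli, hspan, ← Matrix.rank_eq_finrank_span_row, hrank]
  let e : Fin d ≃ κ := (Fintype.equivFinOfCardEq hcard).symm
  let f : Fin d → Fin n := a ∘ e
  have hf : Function.Injective f := ha.comp e.injective
  have hc := (card_image_eq_iff f).2 hf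
  obtain ⟨π, hπ, -⟩ := exists_perm_sort f hc
  refine ⟨sortIdx d n f hc, fun h0 => ?_⟩
  have hli' : LinearIndependent K (A.submatrix f id).row := hli.comp e e.injective
  have hne : (A.submatrix f id).det ≠ 0 :=
    ((Matrix.isUnit_iff_isUnit_det _).1 (Matrix.linearIndependent_rows_iff_isUnit.1 hli')).ne_zero
  apply hne
  rw [hπ, ← Function.comp_id (id : Fin d → Fin d), ← Matrix.submatrix_submatrix, Matrix.det_permute, h0, mul_zero]

/-- Entries of `A · adj(A_θ)` are minors. -/
lemma mul_adjugate_apply (A : Matrix (Fin n) (Fin d) K) (θ : Fin d → Fin n) (i : Fin n) (k : Fin d) :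
    (A * (A.submatrix θ id).adjugate) i k = (A.submatrix (Function.update θ k i) id).det := by
  have h : (A * (A.submatrix θ id).adjugate) i k =
      Matrix.cramer (A.submatrix θ id).transpose (A i) k := by
    rw [Matrix.cramer_eq_adjugate_mulVec, ← Matrix.adjugate_transpose, Matrix.mulVec_transpose]
    rfl
  rw [h, Matrix.cramer_apply, Matrix.updateCol_transpose, Matrix.det_transpose]
  congr 1
  funext t c
  by_cases ht : t = k
  · subst ht; simp
  · simp [Matrix.updateRow_ne ht, ht]

lemma det_update_eq (A A' : Matrix (Fin n) (Fin d) K) (c : K)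
    (h : ∀ θ : Idx d n, (A.submatrix θ.1 id).det = c * (A'.submatrix θ.1 id).det) (f : Fin d → Fin n) :
    (A.submatrix f id).det = c * (A'.submatrix f id).det := by
  have e : evalAt (K := K) A (coord K d n f) = c * evalAt (K := K) A' (coord K d n f) := by
    unfold coord
    split_ifs
    · rw [map_mul, map_mul, map_pow, map_pow, map_neg, map_neg, map_one, map_one, evalAt_X, evalAt_X, h]
      ring
    · rw [map_zero, map_zero, mul_zero]
  rwa [evalAt_coord, evalAt_coord] at e

theorem span_columns_eq (A A' : Matrix (Fin n) (Fin d) K) (hA : LinearIndependent K A.transpose)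
    (c : K) (hc : c ≠ 0)
    (h : ∀ θ : Idx d n, (A.submatrix θ.1 id).det = c * (A'.submatrix θ.1 id).det) :
    Submodule.span K (Set.range A.transpose) = Submodule.span K (Set.range A'.transpose) := by
  obtain ⟨θ, hθ⟩ := exists_det_ne_zero A hA
  have hθ' : (A'.submatrix θ.1 id).det ≠ 0 := fun h0 => hθ (by rw [h, h0, mul_zero])
  have key : A * (A.submatrix θ.1 id).adjugate = c • (A' * (A'.submatrix θ.1 id).adjugate) := by
    ext i k
    rw [Matrix.smul_apply, mul_adjugate_apply, mul_adjugate_apply, smul_eq_mul]
    exact det_update_eq A A' c h _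
  have sub : ∀ (M : Matrix (Fin n) (Fin d) K) (P : Matrix (Fin d) (Fin d) K),
      Submodule.span K (Set.range (M * P).transpose) ≤ Submodule.span K (Set.range M.transpose) := by
    intro M P
    rw [Submodule.span_le]
    rintro _ ⟨k, rfl⟩
    have : (M * P).transpose k = ∑ j, P j k • M.transpose j := by
      funext i; simp [Matrix.mul_apply, mul_comm]
    rw [SetLike.mem_coe, this]
    exact Submodule.sum_mem _ fun j _ => Submodule.smul_mem _ _ (Submodule.subset_span ⟨j, rfl⟩)
  have hB : A = A' * (c • ((A'.submatrix θ.1 id).adjugate * (A.submatrix θ.1 id) * ((A.submatrix θ.1 id).det)⁻¹ •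
      (1 : Matrix (Fin d) (Fin d) K))) := by
    rw [Matrix.mul_smul, Matrix.mul_smul, Matrix.mul_one, Matrix.mul_smul, ← Matrix.mul_assoc, smul_comm,
      ← Matrix.smul_mul, ← key, Matrix.mul_assoc, Matrix.adjugate_mul, Matrix.mul_smul, Matrix.mul_one, smul_smul,
      inv_mul_cancel₀ hθ, one_smul]
  have hB' : A' = A * (c⁻¹ • ((A.submatrix θ.1 id).adjugate * (A'.submatrix θ.1 id) * ((A'.submatrix θ.1 id).det)⁻¹ •
      (1 : Matrix (Fin d) (Fin d) K))) := by
    rw [Matrix.mul_smul, Matrix.mul_smul, Matrix.mul_one, Matrix.mul_smul, ← Matrix.mul_assoc, key, Matrix.smul_mul,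
      Matrix.mul_assoc, Matrix.adjugate_mul, Matrix.mul_smul, Matrix.mul_one, smul_smul, smul_smul, smul_smul,
      show c⁻¹ * (A'.submatrix θ.1 id).det⁻¹ * c * (A'.submatrix θ.1 id).det = 1 by field_simp, one_smul]
  refine le_antisymm ?_ ?_
  · conv_lhs => rw [hB]
    exact sub _ _
  · conv_lhs => rw [hB']
    exact sub _ _

section Quadric

variable {e : ℕ}

lemma evalAt_quadric {R : Type u} [CommRing R] [Algebra K R] (B : Matrix (Fin n) (Fin (e + 1)) R) (i' : Idx e n)
    (j' : Idx (e + 2) n) : evalAt (K := K) B (quadric K i' j') = 0 := by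
  -- the last-row expansion of the first factor
  let C : Fin (e + 1) → R := fun t => (-1) ^ ((Fin.last e).val + t.val) * ((B.submatrix i'.1 id).submatrix id t.succAbove).det
  have hℓ : ∀ x, (B.submatrix (Fin.snoc i'.1 x) id).det = ∑ t, B x t * C t := by
    intro x
    rw [Matrix.det_succ_row _ (Fin.last e)]
    refine Finset.sum_congr rfl fun t _ => ?_
    have : (B.submatrix (Fin.snoc i'.1 x) id).submatrix (Fin.last e).succAbove t.succAbove =
        (B.submatrix i'.1 id).submatrix id t.succAbove := by
      ext a b; simp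
    rw [this]
    simp only [Matrix.submatrix_apply, Fin.snoc_last, id_eq, C]
    ring
  let M : Matrix (Fin (e + 2)) (Fin (e + 2)) R :=
    Matrix.of fun h => Fin.cons (∑ t, B (j'.1 h) t * C t) (fun t => B (j'.1 h) t)
  have hM : M.det = 0 := by
    have hv : M *ᵥ (Fin.cons 1 (fun t => -C t)) = 0 := by
      funext h
      simp [M, Matrix.mulVec, dotProduct, Fin.sum_univ_succ, Fin.cons_succ]
    have h0 : (M.adjugate * M) *ᵥ (Fin.cons 1 (fun t => -C t)) = 0 := by
      rw [← Matrix.mulVec_mulVec, hv, Matrix.mulVec_zero]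
    rw [Matrix.adjugate_mul, Matrix.smul_mulVec, Matrix.one_mulVec] at h0
    simpa using congrFun h0 0
  rw [quadric, map_sum]
  rw [Matrix.det_succ_column_zero] at hM
  refine Eq.trans ?_ (neg_zero (G := R))
  rw [← hM, ← Finset.sum_neg_distrib]
  refine Finset.sum_congr rfl fun h _ => ?_
  rw [map_mul, map_mul, map_pow, map_neg, map_one, evalAt_coord, evalAt_coord, hℓ]
  have : M.submatrix h.succAbove Fin.succ = B.submatrix (j'.1 ∘ h.succAbove) id := by
    ext a b; simp [M]
  rw [this]
  simp [M, pow_succ]

/-- Evaluation of a coordinate polynomial at a vector agrees on sorted tuples. -/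
lemma eval_coord_of_image (q : Idx d n → K) (a : Fin d → Fin n) (θ : Idx d n)
    (h : Finset.univ.image a = Finset.univ.image θ.1) :
    eval q (coord K d n a) = (-1) ^ invCount d n a * q θ := by
  have hc : (Finset.univ.image a).card = d := by rw [h]; exact (card_image_eq_iff θ.1).2 θ.2.injective
  rw [coord, dif_pos hc, map_mul, map_pow, map_neg, map_one, eval_X]
  congr 2
  exact Subtype.ext (Finset.orderEmbOfFin_unique hc
    (fun t => h ▸ Finset.mem_image.2 ⟨t, Finset.mem_univ _, rfl⟩) θ.2).symm

lemma eval_coord_eq (p q : Idx d n → K) (a : Fin d → Fin n)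
    (h : ∀ θ : Idx d n, Finset.univ.image θ.1 = Finset.univ.image a → p θ = q θ) :
    eval p (coord K d n a) = eval q (coord K d n a) := by
  by_cases hc : (Finset.univ.image a).card = d
  · have hi : Finset.univ.image (sortIdx d n a hc).1 = Finset.univ.image a :=
      Finset.image_orderEmbOfFin_univ _ hc
    rw [eval_coord_of_image p a _ hi.symm, eval_coord_of_image q a _ hi.symm, h _ hi]
  · simp [coord, hc]

/-- The relations determine a point from the coordinates next to a nonzero one. -/
theorem eq_of_quadrics (p q : Idx (e + 1) n → K)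
    (hp : ∀ (i' : Idx e n) (j' : Idx (e + 2) n), eval p (quadric K i' j') = 0)
    (hq : ∀ (i' : Idx e n) (j' : Idx (e + 2) n), eval q (quadric K i' j') = 0)
    (θ₀ : Idx (e + 1) n) (hp0 : p θ₀ = 1) (hq0 : q θ₀ = 1)
    (h1 : ∀ θ : Idx (e + 1) n, (Finset.univ.image θ.1 \ Finset.univ.image θ₀.1).card ≤ 1 → p θ = q θ) :
    p = q := by
  suffices ∀ N, ∀ θ : Idx (e + 1) n, (Finset.univ.image θ.1 \ Finset.univ.image θ₀.1).card ≤ N → p θ = q θ from
    funext fun θ => this _ θ le_rfl
  intro N
  induction N using Nat.strong_induction_on with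
  | _ N ih =>
    intro θ hθ
    set S := Finset.univ.image θ.1
    set S₀ := Finset.univ.image θ₀.1
    rcases Nat.lt_or_ge (S \ S₀).card 2 with hlt | hge
    · exact h1 θ (show (S \ S₀).card ≤ 1 by omega)
    obtain ⟨a, ha⟩ := Finset.card_pos.1 (show 0 < (S \ S₀).card by omega)
    obtain ⟨haS, haS₀⟩ := Finset.mem_sdiff.1 ha
    have hS : S.card = e + 1 := (card_image_eq_iff θ.1).2 θ.2.injective
    have hS₀ : S₀.card = e + 1 := (card_image_eq_iff θ₀.1).2 θ₀.2.injective
    have hi : (S.erase a).card = e := by rw [Finset.card_erase_of_mem haS, hS]; rfl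
    have hj : (insert a S₀).card = e + 2 := by rw [Finset.card_insert_of_notMem haS₀, hS₀]
    let i' : Idx e n := ⟨fun t => (S.erase a).orderEmbOfFin hi t, ((S.erase a).orderEmbOfFin hi).strictMono⟩
    let j' : Idx (e + 2) n := ⟨fun t => (insert a S₀).orderEmbOfFin hj t, ((insert a S₀).orderEmbOfFin hj).strictMono⟩
    have hij : Finset.univ.image i'.1 = S.erase a := Finset.image_orderEmbOfFin_univ _ hi
    have hjj : Finset.univ.image j'.1 = insert a S₀ := Finset.image_orderEmbOfFin_univ _ hj
    have hsnoc : ∀ x, Finset.univ.image (Fin.snoc i'.1 x : Fin (e + 1) → Fin n) = insert x (S.erase a) := by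
      intro x
      ext y
      simp only [Finset.mem_image, Finset.mem_univ, true_and, Finset.mem_insert, ← hij]
      constructor
      · rintro ⟨t, rfl⟩
        induction t using Fin.lastCases with
        | last => exact Or.inl (Fin.snoc_last _ _)
        | cast t => exact Or.inr ⟨t, by rw [Fin.snoc_castSucc]⟩
      · rintro (rfl | ⟨t, rfl⟩)
        · exact ⟨Fin.last e, Fin.snoc_last _ _⟩
        · exact ⟨t.castSucc, Fin.snoc_castSucc _ _ _⟩
    have hrest : ∀ h, Finset.univ.image (j'.1 ∘ h.succAbove) = (insert a S₀).erase (j'.1 h) := by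
      intro h
      ext y
      simp only [Finset.mem_image, Finset.mem_univ, true_and, Finset.mem_erase, ← hjj, Function.comp_apply]
      constructor
      · rintro ⟨t, rfl⟩
        exact ⟨fun e' => Fin.succAbove_ne h t (j'.2.injective e'), h.succAbove t, rfl⟩
      · rintro ⟨hne, t, rfl⟩
        obtain ⟨z, hz⟩ := Fin.exists_succAbove_eq (show t ≠ h from fun e' => hne (by rw [e']))
        exact ⟨z, by rw [hz]⟩
    obtain ⟨h₀, -, hh₀⟩ := Finset.mem_image.1 (show a ∈ Finset.univ.image j'.1 by rw [hjj]; exact Finset.mem_insert_self _ _)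
    -- all the other terms agree
    have hagree : ∀ h, h ≠ h₀ → eval p (coord K (e + 1) n (Fin.snoc i'.1 (j'.1 h))) *
        eval p (coord K (e + 1) n (j'.1 ∘ h.succAbove)) =
        eval q (coord K (e + 1) n (Fin.snoc i'.1 (j'.1 h))) *
        eval q (coord K (e + 1) n (j'.1 ∘ h.succAbove)) := by
      intro h hne
      have hx : j'.1 h ∈ S₀ := by
        have : j'.1 h ∈ insert a S₀ := hjj ▸ Finset.mem_image.2 ⟨h, Finset.mem_univ _, rfl⟩
        exact (Finset.mem_insert.1 this).resolve_left fun e' => hne (j'.2.injective (e'.trans hh₀.symm))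
      congr 1
      · refine eval_coord_eq p q _ fun ψ hψ => ih (N - 1) (by omega) ψ ?_
        rw [hψ, hsnoc, Finset.insert_sdiff_of_mem _ hx]
        have : ((S.erase a) \ S₀) = (S \ S₀).erase a := by ext y; simp; tauto
        rw [this, Finset.card_erase_of_mem ha]
        omega
      · refine eval_coord_eq p q _ fun ψ hψ => h1 ψ ?_
        rw [hψ, hrest]
        refine le_trans (Finset.card_le_card (t := {a}) ?_) (Finset.card_singleton a).le
        intro y hy
        simp only [Finset.mem_sdiff, Finset.mem_erase, Finset.mem_insert] at hy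
        rw [Finset.mem_singleton]
        exact hy.1.2.resolve_right hy.2
    have key := (hp i' j').trans (hq i' j').symm
    simp only [quadric, map_sum] at key
    rw [← Finset.add_sum_erase _ _ (Finset.mem_univ h₀), ← Finset.add_sum_erase _ _ (Finset.mem_univ h₀)] at key
    rw [Finset.sum_congr rfl (s₁ := Finset.univ.erase h₀) (g := fun h => eval q ((-1 : PlRing K (e + 1) n) ^ (h.val + 1) *
      coord K (e + 1) n (Fin.snoc i'.1 (j'.1 h)) * coord K (e + 1) n (j'.1 ∘ h.succAbove))) (fun h hh => by
        simp only [map_mul, map_pow, map_neg, map_one]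
        rw [mul_assoc, mul_assoc, hagree h (Finset.ne_of_mem_erase hh)])] at key
    have key := add_right_cancel key
    have e1 : Finset.univ.image (Fin.snoc i'.1 (j'.1 h₀) : Fin (e + 1) → Fin n) = Finset.univ.image θ.1 := by
      rw [hsnoc, hh₀, Finset.insert_erase haS]
    have e2 : Finset.univ.image (j'.1 ∘ h₀.succAbove) = Finset.univ.image θ₀.1 := by
      rw [hrest, hh₀, Finset.erase_insert haS₀]
    simp only [map_mul, map_pow, map_neg, map_one, eval_coord_of_image _ _ θ e1, eval_coord_of_image _ _ θ₀ e2,
      hp0, hq0, mul_one] at key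
    have hu : ∀ m : ℕ, IsUnit ((-1 : K) ^ m) := fun m => isUnit_one.neg.pow m
    exact (hu _).mul_left_cancel ((hu _).mul_left_cancel ((hu _).mul_right_cancel key))

theorem quadrics_iff (q : Idx (e + 1) n → K) (hq : q ≠ 0) :
    (∀ (i' : Idx e n) (j' : Idx (e + 2) n), eval q (quadric K i' j') = 0) ↔
      ∃ A : Matrix (Fin n) (Fin (e + 1)) K, ∀ θ : Idx (e + 1) n, q θ = (A.submatrix θ.1 id).det := by
  classical
  constructor
  · intro hQ
    obtain ⟨θ₀, hθ₀⟩ := Function.ne_iff.1 hq
    let q' : Idx (e + 1) n → K := fun θ => (q θ₀)⁻¹ * q θ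
    have hq'0 : q' θ₀ = 1 := inv_mul_cancel₀ hθ₀
    have hQ' : ∀ (i' : Idx e n) (j' : Idx (e + 2) n), eval q' (quadric K i' j') = 0 := by
      intro i' j'
      have hc : ∀ a, eval q' (coord K (e + 1) n a) = (q θ₀)⁻¹ * eval q (coord K (e + 1) n a) := by
        intro a
        unfold coord
        split_ifs
        · simp only [map_mul, map_pow, map_neg, map_one, eval_X, q']; ring
        · simp
      have := hQ i' j'
      simp only [quadric, map_sum, map_mul, map_pow, map_neg, map_one, hc] at this ⊢
      rw [show (∑ h : Fin (e + 2), (-1 : K) ^ (h.val + 1) * ((q θ₀)⁻¹ * eval q (coord K (e + 1) n (Fin.snoc i'.1 (j'.1 h)))) *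
          ((q θ₀)⁻¹ * eval q (coord K (e + 1) n (j'.1 ∘ h.succAbove)))) = ((q θ₀)⁻¹ * (q θ₀)⁻¹) *
          ∑ h : Fin (e + 2), (-1 : K) ^ (h.val + 1) * eval q (coord K (e + 1) n (Fin.snoc i'.1 (j'.1 h))) *
            eval q (coord K (e + 1) n (j'.1 ∘ h.succAbove)) by
          rw [Finset.mul_sum]; exact Finset.sum_congr rfl fun h _ => by ring, this, mul_zero]
    let A : Matrix (Fin n) (Fin (e + 1)) K :=
      Matrix.of fun i k => eval q' (coord K (e + 1) n (Function.update θ₀.1 k i))
    have hB : A.submatrix θ₀.1 id = 1 := by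
      ext l k
      simp only [Matrix.submatrix_apply, id_eq, A, Matrix.of_apply]
      by_cases h : l = k
      · subst h
        rw [Function.update_eq_self, eval_coord_of_image q' _ θ₀ rfl, hq'0,
          show invCount (e + 1) n θ₀.1 = 0 by
            rw [invCount, Finset.card_eq_zero, Finset.filter_eq_empty_iff]
            exact fun p _ hp => not_lt.2 (θ₀.2.monotone hp.1.le) hp.2]
        simp
      · rw [Matrix.one_apply_ne h, coord, dif_neg, map_zero]
        rw [card_image_eq_iff]
        intro hinj
        exact h (hinj (show Function.update θ₀.1 k (θ₀.1 l) l = Function.update θ₀.1 k (θ₀.1 l) k by simp [h]))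
    let p : Idx (e + 1) n → K := fun θ => (A.submatrix θ.1 id).det
    have hp0 : p θ₀ = 1 := by simp only [p, hB, Matrix.det_one]
    have hpQ : ∀ (i' : Idx e n) (j' : Idx (e + 2) n), eval p (quadric K i' j') = 0 := fun i' j' => by
      rw [← MvPolynomial.aeval_eq_eval]; exact evalAt_quadric A i' j'
    have hpq : p = q' := by
      refine eq_of_quadrics p q' hpQ hQ' θ₀ hp0 hq'0 fun θ hθ => ?_
      rcases Nat.lt_or_ge (Finset.univ.image θ.1 \ Finset.univ.image θ₀.1).card 1 with h0 | h1
      · have hsub : Finset.univ.image θ.1 = Finset.univ.image θ₀.1 := Finset.eq_of_subset_of_card_le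
          (Finset.sdiff_eq_empty_iff_subset.1 (Finset.card_eq_zero.1 (by omega)))
          (by rw [(card_image_eq_iff θ.1).2 θ.2.injective, (card_image_eq_iff θ₀.1).2 θ₀.2.injective])
        have : θ = θ₀ := Subtype.ext (Set.range_injOn_strictMono θ.2 θ₀.2 (by
          simpa using congrArg (fun s : Finset (Fin n) => (s : Set (Fin n))) hsub))
        rw [this, hp0, hq'0]
      · obtain ⟨i, hi⟩ := Finset.card_eq_one.1 (le_antisymm hθ h1)
        have hi' : i ∈ Finset.univ.image θ.1 \ Finset.univ.image θ₀.1 := by rw [hi]; exact Finset.mem_singleton_self i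
        have hcard : (Finset.univ.image θ₀.1 \ Finset.univ.image θ.1).card = 1 := by
          rw [← Finset.card_sdiff_comm ((card_image_eq_iff θ.1).2 θ.2.injective |>.trans
            ((card_image_eq_iff θ₀.1).2 θ₀.2.injective).symm), hi, Finset.card_singleton]
        obtain ⟨b, hb⟩ := Finset.card_eq_one.1 hcard
        have hb' : b ∈ Finset.univ.image θ₀.1 \ Finset.univ.image θ.1 := by rw [hb]; exact Finset.mem_singleton_self b
        obtain ⟨k, -, hk⟩ := Finset.mem_image.1 (Finset.mem_sdiff.1 hb').1
        have himg : Finset.univ.image (Function.update θ₀.1 k i) = Finset.univ.image θ.1 := by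
          refine Finset.eq_of_subset_of_card_le (fun y hy => ?_) ?_
          · obtain ⟨t, -, rfl⟩ := Finset.mem_image.1 hy
            by_cases ht : t = k
            · subst ht; simpa using (Finset.mem_sdiff.1 hi').1
            · rw [Function.update_of_ne ht]
              by_contra hn
              have : θ₀.1 t ∈ Finset.univ.image θ₀.1 \ Finset.univ.image θ.1 :=
                Finset.mem_sdiff.2 ⟨Finset.mem_image.2 ⟨t, Finset.mem_univ _, rfl⟩, hn⟩
              rw [hb, Finset.mem_singleton, ← hk] at this
              exact ht (θ₀.2.injective this)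
          · rw [(card_image_eq_iff θ.1).2 θ.2.injective, (card_image_eq_iff _).2]
            intro s t hst
            have hni := (Finset.mem_sdiff.1 hi').2
            by_cases hs : s = k <;> by_cases ht : t = k
            · rw [hs, ht]
            · subst hs; rw [Function.update_self, Function.update_of_ne ht] at hst
              exact absurd (Finset.mem_image.2 ⟨t, Finset.mem_univ _, hst.symm⟩) hni
            · subst ht; rw [Function.update_self, Function.update_of_ne hs] at hst
              exact absurd (Finset.mem_image.2 ⟨s, Finset.mem_univ _, hst⟩) hni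
            · rw [Function.update_of_ne hs, Function.update_of_ne ht] at hst
              exact θ₀.2.injective hst
        have hu : IsUnit ((-1 : K) ^ invCount (e + 1) n (Function.update θ₀.1 k i)) := isUnit_one.neg.pow _
        refine hu.mul_left_cancel ?_
        rw [← eval_coord_of_image p _ θ himg, ← eval_coord_of_image q' _ θ himg]
        have e3 := mul_adjugate_apply A θ₀.1 i k
        rw [hB, Matrix.adjugate_one, Matrix.mul_one, ← evalAt_coord (K := K)] at e3
        exact e3.symm
    refine ⟨A * Matrix.diagonal (Function.update (1 : Fin (e + 1) → K) 0 (q θ₀)), fun θ => ?_⟩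
    rw [show (A * Matrix.diagonal (Function.update (1 : Fin (e + 1) → K) 0 (q θ₀))).submatrix θ.1 id =
        A.submatrix θ.1 id * Matrix.diagonal (Function.update (1 : Fin (e + 1) → K) 0 (q θ₀)) from Matrix.submatrix_mul _ _ _ id _
          Function.bijective_id, Matrix.det_mul, Matrix.det_diagonal,
      Finset.prod_update_of_mem (Finset.mem_univ _), Finset.prod_eq_one (f := (1 : Fin (e + 1) → K)) (fun x _ => rfl), mul_one]
    show q θ = p θ * q θ₀
    rw [hpq]
    show q θ = (q θ₀)⁻¹ * q θ * q θ₀
    have hne : q θ₀ ≠ 0 := hθ₀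
    field_simp
  · rintro ⟨A, hA⟩ i' j'
    rw [← MvPolynomial.aeval_eq_eval, show q = fun θ => (A.submatrix θ.1 id).det from funext hA]
    exact evalAt_quadric A i' j'

end Quadric

end SMTLib
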