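import Groth.Agent.SMTLib.Coord
import Mathlib.RingTheory.MvPolynomial.MonomialOrder
import Mathlib.Algebra.MvPolynomial.Funext
import Mathlib.Data.Prod.Lex

/-!
# Leading terms of standard monomials
-/

universe u

namespace SMTLib

open MvPolynomial W4bk4grassmannian

variable {d n : ℕ}

/-- The matrix entries, ordered lexicographically. -/
abbrev Ent (d n : ℕ) : Type := Lex (Fin n × Fin d)

/-- The variable at a position. -/
abbrev ent (i : Fin n) (t : Fin d) : Ent d n := toLex (i, t)

lemma ent_inj {i i' : Fin n} {t t' : Fin d} : ent i t = ent i' t' ↔ i = i' ∧ t = t' := by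
  rw [toLex_inj, Prod.mk.injEq]

variable (K : Type u) [CommRing K]

/-- The generic matrix of a Schubert cell closure. -/
noncomputable def cellGen (τ : Idx d n) : Matrix (Fin n) (Fin d) (MvPolynomial (Ent d n) K) :=
  Matrix.of fun i t => if i ≤ τ.1 t then X (ent i t) else 0

/-- The comorphism to the Schubert variety. -/
noncomputable def cellMap (τ : Idx d n) : PlRing K d n →ₐ[K] MvPolynomial (Ent d n) K :=
  evalAt (cellGen K τ)

variable {K}

/-- The exponent of a term of a minor. -/
noncomputable def expOf (θ : Idx d n) (σ : Equiv.Perm (Fin d)) : Ent d n →₀ ℕ :=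
  ∑ t, Finsupp.single (ent (θ.1 (σ t)) t) 1

lemma expOf_apply (θ : Idx d n) (σ : Equiv.Perm (Fin d)) (i : Fin n) (t : Fin d) :
    expOf θ σ (ent i t) = if θ.1 (σ t) = i then 1 else 0 := by
  rw [expOf, Finsupp.finsetSum_apply, Finset.sum_eq_single t]
  · simp only [Finsupp.single_apply, ent_inj, and_true]
  · intro s _ hs
    rw [Finsupp.single_apply, if_neg fun h => hs (ent_inj.1 h).2]
  · simp

lemma expOf_lt (θ : Idx d n) {σ : Equiv.Perm (Fin d)} (hσ : σ ≠ 1) :
    toLex (expOf θ σ) < toLex (expOf θ 1) := by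
  have hne : (Finset.univ.filter fun s => σ s ≠ s).Nonempty := by
    by_contra h
    rw [Finset.not_nonempty_iff_eq_empty, Finset.filter_eq_empty_iff] at h
    exact hσ (Equiv.ext fun s => not_not.1 (h (Finset.mem_univ s)))
  let s₀ := Finset.min' _ hne
  have hs₀ : σ s₀ ≠ s₀ := (Finset.mem_filter.1 (Finset.min'_mem _ hne)).2
  have hfix : ∀ s, s < s₀ → σ s = s := fun s hs => by
    by_contra h
    exact not_le.2 hs (Finset.min'_le _ s (Finset.mem_filter.2 ⟨Finset.mem_univ s, h⟩))
  have hlt : s₀ < σ s₀ := lt_of_le_of_ne (not_lt.1 fun h => hs₀ (σ.injective (hfix _ h))) (Ne.symm hs₀)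
  rw [Finsupp.Lex.lt_iff]
  refine ⟨ent (θ.1 s₀) s₀, fun j hj => ?_, ?_⟩
  · obtain ⟨⟨i, t⟩, rfl⟩ := toLex.surjective j
    show expOf θ σ (ent i t) = expOf θ 1 (ent i t)
    rw [expOf_apply, expOf_apply, Equiv.Perm.one_apply]
    have hi : i ≤ θ.1 s₀ := by
      rcases Prod.Lex.lt_iff.1 hj with h | h
      · exact le_of_lt h
      · exact le_of_eq h.1
    rcases lt_trichotomy t s₀ with ht | rfl | ht
    · rw [hfix t ht]
    · rcases Prod.Lex.lt_iff.1 hj with h | ⟨-, h⟩
      · rw [if_neg, if_neg]
        · exact (ne_of_gt h)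
        · exact (ne_of_gt (lt_trans h (θ.2 hlt)))
      · exact absurd h (lt_irrefl _)
    · have h1 : i ≠ θ.1 t := (lt_of_le_of_lt hi (θ.2 ht)).ne
      rw [if_neg (Ne.symm h1)]
      rw [if_neg]
      intro h2
      have hge : s₀ ≤ σ t := not_lt.1 fun h => (ne_of_lt (lt_trans h ht)) (σ.injective (hfix _ h))
      rcases hge.lt_or_eq with h | h
      · exact (lt_of_le_of_lt hi (θ.2 h)).ne h2.symm
      · rcases Prod.Lex.lt_iff.1 hj with h' | ⟨-, h'⟩
        · exact h'.ne (by simp only [ofLex_toLex] at h' ⊢; rw [← h2, h])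
        · exact absurd h' (not_lt.2 (by simpa using ht.le))
  · show expOf θ σ (ent (θ.1 s₀) s₀) < expOf θ 1 (ent (θ.1 s₀) s₀)
    rw [expOf_apply, expOf_apply, Equiv.Perm.one_apply, if_pos rfl, if_neg (fun h => hs₀ (θ.2.injective h))]
    exact one_pos

lemma cellMap_X (τ θ : Idx d n) : cellMap K τ (X θ) =
    ∑ σ : Equiv.Perm (Fin d), (Equiv.Perm.sign σ : ℤ) •
      (if ∀ t, θ.1 (σ t) ≤ τ.1 t then monomial (expOf θ σ) (1 : K) else 0) := by
  rw [cellMap, evalAt_X, Matrix.det_apply]
  refine Finset.sum_congr rfl fun σ _ => ?_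
  rw [Units.smul_def]
  congr 1
  simp only [Matrix.submatrix_apply, id_eq, cellGen, Matrix.of_apply]
  split_ifs with h
  · rw [expOf, monomial_sum_one]
    exact Finset.prod_congr rfl fun t _ => by rw [if_pos (h t)]; rfl
  · push Not at h
    obtain ⟨t, ht⟩ := h
    exact Finset.prod_eq_zero (Finset.mem_univ t) (if_neg (not_le.2 ht))

lemma cellMap_X_eq_zero (τ θ : Idx d n) (h : ¬ θ ≤ τ) : cellMap K τ (X θ) = 0 := by
  obtain ⟨s, hs⟩ : ∃ s, τ.1 s < θ.1 s := by
    by_contra! h'
    exact h h'
  rw [cellMap_X]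
  refine Finset.sum_eq_zero fun σ _ => ?_
  rw [if_neg, smul_zero]
  intro hall
  obtain ⟨t, ht, hts⟩ : ∃ t, t ≤ s ∧ s ≤ σ t := by
    by_contra! h'
    have := Finset.card_le_card_of_injOn σ (s := Finset.Iic s) (t := Finset.Iio s)
      (fun t ht => Finset.mem_Iio.2 (h' t (Finset.mem_Iic.1 ht))) σ.injective.injOn
    simp at this
  exact absurd ((hall t).trans (τ.2.monotone ht)) (not_le.2 (lt_of_lt_of_le hs (θ.2.monotone hts)))

lemma degree_cellMap_X [Nontrivial K] (τ θ : Idx d n) (h : θ ≤ τ) :
    MonomialOrder.lex.Monic (cellMap K τ (X θ)) ∧ MonomialOrder.lex.degree (cellMap K τ (X θ)) = expOf θ 1 := by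
  classical
  have hcoeff : coeff (expOf θ 1) (cellMap K τ (X θ)) = 1 := by
    rw [cellMap_X, coeff_sum, Finset.sum_eq_single 1]
    · rw [if_pos fun t => by simpa using h t]
      simp
    · intro σ _ hσ
      split_ifs
      · rw [coeff_smul, coeff_monomial, if_neg fun e => (expOf_lt θ hσ).ne (congrArg toLex e), smul_zero]
      · simp
    · simp
  have hle : ∀ e ∈ (cellMap K τ (X θ)).support, MonomialOrder.lex.toSyn e ≤ MonomialOrder.lex.toSyn (expOf θ 1) := by
    intro e he
    rw [cellMap_X] at he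
    obtain ⟨σ, -, hσ⟩ := Finset.mem_biUnion.1 (support_sum he)
    split_ifs at hσ
    · have := support_smul hσ
      rw [support_monomial, if_neg (one_ne_zero (α := K)), Finset.mem_singleton] at this
      subst this
      rcases eq_or_ne σ 1 with rfl | hne
      · exact le_rfl
      · exact (expOf_lt θ hne).le
    · simp at hσ
  have hdeg : MonomialOrder.lex.degree (cellMap K τ (X θ)) = expOf θ 1 := by
    apply MonomialOrder.lex.toSyn.injective
    refine le_antisymm (MonomialOrder.degree_le_iff.2 hle) (MonomialOrder.lex.le_degree ?_)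
    rw [mem_support_iff, hcoeff]
    exact one_ne_zero
  exact ⟨by rw [MonomialOrder.Monic, MonomialOrder.leadingCoeff, hdeg, hcoeff], hdeg⟩

/-- The exponent of a product along a tuple. -/
noncomputable def expChain {m : ℕ} (c : Fin m → Idx d n) : Ent d n →₀ ℕ := ∑ k, expOf (c k) 1

lemma degree_cellMap_chainMon [Nontrivial K] (τ : Idx d n) {m : ℕ} (c : Fin m → Idx d n) (h : ∀ k, c k ≤ τ) :
    MonomialOrder.lex.Monic (cellMap K τ (chainMon K c)) ∧
      MonomialOrder.lex.degree (cellMap K τ (chainMon K c)) = expChain c := by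
  rw [chainMon, map_prod]
  refine ⟨MonomialOrder.Monic.prod fun k _ => (degree_cellMap_X τ _ (h k)).1, ?_⟩
  rw [MonomialOrder.degree_prod_of_regular fun k _ => by
    rw [(degree_cellMap_X τ _ (h k)).1.leadingCoeff_eq_one]; exact isRegular_one]
  exact Finset.sum_congr rfl fun k _ => (degree_cellMap_X τ _ (h k)).2

lemma cellMap_chainMon_eq_zero (τ : Idx d n) {m : ℕ} (c : Fin m → Idx d n) {k : Fin m} (h : ¬ c k ≤ τ) :
    cellMap K τ (chainMon K c) = 0 := by
  rw [chainMon, map_prod]
  exact Finset.prod_eq_zero (Finset.mem_univ k) (cellMap_X_eq_zero τ _ h)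

lemma expChain_apply {m : ℕ} (c : Fin m → Idx d n) (i : Fin n) (t : Fin d) :
    expChain c (ent i t) = (Finset.univ.filter fun k => (c k).1 t = i).card := by
  rw [expChain, Finsupp.finsetSum_apply, Finset.card_filter]
  exact Finset.sum_congr rfl fun k _ => by rw [expOf_apply, Equiv.Perm.one_apply]

lemma le_of_card_filter_eq {m : ℕ} (f g : Fin m → Fin n) (hf : Antitone f) (hg : Antitone g)
    (h : ∀ i, (Finset.univ.filter fun k => f k = i).card = (Finset.univ.filter fun k => g k = i).card)
    (k : Fin m) : f k ≤ g k := by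
  have hsum : ∀ (φ : Fin m → Fin n) (i : Fin n), (Finset.univ.filter fun k => i ≤ φ k).card =
      ∑ j ∈ Finset.Ici i, (Finset.univ.filter fun k => φ k = j).card := fun φ i => by
    rw [Finset.card_eq_sum_card_fiberwise (f := φ) (t := Finset.Ici i) (fun x hx => by simpa using hx)]
    refine Finset.sum_congr rfl fun j hj => ?_
    rw [Finset.filter_filter]
    congr 1
    ext x
    simp only [Finset.mem_filter, Finset.mem_univ, true_and, Finset.mem_Ici] at hj ⊢
    exact ⟨fun h => h.2, fun h => ⟨h ▸ hj, h⟩⟩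
  by_contra hlt
  have h1 : (Finset.Iic k).card ≤ (Finset.univ.filter fun l => f k ≤ f l).card :=
    Finset.card_le_card fun l hl => Finset.mem_filter.2 ⟨Finset.mem_univ l, hf (Finset.mem_Iic.1 hl)⟩
  have h2 : (Finset.univ.filter fun l => f k ≤ g l).card ≤ (Finset.Iio k).card :=
    Finset.card_le_card fun l hl => Finset.mem_Iio.2 (not_le.1 fun hkl =>
      hlt ((Finset.mem_filter.1 hl).2.trans (hg hkl)))
  rw [hsum f, Finset.sum_congr rfl fun j _ => h j, ← hsum g, Fin.card_Iic] at h1
  rw [Fin.card_Iio] at h2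
  omega

lemma expChain_injective (hd : 0 < d) {m m' : ℕ} (c : Fin m → Idx d n) (c' : Fin m' → Idx d n)
    (hc : Antitone c) (hc' : Antitone c') (h : expChain c = expChain c') :
    (⟨m, c⟩ : Σ m, Fin m → Idx d n) = ⟨m', c'⟩ := by
  have hcol : ∀ i t, (Finset.univ.filter fun k => (c k).1 t = i).card =
      (Finset.univ.filter fun k => (c' k).1 t = i).card := fun i t => by
    rw [← expChain_apply, ← expChain_apply, h]
  have hm : m = m' := by
    have e : ∀ {l : ℕ} (b : Fin l → Idx d n),
        ∑ i, (Finset.univ.filter fun k => (b k).1 ⟨0, hd⟩ = i).card = l := fun b => by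
      rw [← Finset.card_eq_sum_card_fiberwise (fun x _ => Finset.mem_univ _), Finset.card_univ, Fintype.card_fin]
    rw [← e c, Finset.sum_congr rfl fun i _ => hcol i _, e c']
  subst hm
  congr 1
  funext k
  refine Subtype.ext (funext fun t => le_antisymm ?_ ?_)
  · exact le_of_card_filter_eq (fun k => (c k).1 t) (fun k => (c' k).1 t) (fun a b h => hc h t)
      (fun a b h => hc' h t) (fun i => hcol i t) k
  · exact le_of_card_filter_eq (fun k => (c' k).1 t) (fun k => (c k).1 t) (fun a b h => hc' h t)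
      (fun a b h => hc h t) (fun i => (hcol i t).symm) k

/-- Monic polynomials with distinct degrees are linearly independent. -/
lemma linearIndependent_of_degree {σ ι : Type*} (μ : MonomialOrder σ) (v : ι → MvPolynomial σ K)
    (hmon : ∀ i, μ.Monic (v i)) (hinj : Function.Injective fun i => μ.degree (v i)) :
    LinearIndependent K v := by
  classical
  rw [linearIndependent_iff']
  intro s
  induction hs : s.card generalizing s with
  | zero => intro g _ i hi; rw [Finset.card_eq_zero.1 hs] at hi; simp at hi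
  | succ k ih =>
    intro g hg
    obtain ⟨j, hj, hmax⟩ := s.exists_max_image (fun i => μ.toSyn (μ.degree (v i)))
      (Finset.card_pos.1 (by omega))
    have h0 : ∀ i ∈ s, i ≠ j → coeff (μ.degree (v j)) (v i) = 0 := fun i hi hne =>
      μ.coeff_eq_zero_of_lt (lt_of_le_of_ne (hmax i hi) fun e => hne (hinj (μ.toSyn.injective e)))
    have hgj : g j = 0 := by
      have := congrArg (coeff (μ.degree (v j))) hg
      rw [coeff_sum, Finset.sum_eq_single j (fun i hi hne => by rw [coeff_smul, h0 i hi hne, smul_zero])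
        (fun h => absurd hj h), coeff_smul, MonomialOrder.Monic.coeff_degree (hmon j), smul_eq_mul, mul_one,
        coeff_zero] at this
      exact this
    have := ih (s.erase j) (by rw [Finset.card_erase_of_mem hj, hs]; rfl) g (by
      rw [← hg, ← Finset.add_sum_erase _ _ hj, hgj, zero_smul, zero_add])
    intro i hi
    rcases eq_or_ne i j with rfl | hne
    · exact hgj
    · exact this i (Finset.mem_erase.2 ⟨hne, hi⟩)

/-- Standard monomials below `τ` are independent on the Schubert variety. -/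
theorem linearIndependent_cellMap (hd : 0 < d) (τ : Idx d n) :
    LinearIndependent K (fun c : (Σ m : ℕ, {c : Fin m → Idx d n // Antitone c ∧ ∀ k, c k ≤ τ}) =>
      cellMap K τ (chainMon K c.2.1)) := by
  nontriviality K
  refine linearIndependent_of_degree MonomialOrder.lex _
    (fun c => (degree_cellMap_chainMon τ c.2.1 c.2.2.2).1) ?_
  rintro ⟨m, c, hc, hcτ⟩ ⟨m', c', hc', hcτ'⟩ h
  simp only [(degree_cellMap_chainMon (K := K) τ c hcτ).2, (degree_cellMap_chainMon (K := K) τ c' hcτ').2] at h
  have := expChain_injective hd c c' hc hc' h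
  obtain ⟨rfl, h2⟩ := Sigma.mk.inj_iff.1 this
  cases eq_of_heq h2
  rfl

end SMTLib
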