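import Groth.Agent.SMTLib.Coord
import Mathlib.Data.List.Sort
import Mathlib.RingTheory.Ideal.Span

/-!
# Straightening
-/

universe u

namespace SMTLib

open MvPolynomial W4bk4grassmannian

variable {d n : ℕ}

/-- The sum of the entries. -/
def wt (a : Fin d → Fin n) : ℕ := ∑ t, (a t).val

lemma wt_strictMono {a b : Idx d n} (h : a < b) : wt a.1 < wt b.1 := by
  obtain ⟨hle, hne⟩ := lt_iff_le_and_ne.1 h
  obtain ⟨t, ht⟩ : ∃ t, a.1 t ≠ b.1 t := Function.ne_iff.1 fun e => hne (Subtype.ext e)
  refine Finset.sum_lt_sum (fun s _ => Fin.le_def.1 (hle s)) ⟨t, Finset.mem_univ t, ?_⟩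
  exact Fin.lt_def.1 (lt_of_le_of_ne (hle t) ht)

lemma wt_le (a : Fin d → Fin n) : wt a ≤ d * n := by
  refine (Finset.sum_le_sum (g := fun _ => n) fun t _ => (a t).isLt.le).trans ?_
  rw [Finset.sum_const, Finset.card_univ, Fintype.card_fin, smul_eq_mul]

lemma wt_sortIdx (a : Fin d → Fin n) (h : (Finset.univ.image a).card = d) : wt (sortIdx d n a h).1 = wt a := by
  obtain ⟨π, hπ, -⟩ := exists_perm_sort a h
  conv_rhs => rw [wt, hπ]
  exact (Equiv.sum_comp π fun t => ((sortIdx d n a h).1 t).val).symm

lemma movingRows_strictMono {i j : Idx d n} {r : Fin d} (h : i.1 r < j.1 r) :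
    StrictMono (movingRows i j r) := by
  refine Fin.strictMono_iff_lt_succ.2 fun k => ?_
  unfold movingRows
  by_cases h1 : k.val + 1 ≤ r.val
  · rw [dif_pos (show k.castSucc.val ≤ r.val by simp; omega), dif_pos (show k.succ.val ≤ r.val by simpa using h1)]
    exact i.2 (Fin.lt_def.2 (by simp))
  · rw [dif_neg (show ¬ k.succ.val ≤ r.val by simpa using h1)]
    by_cases h2 : k.val ≤ r.val
    · rw [dif_pos (show k.castSucc.val ≤ r.val by simpa using h2)]
      have : k = r := Fin.ext (by omega)
      subst this
      exact h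
    · rw [dif_neg (show ¬ k.castSucc.val ≤ r.val by simpa using h2)]
      refine j.2 (Fin.lt_def.2 ?_)
      simp
      omega

lemma le_orderEmbOfFin_val {N k : ℕ} (A : Finset (Fin N)) (hA : A.card = k) (x : Fin k) :
    x.val ≤ (A.orderEmbOfFin hA x).val := by
  obtain ⟨x, hx⟩ := x
  induction x with
  | zero => exact Nat.zero_le _
  | succ x ih =>
    exact Nat.succ_le_of_lt (lt_of_le_of_lt (ih (by omega))
      (Fin.lt_def.1 ((A.orderEmbOfFin hA).strictMono (show (⟨x, by omega⟩ : Fin k) < ⟨x + 1, hx⟩ from
        Fin.lt_def.2 (Nat.lt_succ_self x)))))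

/-- The identity shuffle. -/
def idShuffle (r : Fin d) : Finset (Fin (d + 1)) := Finset.univ.filter fun k => k.val ≤ r.val

lemma idShuffle_card (r : Fin d) : (idShuffle r).card = r.val + 1 := by
  have : idShuffle r = Finset.Iic (⟨r.val, by omega⟩ : Fin (d + 1)) := by ext k; simp [idShuffle, Fin.le_def]
  rw [this, Fin.card_Iic]

lemma idShuffle_emb (r : Fin d) (x : Fin (r.val + 1)) :
    (idShuffle r).orderEmbOfFin (idShuffle_card r) x = ⟨x.val, by omega⟩ :=
  (congrFun (Finset.orderEmbOfFin_unique (f := fun y : Fin (r.val + 1) => (⟨y.val, by omega⟩ : Fin (d + 1)))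
    (idShuffle_card r) (fun y => by simp [idShuffle]; omega) fun a b h => h) x).symm

lemma idShuffle_compl_card (r : Fin d) : (idShuffle r)ᶜ.card = d - r.val := by
  rw [Finset.card_compl, idShuffle_card, Fintype.card_fin]; omega

lemma idShuffle_compl_emb (r : Fin d) (x : Fin (d - r.val)) :
    (idShuffle r)ᶜ.orderEmbOfFin (idShuffle_compl_card r) x = ⟨r.val + 1 + x.val, by omega⟩ :=
  (congrFun (Finset.orderEmbOfFin_unique
    (f := fun y : Fin (d - r.val) => (⟨r.val + 1 + y.val, by omega⟩ : Fin (d + 1)))
    (idShuffle_compl_card r) (fun y => by simp [idShuffle]; omega) fun a b h => by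
      rw [Fin.lt_def]; simp only; rw [Fin.lt_def] at h; omega) x).symm

lemma shuffleI_id (i j : Idx d n) (r : Fin d) : shuffleI i j r (idShuffle r) (idShuffle_card r) = i.1 := by
  funext t
  unfold shuffleI
  by_cases h : t.val ≤ r.val
  · rw [dif_pos h, idShuffle_emb, movingRows, dif_pos (by exact h)]
  · rw [dif_neg h]

lemma shuffleJ_id (i j : Idx d n) (r : Fin d) : shuffleJ i j r (idShuffle r) (idShuffle_card r) = j.1 := by
  funext t
  unfold shuffleJ
  by_cases h : t.val < r.val
  · rw [dif_pos h]
  · rw [dif_neg h, idShuffle_compl_emb, movingRows,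
      dif_neg (show ¬ r.val + 1 + (t.val - r.val) ≤ r.val by omega)]
    exact congrArg j.1 (Fin.ext (by simp; omega))

lemma wt_shuffle_add (i j : Idx d n) (r : Fin d) (A : Finset (Fin (d + 1))) (hA : A.card = r.val + 1) :
    wt (shuffleI i j r A hA) + wt (shuffleJ i j r A hA) = wt i.1 + wt j.1 ∧
    (i.1 r < j.1 r → A ≠ idShuffle r → wt i.1 < wt (shuffleI i j r A hA)) := by
  -- the moving part of the first tuple
  let m : Fin (d + 1) → ℕ := fun k => (movingRows i j r k).val
  have eI : ∀ B hB, wt (shuffleI i j r B hB) =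
      (∑ k ∈ B, m k) + ∑ t ∈ Finset.univ.filter (fun t : Fin d => ¬ t.val ≤ r.val), (i.1 t).val := by
    intro B hB
    rw [wt, ← Finset.sum_filter_add_sum_filter_not Finset.univ (fun t : Fin d => t.val ≤ r.val)]
    congr 1
    · conv_rhs => arg 1; rw [← B.image_orderEmbOfFin_univ hB]
      rw [Finset.sum_image fun x _ y _ h => (B.orderEmbOfFin hB).injective h]
      refine Finset.sum_bij' (fun t ht => ⟨t.val, by simp at ht; omega⟩) (fun (x : Fin (r.val + 1)) _ => (⟨x.val, by have := x.isLt; have := r.isLt; omega⟩ : Fin d))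
        (fun t ht => Finset.mem_univ _) (fun x _ => Finset.mem_filter.2 ⟨Finset.mem_univ _, Nat.lt_succ_iff.1 x.isLt⟩) (fun t ht => rfl) (fun x _ => rfl) ?_
      intro t ht
      simp only [Finset.mem_filter, Finset.mem_univ, true_and] at ht
      simp [shuffleI, ht, m]
    · refine Finset.sum_congr rfl fun t ht => ?_
      simp only [Finset.mem_filter, Finset.mem_univ, true_and] at ht
      simp [shuffleI, ht]
  have eJ : ∀ B hB, wt (shuffleJ i j r B hB) =
      (∑ k ∈ Bᶜ, m k) + ∑ t ∈ Finset.univ.filter (fun t : Fin d => t.val < r.val), (j.1 t).val := by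
    intro B hB
    have hC : Bᶜ.card = d - r.val := by rw [Finset.card_compl, hB, Fintype.card_fin]; omega
    rw [wt, ← Finset.sum_filter_add_sum_filter_not Finset.univ (fun t : Fin d => t.val < r.val), add_comm]
    congr 1
    · conv_rhs => arg 1; rw [← Bᶜ.image_orderEmbOfFin_univ hC]
      rw [Finset.sum_image fun x _ y _ h => (Bᶜ.orderEmbOfFin hC).injective h]
      refine Finset.sum_bij' (fun t ht => ⟨t.val - r.val, by simp at ht; omega⟩)
        (fun x _ => ⟨r.val + x.val, by omega⟩)
        (fun t ht => Finset.mem_univ _) (fun x _ => by simp; exact Nat.le_add_right _ _)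
        (fun t ht => by simp at ht; exact Fin.ext (by simp; omega)) (fun x _ => Fin.ext (by simp)) ?_
      intro t ht
      simp only [Finset.mem_filter, Finset.mem_univ, true_and] at ht
      have : ¬ t < r := ht
      simp [shuffleJ, this, m]
    · refine Finset.sum_congr rfl fun t ht => ?_
      simp only [Finset.mem_filter, Finset.mem_univ, true_and] at ht
      have : t < r := ht
      simp [shuffleJ, this]
  have hI := eI A hA
  have hJ := eJ A hA
  have hI0 := eI _ (idShuffle_card r)
  have hJ0 := eJ _ (idShuffle_card r)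
  rw [shuffleI_id] at hI0
  rw [shuffleJ_id] at hJ0
  refine ⟨?_, fun hp hne => ?_⟩
  · have := Finset.sum_add_sum_compl A m
    have := Finset.sum_add_sum_compl (idShuffle r) m
    omega
  · have key : ∑ k ∈ idShuffle r, m k < ∑ k ∈ A, m k := by
      have hm : ∀ a b, a ≤ b → m a ≤ m b := fun a b h => Fin.le_def.1 ((movingRows_strictMono hp).monotone h)
      conv_lhs => arg 1; rw [← (idShuffle r).image_orderEmbOfFin_univ (idShuffle_card r)]
      conv_rhs => arg 1; rw [← A.image_orderEmbOfFin_univ hA]
      rw [Finset.sum_image fun x _ y _ h => ((idShuffle r).orderEmbOfFin _).injective h,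
        Finset.sum_image fun x _ y _ h => (A.orderEmbOfFin hA).injective h]
      simp only [idShuffle_emb]
      refine Finset.sum_lt_sum (fun x _ => hm _ _ (Fin.le_def.2 (le_orderEmbOfFin_val A hA x))) ?_
      by_contra hall
      push Not at hall
      refine hne (Finset.eq_of_subset_of_card_le (fun k hk => ?_) (by rw [idShuffle_card, hA])).symm |>.elim
      simp only [idShuffle, Finset.mem_filter, Finset.mem_univ, true_and] at hk
      have h1 := hall ⟨k.val, by omega⟩ (Finset.mem_univ _)
      have h2 : A.orderEmbOfFin hA ⟨k.val, by omega⟩ = k := by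
        refine le_antisymm (not_lt.1 fun hlt => ?_) (Fin.le_def.2 (le_orderEmbOfFin_val A hA ⟨k.val, by omega⟩))
        exact absurd h1 (not_le.2 (Fin.lt_def.1 (movingRows_strictMono hp hlt)))
      rw [← h2]
      exact A.orderEmbOfFin_mem hA _
    omega

/-- The squared weights of a product. -/
def potential (c : Multiset (Idx d n)) : ℕ := (c.map fun a => wt a.1 * wt a.1).sum

lemma potential_le (c : Multiset (Idx d n)) : potential c ≤ Multiset.card c * (d * n * (d * n)) := by
  rw [← smul_eq_mul (Multiset.card c)]
  refine (Multiset.sum_le_card_nsmul _ _ fun x hx => ?_).trans (by rw [Multiset.card_map])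
  obtain ⟨a, -, rfl⟩ := Multiset.mem_map.1 hx
  exact Nat.mul_le_mul (wt_le _) (wt_le _)

variable {K : Type u} [CommRing K]

/-- The monomial of a multiset of indices. -/
noncomputable def msMon (c : Multiset (Idx d n)) : PlRing K d n := (c.map X).prod

/-- The span of the standard monomials with all factors in `P`. -/
noncomputable def stdSpan (P : Idx d n → Prop) : Submodule K (PlRing K d n) :=
  Submodule.span K {f | ∃ (m : ℕ) (c : Fin m → Idx d n), Antitone c ∧ (∀ k, P (c k)) ∧ f = chainMon K c}

theorem msMon_mem (P : Idx d n → Prop) (I : Ideal (PlRing K d n))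
    (hI : ∀ (i j : Idx d n) (r : Fin d), IsPivot i j r → shuffleRel K i j r ∈ I)
    (hP : ∀ φ, ¬ P φ → X φ ∈ I) :
    ∀ (N : ℕ) (c : Multiset (Idx d n)), Multiset.card c * (d * n * (d * n)) ≤ potential c + N →
      (msMon c : PlRing K d n) ∈ stdSpan P ⊔ I.restrictScalars K := by
  classical
  intro N
  induction N using Nat.strong_induction_on with
  | _ N ih =>
    intro c hc
    by_cases hPc : ∀ a ∈ c, P a
    swap
    · push Not at hPc
      obtain ⟨a, ha, hPa⟩ := hPc
      obtain ⟨c', rfl⟩ := Multiset.exists_cons_of_mem ha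
      refine Submodule.mem_sup_right ?_
      rw [msMon, Multiset.map_cons, Multiset.prod_cons]
      exact I.mul_mem_right _ (hP a hPa)
    by_cases hcomp : ∀ a ∈ c, ∀ b ∈ c, a ≤ b ∨ b ≤ a
    · -- a chain
      let R : Idx d n → Idx d n → Prop := fun a b => wt b.1 ≤ wt a.1
      let l := (c.toList).insertionSort R
      have hl : (l : Multiset (Idx d n)) = c := by
        rw [show (l : Multiset (Idx d n)) = (c.toList : Multiset (Idx d n)) from
          Multiset.coe_eq_coe.2 (List.perm_insertionSort R c.toList), Multiset.coe_toList]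
      have hmem : ∀ a ∈ l, a ∈ c := fun a ha => hl ▸ ha
      have : IsTrans (Idx d n) R := ⟨fun a b c h1 h2 => le_trans h2 h1⟩
      have : Std.Total R := ⟨fun a b => le_total (wt b.1) (wt a.1)⟩
      have hs := List.pairwise_insertionSort R c.toList
      have hanti : Antitone fun k : Fin l.length => l.get k := by
        intro k k' hk
        rcases hk.lt_or_eq with hk | rfl
        · have h1 : wt (l.get k').1 ≤ wt (l.get k).1 := List.pairwise_iff_get.1 hs k k' hk
          rcases hcomp _ (hmem _ (l.get_mem k)) _ (hmem _ (l.get_mem k')) with h | h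
          · rcases h.lt_or_eq with h | h
            · exact absurd (wt_strictMono h) (not_lt.2 h1)
            · exact h.ge
          · exact h
        · exact le_rfl
      refine Submodule.mem_sup_left (Submodule.subset_span ⟨l.length, fun k => l.get k, hanti,
        fun k => hPc _ (hmem _ (l.get_mem k)), ?_⟩)
      rw [msMon, chainMon, ← hl, Multiset.map_coe, Multiset.prod_coe]
      conv_lhs => rw [← List.ofFn_get l, List.map_ofFn, List.prod_ofFn]
      rfl
    · -- an incomparable pair
      push Not at hcomp
      obtain ⟨a, ha, b, hb, hab, hba⟩ := hcomp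
      wlog hw : wt b.1 ≤ wt a.1 generalizing a b
      · exact this b hb a ha hba hab (le_of_not_ge hw)
      obtain ⟨c₁, rfl⟩ := Multiset.exists_cons_of_mem ha
      have hb' : b ∈ c₁ := (Multiset.mem_cons.1 hb).resolve_left fun h => hab (h ▸ le_rfl)
      obtain ⟨c', rfl⟩ := Multiset.exists_cons_of_mem hb'
      have hS : (Finset.univ.filter fun t : Fin d => a.1 t < b.1 t).Nonempty := by
        by_contra hne
        rw [Finset.not_nonempty_iff_eq_empty, Finset.filter_eq_empty_iff] at hne
        exact hba fun t => not_lt.1 (hne (Finset.mem_univ t))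
      let r := Finset.min' _ hS
      have hr : a.1 r < b.1 r := (Finset.mem_filter.1 (Finset.min'_mem _ hS)).2
      have hpiv : IsPivot a b r := ⟨fun t ht => not_lt.1 fun hlt =>
        not_le.2 ht (Finset.min'_le _ t (Finset.mem_filter.2 ⟨Finset.mem_univ t, hlt⟩)), hr⟩
      -- the leading term of the relation
      have h0 : shuffleTerm K a b r (idShuffle r) = X a * X b := by
        rw [shuffleTerm, dif_pos (idShuffle_card r), shuffleI_id, shuffleJ_id]
        have hsgn : shuffleSign r (idShuffle r) = 0 := by
          unfold shuffleSign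
          conv_lhs => arg 1; arg 1; rw [← (idShuffle r).image_orderEmbOfFin_univ (idShuffle_card r)]
          rw [Finset.sum_image fun x _ y _ h => ((idShuffle r).orderEmbOfFin _).injective h]
          simp only [idShuffle_emb]
          rw [Fin.sum_univ_eq_sum_range (fun i => i) (r.val + 1), Finset.sum_range_id, Nat.add_sub_cancel,
            Nat.mul_comm, Nat.sub_self]
        have hcoord : ∀ x : Idx d n, coord K d n x.1 = X x := fun x => by
          have hc : (Finset.univ.image x.1).card = d := (card_image_eq_iff x.1).2 x.2.injective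
          have hi : invCount d n x.1 = 0 := by
            rw [invCount, Finset.card_eq_zero, Finset.filter_eq_empty_iff]
            exact fun p _ hp => not_lt.2 (x.2.monotone hp.1.le) hp.2
          rw [coord, dif_pos hc, hi, pow_zero, one_mul]
          exact congrArg X (Subtype.ext (Finset.orderEmbOfFin_unique hc
            (fun t => Finset.mem_image.2 ⟨t, Finset.mem_univ _, rfl⟩) x.2).symm)
        rw [hsgn, pow_zero, one_mul, hcoord, hcoord]
      have hsum : msMon (a ::ₘ b ::ₘ c') = shuffleRel K a b r * msMon c' -
          ∑ A ∈ Finset.univ.erase (idShuffle r), shuffleTerm K a b r A * msMon c' := by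
        rw [shuffleRel, ← Finset.add_sum_erase _ _ (Finset.mem_univ (idShuffle r)), add_mul, Finset.sum_mul,
          add_sub_cancel_right, h0, msMon, Multiset.map_cons, Multiset.map_cons, Multiset.prod_cons,
          Multiset.prod_cons, msMon, mul_assoc]
      rw [hsum]
      refine Submodule.sub_mem _ (Submodule.mem_sup_right (I.mul_mem_right _ (hI a b r hpiv)))
        (Submodule.sum_mem _ fun A hA => ?_)
      rw [shuffleTerm]
      split_ifs with hcard
      swap
      · rw [zero_mul]; exact Submodule.zero_mem _
      have hwt := wt_shuffle_add a b r A hcard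
      obtain ⟨hadd, hlt⟩ := hwt
      have hlt := hlt hr (Finset.ne_of_mem_erase hA)
      unfold coord
      split_ifs with hI' hJ'
      · set x := sortIdx d n _ hI'
        set y := sortIdx d n _ hJ'
        have hx : wt x.1 = wt (shuffleI a b r A hcard) := wt_sortIdx _ _
        have hy : wt y.1 = wt (shuffleJ a b r A hcard) := wt_sortIdx _ _
        have hpot : potential (a ::ₘ b ::ₘ c') < potential (x ::ₘ y ::ₘ c') := by
          simp only [potential, Multiset.map_cons, Multiset.sum_cons]
          rw [← add_assoc, ← add_assoc]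
          refine Nat.add_lt_add_right ?_ _
          rw [hx, hy]
          nlinarith
        have hle := potential_le (x ::ₘ y ::ₘ c')
        simp only [Multiset.card_cons] at hc hle
        have hrec := ih (N - (potential (x ::ₘ y ::ₘ c') - potential (a ::ₘ b ::ₘ c'))) (by omega) (x ::ₘ y ::ₘ c')
          (by simp only [Multiset.card_cons]; omega)
        convert Submodule.smul_mem _ ((-1 : K) ^ (shuffleSign r A + invCount d n (shuffleI a b r A hcard) +
          invCount d n (shuffleJ a b r A hcard))) hrec using 1
        simp only [msMon, Multiset.map_cons, Multiset.prod_cons, Algebra.smul_def, map_mul, map_pow, map_neg, map_one,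
          pow_add]
        ring
      · rw [mul_zero, zero_mul]; exact Submodule.zero_mem _
      · rw [mul_zero, zero_mul, zero_mul]; exact Submodule.zero_mem _
      · rw [mul_zero, zero_mul]; exact Submodule.zero_mem _

theorem stdSpan_sup_eq_top (P : Idx d n → Prop) (I : Ideal (PlRing K d n))
    (hI : ∀ (i j : Idx d n) (r : Fin d), IsPivot i j r → shuffleRel K i j r ∈ I)
    (hP : ∀ φ, ¬ P φ → X φ ∈ I) : stdSpan P ⊔ I.restrictScalars K = ⊤ := by
  classical
  refine eq_top_iff.2 fun f _ => ?_
  rw [f.as_sum]
  refine Submodule.sum_mem _ fun s _ => ?_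
  rw [← mul_one (coeff s f), ← smul_eq_mul, ← smul_monomial]
  refine Submodule.smul_mem _ _ ?_
  have : (monomial s (1 : K) : PlRing K d n) = msMon (Finsupp.toMultiset s) := by
    rw [msMon, monomial_eq, C_1, one_mul, Finsupp.toMultiset_map, Finsupp.prod_toMultiset,
      Finsupp.prod_mapDomain_index (fun _ => pow_zero _) fun _ _ _ => pow_add _ _ _]
  rw [this]
  exact msMon_mem P I hI hP _ _ (Nat.le_add_left _ _)

end SMTLib
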