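import Groth.Agent.SMTLib.Shuffle
import Groth.Agent.SMTLib.Straighten
import Groth.Agent.SMTLib.Lead

/-!
# The standard monomial basis of Schubert varieties
-/

universe u

namespace SMTLib

open MvPolynomial W4bk4grassmannian

variable {K : Type u} [Field K] {d n : ℕ}

/-- The index type of standard monomials with a property. -/
abbrev Std (d n : ℕ) : Type := Σ m : ℕ, {c : Fin m → Idx d n // Antitone c}

/-- All factors below `τ`. -/
def Std.LE (c : Std d n) (τ : Idx d n) : Prop := ∀ k, c.2.1 k ≤ τ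

lemma plIdeal_le_schubertVanishing (τ : Idx d n) : plIdeal K τ ≤ schubertVanishing K d n τ := by
  rw [plIdeal, Ideal.span_le]
  intro f hf
  simp only [schubertVanishing, SetLike.mem_coe, Submodule.mem_iInf, RingHom.mem_ker]
  intro A hA
  show evalMinors K d n A f = 0
  rcases hf with ⟨i, j, r, -, rfl⟩ | ⟨φ, hφ, rfl⟩
  · exact evalAt_shuffleRel_eq_zero A i j r
  · rw [evalMinors_eq, evalAt_X]; exact hA φ hφ

lemma schubertVanishing_le_ker [Infinite K] (τ : Idx d n) :
    schubertVanishing K d n τ ≤ RingHom.ker (cellMap K τ).toRingHom := by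
  intro f hf
  simp only [schubertVanishing, Submodule.mem_iInf, RingHom.mem_ker] at hf
  refine RingHom.mem_ker.2 (MvPolynomial.funext fun x => ?_)
  show eval x (cellMap K τ f) = eval x 0
  rw [map_zero, ← MvPolynomial.aeval_eq_eval, cellMap, map_evalAt (MvPolynomial.aeval x)]
  refine hf ((cellGen K τ).map (MvPolynomial.aeval x)) fun φ hφ => ?_
  have h0 := congrArg (MvPolynomial.aeval x) (cellMap_X_eq_zero (K := K) τ φ hφ)
  rwa [cellMap, map_evalAt (MvPolynomial.aeval x), evalAt_X, map_zero] at h0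

/-- Standard monomials below `τ` span modulo the relations. -/
lemma exists_repr_of_plIdeal (τ : Idx d n) (f : PlRing K d n) :
    ∃ s ∈ Submodule.span K (Set.range fun c : (Σ m : ℕ, {c : Fin m → Idx d n // Antitone c ∧ ∀ k, c k ≤ τ}) =>
      chainMon K c.2.1), f - s ∈ plIdeal K τ := by
  have h := stdSpan_sup_eq_top (K := K) (fun φ => φ ≤ τ) (plIdeal K τ)
    (fun i j r hp => Ideal.subset_span (Or.inl ⟨i, j, r, hp, rfl⟩))
    (fun φ hφ => Ideal.subset_span (Or.inr ⟨φ, hφ, rfl⟩))
  obtain ⟨s, hs, p, hp, rfl⟩ := Submodule.mem_sup.1 (h ▸ Submodule.mem_top (x := f))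
  refine ⟨s, ?_, by rwa [add_sub_cancel_left]⟩
  refine Submodule.span_mono ?_ hs
  rintro g ⟨m, c, hc, hcτ, rfl⟩
  exact ⟨⟨m, c, hc, hcτ⟩, rfl⟩

theorem ker_cellMap_le_plIdeal (hd : 0 < d) (τ : Idx d n) :
    RingHom.ker (cellMap K τ).toRingHom ≤ plIdeal K τ := by
  intro f hf
  obtain ⟨s, hs, hfs⟩ := exists_repr_of_plIdeal τ f
  have h0 : cellMap K τ (f - s) = 0 := by
    have : plIdeal K τ ≤ RingHom.ker (cellMap K τ).toRingHom := by
      rw [plIdeal, Ideal.span_le]
      rintro g (⟨i, j, r, -, rfl⟩ | ⟨φ, hφ, rfl⟩)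
      · exact RingHom.mem_ker.2 (evalAt_shuffleRel_eq_zero _ i j r)
      · exact RingHom.mem_ker.2 (cellMap_X_eq_zero τ φ hφ)
    exact this hfs
  have hs0 : cellMap K τ s = 0 := by
    have hf' : cellMap K τ f = 0 := hf
    rwa [map_sub, hf', zero_sub, neg_eq_zero] at h0
  rw [Finsupp.mem_span_range_iff_exists_finsupp] at hs
  obtain ⟨a, rfl⟩ := hs
  have ha : a = 0 := by
    refine linearIndependent_iff.1 (linearIndependent_cellMap (K := K) hd τ) a ?_
    rw [← hs0, Finsupp.linearCombination_apply, map_finsuppSum]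
    simp
  rw [ha, Finsupp.sum_zero_index, sub_zero] at hfs
  exact hfs

variable [Infinite K]

/-- The shuffle relations and the vanishing coordinates cut out the Schubert variety. -/
theorem plIdeal_eq (hd : 0 < d) (τ : Idx d n) : plIdeal K τ = schubertVanishing K d n τ :=
  le_antisymm (plIdeal_le_schubertVanishing τ) ((schubertVanishing_le_ker τ).trans (ker_cellMap_le_plIdeal hd τ))

theorem schubertVanishing_eq_ker (hd : 0 < d) (τ : Idx d n) :
    schubertVanishing K d n τ = RingHom.ker (cellMap K τ).toRingHom :=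
  le_antisymm (schubertVanishing_le_ker τ) ((ker_cellMap_le_plIdeal hd τ).trans (plIdeal_le_schubertVanishing τ))

omit [Infinite K] in
lemma chainMon_mem_schubertVanishing (τ : Idx d n) {m : ℕ} (c : Fin m → Idx d n) {k : Fin m} (h : ¬ c k ≤ τ) :
    chainMon K c ∈ schubertVanishing K d n τ := by
  rw [chainMon, ← Finset.mul_prod_erase _ _ (Finset.mem_univ k)]
  exact Ideal.mul_mem_right _ _ (plIdeal_le_schubertVanishing τ (Ideal.subset_span (Or.inr ⟨_, h, rfl⟩)))

/-- A combination of standard monomials in `J(τ)` only involves monomials leaving `X(τ)`. -/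
theorem coeff_eq_zero_of_mem (hd : 0 < d) (τ : Idx d n) (a : Std d n →₀ K)
    (h : Finsupp.linearCombination K (fun c : Std d n => chainMon K c.2.1) a ∈ schubertVanishing K d n τ)
    (c : Std d n) (hc : c.LE τ) : a c = 0 := by
  classical
  let ι : (Σ m : ℕ, {c : Fin m → Idx d n // Antitone c ∧ ∀ k, c k ≤ τ}) → Std d n :=
    fun c => ⟨c.1, c.2.1, c.2.2.1⟩
  have hι : Function.Injective ι := by
    rintro ⟨m, c, h1, h2⟩ ⟨m', c', h1', h2'⟩ e
    obtain ⟨rfl, e'⟩ := Sigma.mk.inj_iff.1 e
    have := congrArg Subtype.val (eq_of_heq e')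
    simp only at this
    subst this
    rfl
  let b := Finsupp.comapDomain ι a hι.injOn
  have hb : b = 0 := by
    refine linearIndependent_iff.1 (linearIndependent_cellMap (K := K) hd τ) b ?_
    have h0 : cellMap K τ (Finsupp.linearCombination K (fun c : Std d n => chainMon K c.2.1) a) = 0 :=
      schubertVanishing_le_ker τ h
    rw [← h0, Finsupp.linearCombination_apply, Finsupp.linearCombination_apply, map_finsuppSum]
    simp only [b, map_smul]
    rw [Finsupp.sum, Finsupp.sum, Finsupp.comapDomain_support]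
    refine Finset.sum_of_injOn ι hι.injOn (fun x hx => by simpa using hx) (fun x hx hne => ?_) (fun x _ => rfl)
    obtain ⟨k, hk⟩ : ∃ k, ¬ x.2.1 k ≤ τ := by
      by_contra! hall
      exact hne ⟨⟨x.1, x.2.1, x.2.2, hall⟩, by simpa [ι] using hx, rfl⟩
    rw [cellMap_chainMon_eq_zero τ x.2.1 hk, smul_zero]
  exact DFunLike.congr_fun hb ⟨c.1, c.2.1, c.2.2, hc⟩

/-- Every element is a combination of standard monomials modulo all the `J(τᵢ)`. -/
theorem exists_repr (f : PlRing K d n) :
    ∃ a : Std d n →₀ K, ∀ τ, f - Finsupp.linearCombination K (fun c : Std d n => chainMon K c.2.1) a ∈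
      schubertVanishing K d n τ := by
  have h := stdSpan_sup_eq_top (K := K) (fun _ : Idx d n => True) (plIdealTop K)
    (fun i j r hp => Ideal.subset_span ⟨i, j, r, hp, rfl⟩) (fun φ hφ => absurd trivial hφ)
  obtain ⟨s, hs, p, hp, rfl⟩ := Submodule.mem_sup.1 (h ▸ Submodule.mem_top (x := f))
  have hs' : s ∈ Submodule.span K (Set.range fun c : Std d n => chainMon K c.2.1) := by
    refine Submodule.span_mono ?_ hs
    rintro g ⟨m, c, hc, -, rfl⟩
    exact ⟨⟨m, c, hc⟩, rfl⟩
  rw [Finsupp.mem_span_range_iff_exists_finsupp] at hs'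
  obtain ⟨a, rfl⟩ := hs'
  refine ⟨a, fun τ => ?_⟩
  rw [Finsupp.linearCombination_apply, add_sub_cancel_left]
  refine plIdeal_le_schubertVanishing τ (Ideal.span_mono ?_ hp)
  rintro g ⟨i, j, r, hp, rfl⟩
  exact Or.inl ⟨i, j, r, hp, rfl⟩

/-- Membership in a Schubert ideal, read on coordinates. -/
theorem mem_iff_coeff (hd : 0 < d) (τ : Idx d n) (f : PlRing K d n) (a : Std d n →₀ K)
    (ha : f - Finsupp.linearCombination K (fun c : Std d n => chainMon K c.2.1) a ∈ schubertVanishing K d n τ) :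
    f ∈ schubertVanishing K d n τ ↔ ∀ c : Std d n, c.LE τ → a c = 0 := by
  constructor
  · intro hf c hc
    refine coeff_eq_zero_of_mem hd τ a ?_ c hc
    simpa using Ideal.sub_mem _ hf ha
  · intro h
    have : Finsupp.linearCombination K (fun c : Std d n => chainMon K c.2.1) a ∈ schubertVanishing K d n τ := by
      rw [Finsupp.linearCombination_apply]
      refine Ideal.sum_mem _ fun c hc => ?_
      show a c • chainMon K c.2.1 ∈ _
      rw [Algebra.smul_def]
      refine Ideal.mul_mem_left _ _ ?_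
      have hne : ¬ c.LE τ := fun hle => (Finsupp.mem_support_iff.1 hc) (h c hle)
      simp only [Std.LE, not_forall] at hne
      obtain ⟨k, hk⟩ := hne
      exact chainMon_mem_schubertVanishing τ _ hk
    simpa using Ideal.add_mem _ ha this

lemma Std.le_inf_iff (c : Std d n) (w₁ w₂ : Idx d n) :
    c.LE (W4bk4grassmannian.inf w₁ w₂) ↔ c.LE w₁ ∧ c.LE w₂ :=
  ⟨fun h => ⟨fun k t => (h k t).trans (min_le_left _ _), fun k t => (h k t).trans (min_le_right _ _)⟩,
    fun h k t => le_min (h.1 k t) (h.2 k t)⟩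

lemma schubertVanishing_antitone (hd : 0 < d) {φ τ : Idx d n} (h : φ ≤ τ) :
    schubertVanishing K d n τ ≤ schubertVanishing K d n φ := by
  rw [← plIdeal_eq hd τ, ← plIdeal_eq hd φ, plIdeal, plIdeal]
  refine Ideal.span_mono (Set.union_subset_union_right _ ?_)
  rintro g ⟨ψ, hψ, rfl⟩
  exact ⟨ψ, fun hle => hψ (hle.trans h), rfl⟩

/-- The sum of two Schubert ideals is the ideal of the meet. -/
theorem sup_eq_inf (hd : 0 < d) (w₁ w₂ : Idx d n) :
    schubertVanishing K d n w₁ ⊔ schubertVanishing K d n w₂ =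
      schubertVanishing K d n (W4bk4grassmannian.inf w₁ w₂) := by
  refine le_antisymm (sup_le (schubertVanishing_antitone hd fun t => min_le_left _ _)
    (schubertVanishing_antitone hd fun t => min_le_right _ _)) ?_
  rw [← plIdeal_eq hd (W4bk4grassmannian.inf w₁ w₂), plIdeal, Ideal.span_le]
  rintro g (⟨i, j, r, hp, rfl⟩ | ⟨φ, hφ, rfl⟩)
  · exact Ideal.mem_sup_left (plIdeal_le_schubertVanishing w₁ (Ideal.subset_span (Or.inl ⟨i, j, r, hp, rfl⟩)))
  · by_cases h1 : φ ≤ w₁
    · exact Ideal.mem_sup_right (plIdeal_le_schubertVanishing w₂ (Ideal.subset_span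
        (Or.inr ⟨φ, fun h2 => hφ fun t => le_min (h1 t) (h2 t), rfl⟩)))
    · exact Ideal.mem_sup_left (plIdeal_le_schubertVanishing w₁ (Ideal.subset_span (Or.inr ⟨φ, h1, rfl⟩)))

theorem isPrime_schubertVanishing (hd : 0 < d) (τ : Idx d n) : (schubertVanishing K d n τ).IsPrime := by
  rw [schubertVanishing_eq_ker hd τ]
  exact RingHom.ker_isPrime _

theorem standardMonomial_basis_union (hd : 0 < d) (r : ℕ) (τs : Fin r → Idx d n) :
    LinearIndependent K (fun c : (Σ m : ℕ, {c : Fin m → Idx d n // Antitone c ∧ ∃ i, ∀ k, c k ≤ τs i}) =>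
        Ideal.Quotient.mk (⨅ i, schubertVanishing K d n (τs i)) (chainMon K c.2.1)) ∧
      Submodule.span K (Set.range fun c : (Σ m : ℕ, {c : Fin m → Idx d n // Antitone c ∧ ∃ i, ∀ k, c k ≤ τs i}) =>
        Ideal.Quotient.mk (⨅ i, schubertVanishing K d n (τs i)) (chainMon K c.2.1)) = ⊤ := by
  classical
  set J := ⨅ i, schubertVanishing K d n (τs i)
  let ι : (Σ m : ℕ, {c : Fin m → Idx d n // Antitone c ∧ ∃ i, ∀ k, c k ≤ τs i}) → Std d n :=
    fun c => ⟨c.1, c.2.1, c.2.2.1⟩
  have hι : Function.Injective ι := by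
    rintro ⟨m, c, h1, h2⟩ ⟨m', c', h1', h2'⟩ e
    obtain ⟨rfl, e'⟩ := Sigma.mk.inj_iff.1 e
    have := congrArg Subtype.val (eq_of_heq e')
    simp only at this
    subst this
    rfl
  constructor
  · rw [linearIndependent_iff]
    intro a ha
    ext c
    obtain ⟨i, hi⟩ := c.2.2.2
    rw [← Finsupp.mapDomain_apply hι a c]
    refine coeff_eq_zero_of_mem hd (τs i) _ ?_ _ hi
    rw [Finsupp.linearCombination_mapDomain]
    refine (iInf_le (fun i => schubertVanishing K d n (τs i)) i) ?_
    rw [← Ideal.Quotient.eq_zero_iff_mem, ← Ideal.Quotient.mkₐ_eq_mk K, Finsupp.linearCombination_apply,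
      map_finsuppSum]
    rw [Finsupp.linearCombination_apply] at ha
    simpa using ha
  · refine eq_top_iff.2 fun q _ => ?_
    obtain ⟨f, rfl⟩ := Ideal.Quotient.mk_surjective q
    obtain ⟨a, ha⟩ := exists_repr f
    rw [show Ideal.Quotient.mk J f = Ideal.Quotient.mk J
        (Finsupp.linearCombination K (fun c : Std d n => chainMon K c.2.1) a) from
      Ideal.Quotient.eq.2 (by simp only [J, Submodule.mem_iInf]; exact fun i => ha _),
      Finsupp.linearCombination_apply, ← Ideal.Quotient.mkₐ_eq_mk K, map_finsuppSum]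
    refine Submodule.sum_mem _ fun c _ => ?_
    show Ideal.Quotient.mkₐ K J (a c • chainMon K c.2.1) ∈ _
    rw [map_smul]
    refine Submodule.smul_mem _ _ ?_
    by_cases h : ∃ i, c.LE (τs i)
    · exact Submodule.subset_span ⟨⟨c.1, c.2.1, c.2.2, h⟩, rfl⟩
    · simp only [Std.LE, not_exists, not_forall] at h
      have : chainMon K c.2.1 ∈ J := by
        simp only [J, Submodule.mem_iInf]
        intro i
        obtain ⟨k, hk⟩ := h i
        exact chainMon_mem_schubertVanishing _ _ hk
      rw [Ideal.Quotient.mkₐ_eq_mk, Ideal.Quotient.eq_zero_iff_mem.2 this]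
      exact Submodule.zero_mem _

lemma fin_val_le (f : Fin d → Fin n) (hf : StrictMono f) (s : Fin d) : s.val ≤ (f s).val := by
  obtain ⟨x, hx⟩ := s
  induction x with
  | zero => exact Nat.zero_le _
  | succ x ih =>
    exact Nat.succ_le_of_lt (lt_of_le_of_lt (ih (by omega))
      (Fin.lt_def.1 (hf (show (⟨x, by omega⟩ : Fin d) < ⟨x + 1, hx⟩ from Fin.lt_def.2 (Nat.lt_succ_self x)))))

lemma exists_divisor_ge {τ w : Idx d n} (h : τ < w) : ∃ φ ∈ divisors w, τ ≤ φ := by
  obtain ⟨hle, hne⟩ := lt_iff_le_and_ne.1 h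
  have hS : (Finset.univ.filter fun t => τ.1 t < w.1 t).Nonempty := by
    by_contra h0
    rw [Finset.not_nonempty_iff_eq_empty, Finset.filter_eq_empty_iff] at h0
    exact hne (le_antisymm hle fun t => not_lt.1 (h0 (Finset.mem_univ t)))
  let s := Finset.min' _ hS
  have hs : τ.1 s < w.1 s := (Finset.mem_filter.1 (Finset.min'_mem _ hS)).2
  have hlow : ∀ t, t < s → τ.1 t = w.1 t := fun t ht => le_antisymm (hle t) (not_lt.1 fun hlt =>
    not_le.2 ht (Finset.min'_le _ t (Finset.mem_filter.2 ⟨Finset.mem_univ t, hlt⟩)))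
  have hpos : 0 < (w.1 s).val := lt_of_le_of_lt (Nat.zero_le _) (Fin.lt_def.1 hs)
  let v : Fin n := ⟨(w.1 s).val - 1, by omega⟩
  have hτv : τ.1 s ≤ v := Fin.le_def.2 (by simp only [v]; have := Fin.lt_def.1 hs; omega)
  have hvs : v < w.1 s := Fin.lt_def.2 (by simp only [v]; omega)
  let f : Fin d → Fin n := Function.update w.1 s v
  have hf : StrictMono f := by
    intro a b hab
    simp only [f, Function.update_apply]
    split_ifs with h1 h2 h2
    · exact absurd hab (by rw [h1, h2]; exact lt_irrefl s)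
    · subst h1; exact hvs.trans (w.2 hab)
    · subst h2
      calc w.1 a = τ.1 a := (hlow a hab).symm
        _ < τ.1 s := τ.2 hab
        _ ≤ v := hτv
    · exact w.2 hab
  refine ⟨⟨f, hf⟩, ⟨lt_iff_le_and_ne.2 ⟨fun t => ?_, fun e => ?_⟩, ?_⟩, fun t => ?_⟩
  · simp only [f, Function.update_apply]
    split_ifs with h1
    · subst h1; exact hvs.le
    · exact le_rfl
  · have := congrFun (congrArg Subtype.val e) s
    simp only [f, Function.update_self] at this
    exact hvs.ne this
  · unfold codeg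
    have hge : s.val < (w.1 s).val := by
      have h1 : s.val ≤ (τ.1 s).val := fin_val_le τ.1 τ.2 s
      exact lt_of_le_of_lt h1 (Fin.lt_def.1 hs)
    rw [← Finset.add_sum_erase _ _ (Finset.mem_univ s), ← Finset.add_sum_erase _ _ (Finset.mem_univ s)]
    have : ∑ t ∈ Finset.univ.erase s, ((f t).val - t.val) = ∑ t ∈ Finset.univ.erase s, ((w.1 t).val - t.val) :=
      Finset.sum_congr rfl fun t ht => by simp [f, Finset.ne_of_mem_erase ht]
    rw [this]
    simp only [f, Function.update_self, v]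
    omega
  · simp only [f, Function.update_apply]
    split_ifs with h1
    · subst h1; exact hτv
    · exact hle t

end SMTLib
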