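import Groth.Agent.SMTLib.Basis
import Mathlib.RingTheory.MvPolynomial.WeightedHomogeneous

/-!
# Divisors, and the shape of straightening relations
-/

universe u

namespace SMTLib

open MvPolynomial W4bk4grassmannian

variable {K : Type u} [Field K] [Infinite K] {d n : ℕ}

theorem sup_span_eq_iInf_divisors (hd : 0 < d) (τ : Idx d n) (hτ : ∃ φ : Idx d n, φ < τ) :
    schubertVanishing K d n τ ⊔ Ideal.span {X τ} = ⨅ φ ∈ divisors τ, schubertVanishing K d n φ := by
  refine le_antisymm (le_iInf₂ fun φ hφ => sup_le (schubertVanishing_antitone hd hφ.1.le) ?_) fun f hf => ?_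
  · rw [Ideal.span_le, Set.singleton_subset_iff]
    exact plIdeal_le_schubertVanishing φ (Ideal.subset_span (Or.inr ⟨τ, not_le_of_gt hφ.1, rfl⟩))
  simp only [Submodule.mem_iInf] at hf
  obtain ⟨a, ha⟩ := exists_repr f
  have key : Finsupp.linearCombination K (fun c : Std d n => chainMon K c.2.1) a ∈
      schubertVanishing K d n τ ⊔ Ideal.span {X τ} := by
    rw [Finsupp.linearCombination_apply]
    refine Ideal.sum_mem _ fun c hc => ?_
    show a c • chainMon K c.2.1 ∈ _
    rw [Algebra.smul_def]
    refine Ideal.mul_mem_left _ _ ?_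
    by_cases h1 : c.LE τ
    · by_cases h2 : ∃ k, c.2.1 k = τ
      · obtain ⟨k, hk⟩ := h2
        refine Ideal.mem_sup_right (Ideal.mem_span_singleton.2 ?_)
        rw [← hk]
        exact Finset.dvd_prod_of_mem (fun l => (X (c.2.1 l) : PlRing K d n)) (Finset.mem_univ k)
      · push Not at h2
        exfalso
        obtain ⟨φ₀, hφ₀⟩ := hτ
        obtain ⟨φ, hφ, hle⟩ : ∃ φ ∈ divisors τ, c.LE φ := by
          by_cases hm : c.1 = 0
          · obtain ⟨φ, hφ, -⟩ := exists_divisor_ge hφ₀
            exact ⟨φ, hφ, fun k => absurd k.isLt (by omega)⟩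
          · let z : Fin c.1 := ⟨0, Nat.pos_of_ne_zero hm⟩
            obtain ⟨φ, hφ, hle⟩ := exists_divisor_ge (lt_of_le_of_ne (h1 z) (h2 z))
            exact ⟨φ, hφ, fun k => (c.2.2 (Fin.le_def.2 (Nat.zero_le _))).trans hle⟩
        exact (Finsupp.mem_support_iff.1 hc) ((mem_iff_coeff hd φ f a (ha φ)).1 (hf φ hφ) c hle)
    · simp only [Std.LE, not_forall] at h1
      obtain ⟨k, hk⟩ := h1
      exact Ideal.mem_sup_left (chainMon_mem_schubertVanishing τ _ hk)
  simpa using Ideal.add_mem _ (Ideal.mem_sup_left (ha τ) :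
    f - Finsupp.linearCombination K (fun c : Std d n => chainMon K c.2.1) a ∈
      schubertVanishing K d n τ ⊔ Ideal.span {X τ}) key

/-- The rows used by an index. -/
noncomputable def content (θ : Idx d n) : Fin n →₀ ℕ := ∑ t, Finsupp.single (θ.1 t) 1

/-- The number of entries at least `x`. -/
def above (θ : Idx d n) (x : Fin n) : ℕ := (Finset.univ.filter fun t => x ≤ θ.1 t).card

lemma above_eq (θ : Idx d n) (x : Fin n) : above θ x = ∑ i ∈ Finset.Ici x, content θ i := by
  simp only [content, Finsupp.finsetSum_apply, Finsupp.single_apply]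
  rw [Finset.sum_comm, above, Finset.card_filter]
  refine Finset.sum_congr rfl fun t _ => ?_
  rw [Finset.sum_ite_eq (Finset.Ici x)]
  simp

lemma le_of_above_le {θ θ' : Idx d n} (h : ∀ x, above θ x ≤ above θ' x) : θ ≤ θ' := fun t => by
  by_contra hlt
  have h1 : (Finset.Ici t).card ≤ above θ (θ.1 t) :=
    Finset.card_le_card fun s hs => Finset.mem_filter.2 ⟨Finset.mem_univ s, θ.2.monotone (Finset.mem_Ici.1 hs)⟩
  have h2 : above θ' (θ.1 t) ≤ (Finset.Ioi t).card :=
    Finset.card_le_card fun s hs => Finset.mem_Ioi.2 (not_le.1 fun hst =>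
      hlt ((Finset.mem_filter.1 hs).2.trans (θ'.2.monotone hst)))
  rw [Fin.card_Ici] at h1
  rw [Fin.card_Ioi] at h2
  have := h (θ.1 t)
  have := t.isLt
  omega

lemma above_mono {θ θ' : Idx d n} (h : θ ≤ θ') (x : Fin n) : above θ x ≤ above θ' x :=
  Finset.card_le_card fun s hs => Finset.mem_filter.2 ⟨Finset.mem_univ s, (Finset.mem_filter.1 hs).2.trans (h s)⟩

lemma above_sup (a b : Idx d n) (x : Fin n) :
    above (W4bk4grassmannian.sup a b) x = max (above a x) (above b x) := by
  refine le_antisymm ?_ (max_le (above_mono (fun t => le_max_left _ _) x) (above_mono (fun t => le_max_right _ _) x))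
  by_contra hlt
  push Not at hlt
  obtain ⟨hla, hlb⟩ := max_lt_iff.1 hlt
  -- the first entry of the join at least `x` comes from one of the two
  have hne : (Finset.univ.filter fun t => x ≤ (W4bk4grassmannian.sup a b).1 t).Nonempty :=
    Finset.card_pos.1 (lt_of_le_of_lt (Nat.zero_le _) hla)
  let s := Finset.min' _ hne
  have hs : x ≤ max (a.1 s) (b.1 s) := (Finset.mem_filter.1 (Finset.min'_mem _ hne)).2
  rcases le_max_iff.1 hs with h | h
  · exact absurd hla (not_lt.2 (Finset.card_le_card fun t ht => Finset.mem_filter.2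
      ⟨Finset.mem_univ t, h.trans (a.2.monotone (Finset.min'_le _ t ht))⟩))
  · exact absurd hlb (not_lt.2 (Finset.card_le_card fun t ht => Finset.mem_filter.2
      ⟨Finset.mem_univ t, h.trans (b.2.monotone (Finset.min'_le _ t ht))⟩))

lemma content_inf_add_sup (a b : Idx d n) :
    content (W4bk4grassmannian.sup a b) + content (W4bk4grassmannian.inf a b) = content a + content b := by
  simp only [content, ← Finset.sum_add_distrib]
  refine Finset.sum_congr rfl fun t _ => ?_
  show Finsupp.single (max (a.1 t) (b.1 t)) 1 + Finsupp.single (min (a.1 t) (b.1 t)) 1 = _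
  rcases le_total (a.1 t) (b.1 t) with h | h
  · rw [max_eq_right h, min_eq_left h, add_comm]
  · rw [max_eq_left h, min_eq_right h]

/-- The weight of a matrix entry: its row. -/
noncomputable def rowWt (p : Ent d n) : Fin n →₀ ℕ := Finsupp.single (ofLex p).1 1

omit [Infinite K] in
lemma cellMap_X_homog (τ θ : Idx d n) : IsWeightedHomogeneous rowWt (cellMap K τ (X θ)) (content θ) := by
  rw [cellMap_X]
  refine IsWeightedHomogeneous.sum _ _ _ fun σ _ => ?_
  split_ifs
  · have h : IsWeightedHomogeneous rowWt (monomial (expOf θ σ) (1 : K)) (content θ) := by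
      refine isWeightedHomogeneous_monomial _ _ _ ?_
      rw [expOf, map_sum, content, ← Equiv.sum_comp σ fun t => Finsupp.single (θ.1 t) (1 : ℕ)]
      refine Finset.sum_congr rfl fun t _ => ?_
      rw [Finsupp.weight_single, one_smul]
      rfl
    have h' := (isWeightedHomogeneous_C rowWt (((Equiv.Perm.sign σ : ℤ)) : K)).mul h
    rw [zero_add, map_intCast] at h'
    rwa [zsmul_eq_mul]
  · rw [smul_zero]; exact isWeightedHomogeneous_zero _ _ _

omit [Infinite K] in
lemma cellMap_chainMon_homog (τ : Idx d n) {m : ℕ} (c : Fin m → Idx d n) :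
    IsWeightedHomogeneous rowWt (cellMap K τ (chainMon K c)) (∑ k, content (c k)) := by
  rw [chainMon, map_prod]
  exact IsWeightedHomogeneous.prod _ _ _ fun k _ => cellMap_X_homog τ _

lemma content_sum (θ : Idx d n) : ∑ i, content θ i = d := by
  simp only [content, Finsupp.finsetSum_apply]
  rw [Finset.sum_comm]
  simp [Finsupp.single_apply]

set_option maxHeartbeats 1600000 in
theorem straightening_shape (hd : 0 < d) (τ φ : Idx d n) :
    ∃ g ∈ Submodule.span K {f : PlRing K d n | ∃ α β : Idx d n,
        β ≤ α ∧ W4bk4grassmannian.sup τ φ < α ∧ β < W4bk4grassmannian.inf τ φ ∧ f = X α * X β},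
      X τ * X φ - X (W4bk4grassmannian.sup τ φ) * X (W4bk4grassmannian.inf τ φ) - g ∈ vanishing K d n := by
  classical
  rcases isEmpty_or_nonempty (Idx d n) with h | _
  · exact (h.false τ).elim
  -- the largest index
  have hdn : ∀ t : Fin d, n - d + t.val < n := fun t => by
    have := fin_val_le τ.1 τ.2 ⟨d - 1, by omega⟩
    have := (τ.1 ⟨d - 1, by omega⟩).isLt
    have := t.isLt
    simp only at *
    omega
  let top : Idx d n := ⟨fun t => ⟨n - d + t.val, hdn t⟩, fun a b h => Fin.lt_def.2 (by
    simp only; have := Fin.lt_def.1 h; omega)⟩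
  have htop : ∀ θ : Idx d n, θ ≤ top := by
    intro θ t
    show (θ.1 t).val ≤ n - d + t.val
    have key : ∀ (j : ℕ) (hj : t.val + j < d), (θ.1 t).val + j ≤ (θ.1 ⟨t.val + j, hj⟩).val := by
      intro j
      induction j with
      | zero => intro _; simp
      | succ j ih =>
        intro hj
        have := ih (by omega)
        have := Fin.lt_def.1 (θ.2 (show (⟨t.val + j, by omega⟩ : Fin d) < ⟨t.val + (j + 1), hj⟩ from
          Fin.lt_def.2 (by simp only; omega)))
        omega
    have := key (d - 1 - t.val) (by have := t.isLt; omega)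
    have := (θ.1 ⟨t.val + (d - 1 - t.val), by have := t.isLt; omega⟩).isLt
    have := t.isLt
    omega
  have hvan : ∀ f, f ∈ schubertVanishing K d n top → f ∈ vanishing K d n := fun f hf => by
    simp only [schubertVanishing, Submodule.mem_iInf] at hf
    simp only [vanishing, Submodule.mem_iInf]
    exact fun A => hf A fun ψ hψ => absurd (htop ψ) hψ
  obtain ⟨a, ha⟩ := exists_repr (K := K) (X τ * X φ)
  set L := fun a : Std d n →₀ K => Finsupp.linearCombination K (fun c : Std d n => chainMon K c.2.1) a
  -- keep the chains of the right content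
  let W : Fin n →₀ ℕ := content τ + content φ
  let b := a.filter fun c => ∑ k, content (c.2.1 k) = W
  have hb0 : ∀ τ', cellMap K τ' (X τ * X φ) = cellMap K τ' (L b) := fun τ' => by
    have h0 : cellMap K τ' (X τ * X φ) = cellMap K τ' (L a) := by
      rw [← sub_eq_zero, ← map_sub]; exact schubertVanishing_le_ker τ' (ha τ')
    have hf : IsWeightedHomogeneous rowWt (cellMap K τ' (X τ * X φ)) W := by
      rw [map_mul]; exact (cellMap_X_homog τ' τ).mul (cellMap_X_homog τ' φ)
    have := congrArg (weightedHomogeneousComponent rowWt W) h0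
    rw [hf.weightedHomogeneousComponent_same] at this
    rw [this]
    simp only [L, Finsupp.linearCombination_apply, map_finsuppSum, map_smul]
    rw [Finsupp.sum, Finsupp.sum]
    simp only [b, Finsupp.support_filter, Finset.sum_filter]
    refine Finset.sum_congr rfl fun c _ => ?_
    split_ifs with hc
    · rw [Finsupp.filter_apply_pos (fun c : Std d n => ∑ k, content (c.2.1 k) = W) a hc]
      congr 1
      exact (hc ▸ cellMap_chainMon_homog τ' c.2.1).weightedHomogeneousComponent_same
    · rw [(cellMap_chainMon_homog τ' c.2.1).weightedHomogeneousComponent_ne _ (Ne.symm hc), smul_zero]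
  have hb : ∀ τ', X τ * X φ - L b ∈ schubertVanishing K d n τ' := fun τ' => by
    rw [schubertVanishing_eq_ker hd τ', RingHom.mem_ker]
    show cellMap K τ' _ = 0
    rw [map_sub, hb0, sub_self]
  -- supported chains have two members
  have htwo : ∀ c, b c ≠ 0 → ∃ α β : Idx d n, β ≤ α ∧ chainMon K c.2.1 = X α * X β ∧
      expChain c.2.1 = expOf α 1 + expOf β 1 ∧ content α + content β = W ∧ (∀ ψ, α ≤ ψ → c.LE ψ) := by
    intro c hc
    have hW : ∑ k, content (c.2.1 k) = W := by
      by_contra h
      exact hc (Finsupp.filter_apply_neg _ _ h)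
    have hm : c.1 = 2 := by
      have := congrArg (fun f : Fin n →₀ ℕ => ∑ i, f i) hW
      simp only [W, Finsupp.finsetSum_apply, Finsupp.add_apply, Finset.sum_add_distrib] at this
      rw [Finset.sum_comm] at this
      simp only [content_sum, Finset.sum_const, Finset.card_univ, Fintype.card_fin, smul_eq_mul] at this
      exact Nat.eq_of_mul_eq_mul_right hd (this.trans (by omega))
    obtain ⟨m, c, hcanti⟩ := c
    simp only at hm
    subst hm
    refine ⟨c 0, c 1, hcanti (by decide), ?_, ?_, ?_, fun ψ hψ k => (hcanti (Fin.zero_le k)).trans hψ⟩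
    · rw [chainMon, Fin.prod_univ_two]
    · rw [expChain, Fin.sum_univ_two]
    · rw [← hW, Fin.sum_univ_two]
  -- the shape
  have hshape : ∀ c, b c ≠ 0 → ∀ α β : Idx d n, β ≤ α → content α + content β = W → (∀ ψ, α ≤ ψ → c.LE ψ) →
      W4bk4grassmannian.sup τ φ ≤ α ∧ β ≤ W4bk4grassmannian.inf τ φ := by
    intro c hc α β hle hW hα
    have h1 : τ ≤ α ∧ φ ≤ α := by
      by_contra h
      refine hc ((mem_iff_coeff hd α _ b (hb α)).1 ?_ c (hα α le_rfl))
      rw [← plIdeal_eq hd α]
      rcases not_and_or.1 h with h | h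
      · exact Ideal.mul_mem_right _ _ (Ideal.subset_span (Or.inr ⟨τ, h, rfl⟩))
      · exact Ideal.mul_mem_left _ _ (Ideal.subset_span (Or.inr ⟨φ, h, rfl⟩))
    have h2 : W4bk4grassmannian.sup τ φ ≤ α := fun t => max_le (h1.1 t) (h1.2 t)
    refine ⟨h2, le_of_above_le fun x => ?_⟩
    have e : ∀ u v : Idx d n, above u x + above v x = ∑ i ∈ Finset.Ici x, (content u + content v) i := fun u v => by
      simp only [above_eq, Finsupp.add_apply, Finset.sum_add_distrib]
    have e1 := e α β
    rw [hW] at e1
    have e2 := e (W4bk4grassmannian.sup τ φ) (W4bk4grassmannian.inf τ φ)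
    rw [content_inf_add_sup] at e2
    simp only [W] at e1
    have := above_mono h2 x
    omega
  let s := W4bk4grassmannian.sup τ φ
  let i := W4bk4grassmannian.inf τ φ
  let c₀ : Std d n := ⟨2, ![s, i], by
    intro x y hxy
    fin_cases x <;> fin_cases y <;> simp_all [s, i, W4bk4grassmannian.sup, W4bk4grassmannian.inf]
    exact fun t => min_le_max⟩
  have hbne : ∀ c, b c ≠ 0 → c ≠ c₀ → ∃ α β : Idx d n, β ≤ α ∧ s < α ∧ β < i ∧
      chainMon K c.2.1 = X α * X β := by
    intro c hc hne
    obtain ⟨α, β, hle, hmon, hexp, hW, hα⟩ := htwo c hc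
    obtain ⟨h1, h2⟩ := hshape c hc α β hle hW hα
    have hne' : ¬(α = s ∧ β = i) := fun ⟨e1, e2⟩ => hne (by
      have := expChain_injective hd c.2.1 c₀.2.1 c.2.2 c₀.2.2 (by
        rw [hexp, e1, e2]; simp [c₀, expChain, Fin.sum_univ_two])
      obtain ⟨m, c, hc'⟩ := c
      obtain ⟨rfl, e⟩ := Sigma.mk.inj_iff.1 this
      simp only [c₀] at e ⊢
      exact Sigma.ext rfl (heq_of_eq (Subtype.ext (eq_of_heq e))))
    have key : ∀ x, above α x + above β x = above s x + above i x := fun x => by
      simp only [above_eq, ← Finset.sum_add_distrib, ← Finsupp.add_apply, hW, s, i, content_inf_add_sup, W]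
    refine ⟨α, β, hle, lt_of_le_of_ne h1 fun e => hne' ⟨e.symm, le_antisymm h2 (le_of_above_le fun x => ?_)⟩,
      lt_of_le_of_ne h2 fun e => hne' ⟨le_antisymm (le_of_above_le fun x => ?_) h1, e⟩, hmon⟩
    · have := key x; rw [← e] at this; show above i x ≤ above β x; omega
    · have := key x; rw [e] at this; show above α x ≤ above s x; omega
  -- the leading coefficient
  have hdeg : ∀ c : Std d n, MonomialOrder.lex.degree (cellMap K top (chainMon K c.2.1)) = expChain c.2.1 :=
    fun c => (degree_cellMap_chainMon top _ fun k => htop _).2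
  have hc₀exp : expChain c₀.2.1 = expOf τ 1 + expOf φ 1 := by
    simp only [c₀, expChain, Fin.sum_univ_two, Matrix.cons_val_zero, Matrix.cons_val_one, expOf,
      ← Finset.sum_add_distrib, Equiv.Perm.one_apply]
    refine Finset.sum_congr rfl fun t _ => ?_
    show Finsupp.single (ent (max (τ.1 t) (φ.1 t)) t) 1 + Finsupp.single (ent (min (τ.1 t) (φ.1 t)) t) 1 = _
    rcases le_total (τ.1 t) (φ.1 t) with h | h
    · rw [max_eq_right h, min_eq_left h, add_comm]
    · rw [max_eq_left h, min_eq_right h]
  have hb1 : b c₀ = 1 := by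
    have e := hb0 top
    simp only [L, Finsupp.linearCombination_apply, Finsupp.sum, map_sum, map_smul] at e
    obtain ⟨hτ1, hτ2⟩ := degree_cellMap_X (K := K) top τ (htop τ)
    obtain ⟨hφ1, hφ2⟩ := degree_cellMap_X (K := K) top φ (htop φ)
    have hfm : MonomialOrder.lex.Monic (cellMap K top (X τ * X φ)) ∧
        MonomialOrder.lex.degree (cellMap K top (X τ * X φ)) = expChain c₀.2.1 := by
      rw [map_mul, hc₀exp, ← hτ2, ← hφ2]
      refine ⟨?_, MonomialOrder.degree_mul hτ1.ne_zero hφ1.ne_zero⟩
      rw [MonomialOrder.Monic, MonomialOrder.leadingCoeff_mul, hτ1.leadingCoeff_eq_one,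
        hφ1.leadingCoeff_eq_one, mul_one]
    have hne : b.support.Nonempty := by
      by_contra h
      rw [Finset.not_nonempty_iff_eq_empty] at h
      rw [h, Finset.sum_empty] at e
      exact hfm.1.ne_zero e
    obtain ⟨j, hj, hmax⟩ := b.support.exists_max_image
      (fun c : Std d n => MonomialOrder.lex.toSyn (expChain c.2.1)) hne
    have hcoef : coeff (expChain j.2.1) (cellMap K top (X τ * X φ)) = b j := by
      rw [e, coeff_sum, Finset.sum_eq_single j]
      · rw [coeff_smul, ← hdeg j, (degree_cellMap_chainMon top _ fun k => htop _).1.coeff_degree, smul_eq_mul,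
          mul_one]
      · intro c hc hcj
        rw [coeff_smul, MonomialOrder.coeff_eq_zero_of_lt, smul_zero]
        rw [hdeg c]
        refine lt_of_le_of_ne (hmax c hc) fun h => hcj ?_
        have := expChain_injective hd c.2.1 j.2.1 c.2.2 j.2.2 (MonomialOrder.lex.toSyn.injective h)
        obtain ⟨m, c, hc'⟩ := c
        obtain ⟨m', j, hj'⟩ := j
        obtain ⟨rfl, e⟩ := Sigma.mk.inj_iff.1 this
        simp only at e
        cases eq_of_heq e
        rfl
      · exact fun h => absurd hj h
    have hj0 : j = c₀ := by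
      by_contra hne'
      -- otherwise the degree of the product is not attained
      have h1 : MonomialOrder.lex.toSyn (expChain j.2.1) ≤ MonomialOrder.lex.toSyn (expChain c₀.2.1) := by
        rw [← hfm.2]
        exact MonomialOrder.lex.le_degree (mem_support_iff.2 (hcoef ▸ Finsupp.mem_support_iff.1 hj))
      have h2 : coeff (expChain c₀.2.1) (cellMap K top (X τ * X φ)) = 1 := by
        rw [← hfm.2]; exact hfm.1.coeff_degree
      have h4 : expChain j.2.1 ≠ expChain c₀.2.1 := fun h => hne' (by
        have := expChain_injective hd j.2.1 c₀.2.1 j.2.2 c₀.2.2 h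
        obtain ⟨m', j, hj'⟩ := j
        obtain ⟨rfl, e⟩ := Sigma.mk.inj_iff.1 this
        simp only [c₀] at e ⊢
        exact Sigma.ext rfl (heq_of_eq (Subtype.ext (eq_of_heq e))))
      have h3 : coeff (expChain c₀.2.1) (cellMap K top (X τ * X φ)) = 0 := by
        rw [e, coeff_sum]
        refine Finset.sum_eq_zero fun c hc => ?_
        rw [coeff_smul, MonomialOrder.coeff_eq_zero_of_lt, smul_zero]
        rw [hdeg c]
        exact lt_of_le_of_lt (hmax c hc) (lt_of_le_of_ne h1 fun h => h4 (MonomialOrder.lex.toSyn.injective h))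
      exact one_ne_zero (h2.symm.trans h3)
    rw [← hj0, ← hcoef, hj0, ← hfm.2]
    exact hfm.1.coeff_degree
  refine ⟨L (b.erase c₀), ?_, hvan _ ?_⟩
  · simp only [L, Finsupp.linearCombination_apply]
    refine Submodule.sum_mem _ fun c hc => ?_
    show b.erase c₀ c • chainMon K c.2.1 ∈ _
    refine Submodule.smul_mem _ _ (Submodule.subset_span ?_)
    rw [Finsupp.support_erase, Finset.mem_erase] at hc
    obtain ⟨α, β, h1, h2, h3, h4⟩ := hbne c (Finsupp.mem_support_iff.1 hc.2) hc.1
    exact ⟨α, β, h1, h2, h3, h4⟩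
  · have : L b = X s * X i + L (b.erase c₀) := by
      conv_lhs => rw [← Finsupp.single_add_erase c₀ b]
      simp only [L, map_add, Finsupp.linearCombination_single, hb1, one_smul]
      simp [c₀, chainMon, Fin.prod_univ_two]
    have h := hb top
    rw [this] at h
    convert h using 1
    ring

end SMTLib
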