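import Groth.Agent.SMTLib.Basis
import Groth.Agent.WeilLib.Dim
import Mathlib.LinearAlgebra.Matrix.Block
import Mathlib.LinearAlgebra.Matrix.NonsingularInverse

/-!
# The dimension of Schubert varieties
-/

universe u

namespace SMTLib

open MvPolynomial W4bk4grassmannian

variable {K : Type u} [Field K] {d n : ℕ}

/-- The least index. -/
def bottom (hdn : d ≤ n) : Idx d n := ⟨fun t => ⟨t.val, lt_of_lt_of_le t.isLt hdn⟩, fun _ _ h => h⟩

lemma bottom_le (hdn : d ≤ n) (φ : Idx d n) : bottom hdn ≤ φ := fun t => Fin.le_def.2 (fin_val_le φ.1 φ.2 t)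

lemma codeg_eq_zero_iff (hdn : d ≤ n) (φ : Idx d n) : codeg φ = 0 ↔ φ = bottom hdn := by
  constructor
  · intro h
    refine le_antisymm (fun t => Fin.le_def.2 ?_) (bottom_le hdn φ)
    have := (Finset.sum_eq_zero_iff.1 h) t (Finset.mem_univ t)
    show (φ.1 t).val ≤ t.val
    omega
  · rintro rfl
    simp [codeg, bottom]

/-- A maximal chain below `w`. -/
lemma exists_maximal_chain (hdn : d ≤ n) (m : ℕ) (w : Idx d n) (h : codeg w = m) :
    ∃ e : Fin (m + 1) → Idx d n, StrictAnti e ∧ ∀ k, e k ≤ w := by
  induction m generalizing w with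
  | zero => exact ⟨fun _ => w, fun a b hab => absurd hab (by omega), fun _ => le_rfl⟩
  | succ m ih =>
    have hlt : bottom hdn < w := lt_of_le_of_ne (bottom_le hdn w) fun e => by
      rw [(codeg_eq_zero_iff hdn w).2 e.symm] at h; omega
    obtain ⟨φ, hφ, -⟩ := exists_divisor_ge hlt
    obtain ⟨e, he, hle⟩ := ih φ (by have := hφ.2; omega)
    refine ⟨Fin.cons w e, fun a b hab => ?_, fun k => Fin.cases le_rfl (fun k => ?_) k⟩
    · induction b using Fin.cases with
      | zero => exact absurd hab (Fin.not_lt_zero _)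
      | succ b =>
        induction a using Fin.cases with
        | zero => simp only [Fin.cons_zero, Fin.cons_succ]; exact lt_of_le_of_lt (hle b) hφ.1
        | succ a => simp only [Fin.cons_succ]; exact he (Fin.succ_lt_succ_iff.1 hab)
    · simp only [Fin.cons_succ]
      exact (hle k).trans hφ.1.le

/-- Monic polynomials with independent degrees are algebraically independent. -/
lemma algebraicIndependent_of_degree {σ ι : Type*} (μ : MonomialOrder σ) (v : ι → MvPolynomial σ K)
    (hmon : ∀ i, μ.Monic (v i))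
    (hinj : Function.Injective fun a : ι →₀ ℕ => a.sum fun i k => k • μ.degree (v i)) :
    AlgebraicIndependent K v := by
  have key : ∀ a : ι →₀ ℕ, μ.Monic (a.prod fun i k => v i ^ k) ∧
      μ.degree (a.prod fun i k => v i ^ k) = a.sum fun i k => k • μ.degree (v i) := by
    intro a
    have hpow : ∀ i k, μ.Monic (v i ^ k) ∧ μ.degree (v i ^ k) = k • μ.degree (v i) := fun i k =>
      ⟨(hmon i).pow, μ.degree_pow_of_pow_leadingCoeff_ne_zero (by
        rw [(hmon i).leadingCoeff_eq_one, one_pow]; exact one_ne_zero)⟩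
    refine ⟨MonomialOrder.Monic.prod fun i _ => (hpow i _).1, ?_⟩
    rw [Finsupp.prod, μ.degree_prod_of_regular fun i _ => by
      rw [(hpow i _).1.leadingCoeff_eq_one]; exact isRegular_one]
    exact Finset.sum_congr rfl fun i _ => (hpow i _).2
  have hli := linearIndependent_of_degree μ (fun a : ι →₀ ℕ => a.prod fun i k => v i ^ k)
    (fun a => (key a).1) (fun a b h => hinj (by simpa only [(key a).2, (key b).2] using h))
  rw [algebraicIndependent_iff]
  intro p hp
  have h0 : p.support.sum (fun a => coeff a p • (a.prod fun i k => v i ^ k)) = 0 := by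
    rw [← hp]
    conv_rhs => rw [p.as_sum, map_sum]
    exact Finset.sum_congr rfl fun a _ => by rw [aeval_monomial, Algebra.smul_def]
  ext a
  rw [coeff_zero]
  by_cases ha : a ∈ p.support
  · exact linearIndependent_iff'.1 hli _ _ h0 a ha
  · exact notMem_support_iff.1 ha

lemma expOf_one_apply (θ : Idx d n) (i : Fin n) (t : Fin d) :
    expOf θ 1 (ent i t) = if θ.1 t = i then 1 else 0 :=
  expOf_apply θ 1 i t

lemma chain_algebraicIndependent (hd : 0 < d) (w : Idx d n) {N : ℕ} (e : Fin N → Idx d n) (he : StrictAnti e)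
    (hle : ∀ k, e k ≤ w) : AlgebraicIndependent K fun k => cellMap K w (X (e k)) := by
  classical
  refine algebraicIndependent_of_degree MonomialOrder.lex _ (fun k => (degree_cellMap_X w _ (hle k)).1) ?_
  intro a b hab
  simp only [fun k => (degree_cellMap_X (K := K) w (e k) (hle k)).2] at hab
  have hval : ∀ i t, (∑ k, if (e k).1 t = i then a k else 0) = ∑ k, if (e k).1 t = i then b k else 0 := by
    intro i t
    have := DFunLike.congr_fun hab (ent i t)
    rw [Finsupp.sum_fintype _ _ (fun i => by simp), Finsupp.sum_fintype _ _ (fun i => by simp)] at this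
    simp only [Finsupp.finsetSum_apply, Finsupp.smul_apply, expOf_one_apply, smul_eq_mul] at this
    refine Eq.trans (Finset.sum_congr rfl fun x _ => ?_) (this.trans (Finset.sum_congr rfl fun x _ => ?_))
    · split_ifs <;> simp
    · split_ifs <;> simp
  by_contra hne
  obtain ⟨k₁, hk₁⟩ : ∃ k, a k ≠ b k := by
    by_contra! h
    exact hne (Finsupp.ext h)
  have hS : (Finset.univ.filter fun k => a k ≠ b k).Nonempty := ⟨k₁, Finset.mem_filter.2 ⟨Finset.mem_univ _, hk₁⟩⟩
  let k := Finset.min' _ hS
  have hk : a k ≠ b k := (Finset.mem_filter.1 (Finset.min'_mem _ hS)).2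
  have hlow : ∀ k', k' < k → a k' = b k' := fun k' hk' => not_not.1 fun h =>
    not_le.2 hk' (Finset.min'_le _ k' (Finset.mem_filter.2 ⟨Finset.mem_univ _, h⟩))
  obtain ⟨t, ht⟩ : ∃ t, ∀ k', k < k' → (e k').1 t ≠ (e k).1 t := by
    by_cases h : k.val + 1 < N
    · obtain ⟨t, ht⟩ : ∃ t, (e ⟨k.val + 1, h⟩).1 t < (e k).1 t := by
        by_contra! hall
        exact not_le_of_gt (he (show k < ⟨k.val + 1, h⟩ from Fin.lt_def.2 (Nat.lt_succ_self _))) hall
      refine ⟨t, fun k' hk' => (lt_of_le_of_lt ?_ ht).ne⟩
      exact he.antitone (show (⟨k.val + 1, h⟩ : Fin N) ≤ k' from Fin.le_def.2 (Fin.lt_def.1 hk')) t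
    · exact ⟨⟨0, hd⟩, fun k' hk' => absurd (Fin.lt_def.1 hk') (by omega)⟩
  have := hval ((e k).1 t) t
  rw [← Finset.add_sum_erase _ _ (Finset.mem_univ k), ← Finset.add_sum_erase _ _ (Finset.mem_univ k),
    if_pos rfl, if_pos rfl, Finset.sum_congr rfl (s₁ := Finset.univ.erase k)
      (g := fun x => if (e x).1 t = (e k).1 t then b x else 0) fun x hx => by
      rcases lt_or_gt_of_ne (Finset.ne_of_mem_erase hx) with h | h
      · rw [hlow x h]
      · rw [if_neg (ht x h), if_neg (ht x h)]] at this
  exact hk (add_right_cancel this)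

/-- The generators of the function field of a Schubert variety. -/
abbrev Free (w : Idx d n) : Type := {p : Fin n × Fin d // p.1 ≤ w.1 p.2 ∧ p.1 ∉ Finset.univ.image w.1}

lemma card_free (w : Idx d n) : Fintype.card (Free w) = codeg w := by
  classical
  rw [Fintype.card_subtype]
  rw [Finset.card_filter, Fintype.sum_prod_type_right, codeg]
  refine Finset.sum_congr rfl fun t _ => ?_
  rw [← Finset.card_filter]
  have h1 : Finset.univ.filter (fun i => i ≤ w.1 t ∧ i ∉ Finset.univ.image w.1) =
      Finset.Iic (w.1 t) \ (Finset.Iic t).image w.1 := by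
    ext i
    simp only [Finset.mem_filter, Finset.mem_univ, true_and, Finset.mem_sdiff, Finset.mem_Iic, Finset.mem_image]
    refine and_congr_right fun hi => ⟨fun h ⟨s, _, hs⟩ => h ⟨s, hs⟩, fun h ⟨s, hs⟩ => h ⟨s, ?_, hs⟩⟩
    exact w.2.le_iff_le.1 (hs ▸ hi)
  rw [h1, Finset.card_sdiff_of_subset, Fin.card_Iic, Finset.card_image_of_injective _ w.2.injective, Fin.card_Iic]
  · omega
  · intro i hi
    obtain ⟨s, hs, rfl⟩ := Finset.mem_image.1 hi
    exact Finset.mem_Iic.2 (w.2.monotone (Finset.mem_Iic.1 hs))

theorem ringKrullDim_schubert [Infinite K] (hd : 0 < d) (hdn : d ≤ n) (w : Idx d n) :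
    ringKrullDim (PlRing K d n ⧸ schubertVanishing K d n w) = ((codeg w + 1 : ℕ) : WithBot ℕ∞) := by
  classical
  rw [schubertVanishing_eq_ker hd w]
  let J := RingHom.ker (cellMap K w).toRingHom
  have : J.IsPrime := RingHom.ker_isPrime _
  let φ : (PlRing K d n ⧸ J) →ₐ[K] MvPolynomial (Ent d n) K := Ideal.Quotient.liftₐ J (cellMap K w) fun _ h => h
  have hφ : Function.Injective φ := (injective_iff_map_eq_zero φ).2 fun x hx => by
    obtain ⟨f, rfl⟩ := Ideal.Quotient.mk_surjective x
    exact Ideal.Quotient.eq_zero_iff_mem.2 (RingHom.mem_ker.2 hx)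
  obtain ⟨s, hdim, htr⟩ := WeilLib.dim_eq_trdeg K (PlRing K d n ⧸ J) (FractionRing (PlRing K d n ⧸ J))
  suffices hs : Algebra.trdeg K (PlRing K d n ⧸ J) = (codeg w + 1 : ℕ) by
    have h2 : Algebra.trdeg K (FractionRing (PlRing K d n ⧸ J)) = Algebra.trdeg K (PlRing K d n ⧸ J) := by
      refine le_antisymm ?_ (trdeg_le_of_injective (IsScalarTower.toAlgHom K _ _) (IsFractionRing.injective _ _))
      have : Algebra.IsAlgebraic (PlRing K d n ⧸ J) (FractionRing (PlRing K d n ⧸ J)) :=
        IsLocalization.isAlgebraic _ (nonZeroDivisors _)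
      rw [← trdeg_add_eq K (PlRing K d n ⧸ J), trdeg_eq_zero (R := PlRing K d n ⧸ J), add_zero]
    rw [htr, hs, Nat.cast_inj] at h2
    rw [hdim, h2]
  refine le_antisymm ?_ ?_
  · -- the generators in the field of rational functions
    let F := FractionRing (MvPolynomial (Ent d n) K)
    let ι : MvPolynomial (Ent d n) K →ₐ[K] F := IsScalarTower.toAlgHom K _ _
    let B : Matrix (Fin n) (Fin d) F := (cellGen K w).map ι
    let g : Matrix (Fin d) (Fin d) F := B.submatrix w.1 id
    have hgt : g.BlockTriangular id := fun s t hst => by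
      show ι (cellGen K w (w.1 s) t) = 0
      rw [show cellGen K w (w.1 s) t = 0 from if_neg (not_le.2 (w.2 hst)), map_zero]
    have hg : g.det ≠ 0 := by
      rw [Matrix.det_of_isUpperTriangular hgt]
      refine Finset.prod_ne_zero_iff.2 fun t _ => ?_
      show ι (cellGen K w (w.1 t) t) ≠ 0
      rw [show cellGen K w (w.1 t) t = X (ent (w.1 t) t) from if_pos le_rfl]
      exact (map_ne_zero_iff ι (IsFractionRing.injective _ _)).2 (X_ne_zero _)
    have hinv : Invertible g := Matrix.invertibleOfIsUnitDet g (isUnit_iff_ne_zero.2 hg)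
    let A₀ : Matrix (Fin n) (Fin d) F := B * g⁻¹
    have hid : ∀ s t, A₀ (w.1 s) t = (1 : Matrix (Fin d) (Fin d) F) s t := fun s t => by
      rw [← Matrix.mul_nonsing_inv g (isUnit_iff_ne_zero.2 hg)]
      rfl
    have hzero : ∀ i t, ¬ i ≤ w.1 t → A₀ i t = 0 := fun i t hi => by
      show ∑ s, B i s * g⁻¹ s t = 0
      refine Finset.sum_eq_zero fun s _ => ?_
      rcases le_or_gt s t with h | h
      · rw [show B i s = 0 by
          show ι (cellGen K w i s) = 0
          rw [show cellGen K w i s = 0 from if_neg fun h' => hi (h'.trans (w.2.monotone h)), map_zero], zero_mul]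
      · rw [Matrix.blockTriangular_inv_of_blockTriangular hgt h, mul_zero]
    let gen : Option (Free w) → F := fun o => o.elim g.det fun p => A₀ p.1.1 p.1.2
    let S : Subalgebra K F := Algebra.adjoin K (Set.range gen)
    have hA₀ : ∀ i t, A₀ i t ∈ S := fun i t => by
      by_cases hi : i ≤ w.1 t
      · by_cases hw : i ∈ Finset.univ.image w.1
        · obtain ⟨s, -, rfl⟩ := Finset.mem_image.1 hw
          rw [hid, Matrix.one_apply]
          split_ifs
          · exact one_mem _
          · exact zero_mem _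
        · exact Algebra.subset_adjoin ⟨some ⟨(i, t), hi, hw⟩, rfl⟩
      · rw [hzero i t hi]; exact zero_mem _
    have hgen : ∀ f, (ι.comp (cellMap K w)) f ∈ S := by
      intro f
      induction f using MvPolynomial.induction_on with
      | C a =>
        rw [← MvPolynomial.algebraMap_eq, AlgHom.commutes]
        exact S.algebraMap_mem a
      | add p q hp hq => rw [map_add]; exact add_mem hp hq
      | mul_X p θ hp =>
        rw [map_mul]
        refine mul_mem hp ?_
        show ι (cellMap K w (X θ)) ∈ S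
        rw [cellMap, map_evalAt, evalAt_X]
        show (B.submatrix θ.1 id).det ∈ S
        have : B = A₀ * g := by
          rw [Matrix.mul_assoc, Matrix.nonsing_inv_mul g (isUnit_iff_ne_zero.2 hg), Matrix.mul_one]
        rw [this, show (A₀ * g).submatrix θ.1 id = A₀.submatrix θ.1 id * g from
          Matrix.submatrix_mul _ _ _ id _ Function.bijective_id, Matrix.det_mul]
        refine mul_mem ?_ (Algebra.subset_adjoin ⟨none, rfl⟩)
        rw [Matrix.det_apply]
        refine Subalgebra.sum_mem _ fun σ _ => ?_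
        rw [Units.smul_def]
        exact zsmul_mem (Subalgebra.prod_mem _ fun t _ => hA₀ _ _) _
    let ψ : (PlRing K d n ⧸ J) →ₐ[K] S := (ι.comp φ).codRestrict S fun x => by
      obtain ⟨f, rfl⟩ := Ideal.Quotient.mk_surjective x
      exact hgen f
    have hψ : Function.Injective ψ := fun a b h =>
      hφ (IsFractionRing.injective (MvPolynomial (Ent d n) K) F (congrArg Subtype.val h))
    refine (trdeg_le_of_injective ψ hψ).trans ?_
    let π : MvPolynomial (Option (Free w)) K →ₐ[K] S :=
      (MvPolynomial.aeval gen).codRestrict S fun p => by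
        rw [show S = (MvPolynomial.aeval gen).range from Algebra.adjoin_range_eq_range_aeval K gen]
        exact ⟨p, rfl⟩
    have hπ : Function.Surjective π := fun ⟨x, hx⟩ => by
      rw [show S = (MvPolynomial.aeval gen).range from Algebra.adjoin_range_eq_range_aeval K gen] at hx
      obtain ⟨p, hp⟩ := hx
      exact ⟨p, Subtype.ext hp⟩
    have h := lift_trdeg_le_of_surjective π hπ
    rw [MvPolynomial.trdeg_of_isDomain] at h
    simpa [card_free] using h
  · obtain ⟨e, he, hle⟩ := exists_maximal_chain hdn (codeg w) w rfl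
    have hi : AlgebraicIndependent K fun k => Ideal.Quotient.mkₐ K J (X (e k)) :=
      AlgebraicIndependent.of_comp φ (chain_algebraicIndependent hd w e he hle)
    have := hi.lift_cardinalMk_le_trdeg
    simpa using this

end SMTLib
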