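import Groth.Agent.SMTLib.RegSeq
import Mathlib.Tactic.LinearCombination
import Mathlib.Tactic.Abel

/-!
# Regular sequences on the intersection
-/

universe u

namespace SMTLib

open RingTheory.Sequence Function Pointwise

variable {R : Type u} [CommRing R]

lemma isWeaklyRegular_left_snoc : ∀ (rs : List R) (x : R) {A B C : Type u} [AddCommGroup A] [Module R A] [AddCommGroup B]
    [Module R B] [AddCommGroup C] [Module R C] (f : A →ₗ[R] B) (g : B →ₗ[R] C), Injective f → Exact f g →
    Surjective g → IsWeaklyRegular B (rs ++ [x]) → IsWeaklyRegular C rs → IsWeaklyRegular A (rs ++ [x]) := by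
  intro rs x
  induction rs with
  | nil =>
    intro A B C _ _ _ _ _ _ f g hf _ _ hB _
    rw [List.nil_append, isWeaklyRegular_singleton_iff] at hB ⊢
    exact hB.of_injective f hf
  | cons r rs ih =>
    intro A B C _ _ _ _ _ _ f g hf hfg hg hB hC
    rw [List.cons_append, isWeaklyRegular_cons_iff] at hB ⊢
    rw [isWeaklyRegular_cons_iff] at hC
    exact ⟨hB.1.of_injective f hf, ih (QuotSMulTop.map r f) (QuotSMulTop.map r g)
      (map_injective_of_isSMulRegular hf hfg hC.1) (QuotSMulTop.map_exact r hfg hg) (QuotSMulTop.map_surjective r hg) hB.2 hC.2⟩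

lemma exists_inf_sequence {M : Type u} [AddCommGroup M] [Module R M] (I J : Submodule R M) :
    ∃ (f : (M ⧸ (I ⊓ J)) →ₗ[R] (M ⧸ I) × (M ⧸ J)) (g : (M ⧸ I) × (M ⧸ J) →ₗ[R] M ⧸ (I ⊔ J)),
      Injective f ∧ Exact f g ∧ Surjective g := by
  let f : (M ⧸ (I ⊓ J)) →ₗ[R] (M ⧸ I) × (M ⧸ J) :=
    Submodule.liftQ _ ((Submodule.mkQ I).prod (Submodule.mkQ J)) (by
      rw [LinearMap.ker_prod, Submodule.ker_mkQ, Submodule.ker_mkQ])
  let g : (M ⧸ I) × (M ⧸ J) →ₗ[R] M ⧸ (I ⊔ J) :=
    (Submodule.factor le_sup_left).coprod (-(Submodule.factor le_sup_right))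
  have hf : Injective f := by
    rw [← LinearMap.ker_eq_bot, Submodule.ker_liftQ_eq_bot']
    rw [LinearMap.ker_prod, Submodule.ker_mkQ, Submodule.ker_mkQ]
  have hg : Surjective g := fun c => by
    obtain ⟨c, rfl⟩ := Submodule.mkQ_surjective _ c
    exact ⟨(Submodule.mkQ I c, 0), by simp [g]⟩
  have hfg : Exact f g := by
    rintro ⟨a, b⟩
    obtain ⟨a, rfl⟩ := Submodule.mkQ_surjective _ a
    obtain ⟨b, rfl⟩ := Submodule.mkQ_surjective _ b
    constructor
    · intro h
      have h' : a - b ∈ I ⊔ J := by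
        rw [← Submodule.Quotient.mk_eq_zero (p := I ⊔ J), Submodule.Quotient.mk_sub]
        simpa [g, sub_eq_add_neg] using h
      obtain ⟨i, hi, j, hj, hij⟩ := Submodule.mem_sup.1 h'
      refine ⟨Submodule.Quotient.mk (a - i), Prod.ext ?_ ?_⟩
      · show Submodule.mkQ I (a - i) = Submodule.mkQ I a
        rw [Submodule.mkQ_apply, Submodule.mkQ_apply, Submodule.Quotient.eq]
        simpa using I.neg_mem hi
      · show Submodule.mkQ J (a - i) = Submodule.mkQ J b
        rw [Submodule.mkQ_apply, Submodule.mkQ_apply, Submodule.Quotient.eq]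
        convert hj using 1
        rw [sub_right_comm, ← hij]; abel
    · rintro ⟨c, hc⟩
      obtain ⟨c, rfl⟩ := Submodule.mkQ_surjective _ c
      rw [← hc]
      show g (Submodule.mkQ I c, Submodule.mkQ J c) = 0
      simp [g]
  exact ⟨f, g, hf, hfg, hg⟩

theorem isRegular_inf (I J : Ideal R) (rs : List R) (x : R)
    (hI : IsRegular (R ⧸ I) (rs ++ [x])) (hJ : IsRegular (R ⧸ J) (rs ++ [x]))
    (hIJ : IsRegular (R ⧸ (I ⊔ J)) rs) : IsRegular (R ⧸ (I ⊓ J)) (rs ++ [x]) := by
  obtain ⟨f, g, hf, hfg, hg⟩ := exists_inf_sequence (R := R) (M := R) I J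
  refine ⟨isWeaklyRegular_left_snoc rs x f g hf hfg hg
    (isWeaklyRegular_middle (rs ++ [x]) (LinearMap.inl R (R ⧸ I) (R ⧸ J)) (LinearMap.snd R (R ⧸ I) (R ⧸ J))
      LinearMap.inl_injective Exact.inl_snd LinearMap.snd_surjective hI.1 hJ.1) hIJ.1, fun h => hI.2 ?_⟩
  have := congrArg (Submodule.map (Submodule.factor (inf_le_left : I ⊓ J ≤ I))) h
  rw [Submodule.map_smul'', Submodule.map_top, LinearMap.range_eq_top.2 (Submodule.factor_surjective _)] at this
  exact this

end SMTLib
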