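import Groth.Agent.SMTLib.CMFree
import Mathlib.RingTheory.MvPolynomial.Homogeneous
import Mathlib.RingTheory.MvPolynomial.Ideal

/-!
# Homogeneous quotients with a regular system of linear forms are free over it
-/

universe u

namespace SMTLib

open MvPolynomial RingTheory.Sequence Pointwise

section Indep

variable {K : Type u} [Field K] {A : Type u} [CommRing A] [Algebra K A]

/-- Independence modulo a regular sequence gives independence over the polynomial ring on it. -/
theorem eq_zero_of_regular : ∀ {r : ℕ} (θ : Fin r → A) {M : Type u} [AddCommGroup M] [Module A M],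
    IsWeaklyRegular M (List.ofFn θ) → ∀ {ι : Type} [Fintype ι] (b : ι → M),
    (∀ c : ι → K, ∑ i, algebraMap K A (c i) • b i ∈ Ideal.ofList (List.ofFn θ) • (⊤ : Submodule A M) → c = 0) →
    ∀ p : ι → MvPolynomial (Fin r) K, ∑ i, MvPolynomial.aeval θ (p i) • b i = 0 → p = 0 := by
  intro r
  induction r with
  | zero =>
    intro θ M _ _ _ ι _ b hb p hp
    choose c hc using fun i => MvPolynomial.C_surjective (Fin 0) (p i)
    have : c = 0 := hb c (by
      have e : ∑ i, algebraMap K A (c i) • b i = 0 := by
        rw [← hp]; exact Finset.sum_congr rfl fun i _ => by rw [← hc i, MvPolynomial.aeval_C]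
      rw [e]; exact Submodule.zero_mem _)
    exact funext fun i => by rw [← hc i, this]; simp
  | succ r ih =>
    intro θ M _ _ hreg ι _ b hb
    rw [List.ofFn_succ, isWeaklyRegular_cons_iff] at hreg
    obtain ⟨h1, h2⟩ := hreg
    let θ' : Fin r → A := fun i => θ i.succ
    let b' : ι → QuotSMulTop (θ 0) M := fun i => Submodule.Quotient.mk (b i)
    have hb' : ∀ c : ι → K, ∑ i, algebraMap K A (c i) • b' i ∈ Ideal.ofList (List.ofFn θ') • (⊤ : Submodule A (QuotSMulTop (θ 0) M)) → c = 0 := by
      intro c hc
      refine hb c ?_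
      have e : ∑ i, algebraMap K A (c i) • b' i = Submodule.mkQ _ (∑ i, algebraMap K A (c i) • b i) := by
        rw [map_sum]; rfl
      rw [e, ← Submodule.mem_comap] at hc
      have e2 : (Ideal.ofList (List.ofFn θ') • ⊤ : Submodule A (QuotSMulTop (θ 0) M)) =
          Submodule.map (θ 0 • ⊤ : Submodule A M).mkQ (Ideal.ofList (List.ofFn θ') • ⊤) := by
        rw [Submodule.map_smul'', Submodule.map_top, Submodule.range_mkQ]
      rw [e2, Submodule.comap_map_mkQ] at hc
      rw [List.ofFn_succ, Ideal.ofList_cons, Submodule.sup_smul, Submodule.ideal_span_singleton_smul]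
      exact hc
    -- induction on the degree in the first variable
    suffices h : ∀ (N : ℕ) (p : ι → Polynomial (MvPolynomial (Fin r) K)), (∀ i, (p i).natDegree < N ∨ p i = 0) →
        ∑ i, (p i).eval₂ (MvPolynomial.aeval θ').toRingHom (θ 0) • b i = 0 → p = 0 by
      intro p hp
      have hfun : ∀ q : MvPolynomial (Fin (r + 1)) K, MvPolynomial.aeval θ q =
          (finSuccEquiv K r q).eval₂ (MvPolynomial.aeval θ').toRingHom (θ 0) := by
        intro q
        induction q using MvPolynomial.induction_on with
        | C a => simp [finSuccEquiv_apply]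
        | add p q h1 h2 => simp only [map_add, Polynomial.eval₂_add, h1, h2]
        | mul_X p i h1 =>
          simp only [map_mul, Polynomial.eval₂_mul, h1]
          congr 1
          induction i using Fin.cases with
          | zero => simp [finSuccEquiv_X_zero]
          | succ i => simp [finSuccEquiv_X_succ, θ']
      have := h ((Finset.univ.sup fun i => (finSuccEquiv K r (p i)).natDegree) + 1) (fun i => finSuccEquiv K r (p i))
        (fun i => Or.inl (Nat.lt_succ_of_le (Finset.le_sup (f := fun i => (finSuccEquiv K r (p i)).natDegree) (Finset.mem_univ i))))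
        (by simpa [hfun] using hp)
      exact funext fun i => (finSuccEquiv K r).injective (by rw [congrFun this i]; simp)
    intro N
    induction N with
    | zero => intro p hdeg _; exact funext fun i => (hdeg i).resolve_left (Nat.not_lt_zero _)
    | succ N ihN =>
      intro p hdeg hp
      have h0 : (fun i => (p i).coeff 0) = 0 := by
        refine ih θ' h2 b' hb' _ ?_
        have := congrArg (Submodule.mkQ (θ 0 • ⊤ : Submodule A M)) hp
        rw [map_sum, map_zero] at this
        rw [← this]
        refine Finset.sum_congr rfl fun i _ => ?_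
        conv_rhs => rw [← Polynomial.divX_mul_X_add (p i)]
        rw [Polynomial.eval₂_add, Polynomial.eval₂_mul, Polynomial.eval₂_X, Polynomial.eval₂_C, add_smul, map_add,
          mul_smul, smul_comm _ (θ 0), show Submodule.mkQ (θ 0 • ⊤ : Submodule A M)
            (θ 0 • (p i).divX.eval₂ (MvPolynomial.aeval θ').toRingHom (θ 0) • b i) = 0 from
            (Submodule.Quotient.mk_eq_zero _).2 (Submodule.smul_mem_pointwise_smul _ _ _ trivial), zero_add]
        rfl
      have hd : ∀ i, p i = (p i).divX * Polynomial.X := fun i => by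
        conv_lhs => rw [← Polynomial.divX_mul_X_add (p i)]
        rw [congrFun h0 i]; simp
      have := ihN (fun i => (p i).divX) (fun i => by
        by_cases hz : (p i).divX = 0
        · exact Or.inr hz
        refine Or.inl ?_
        rcases hdeg i with h | h
        · have hmul := Polynomial.natDegree_mul_X hz
          rw [← hd i] at hmul
          omega
        · exact absurd (by rw [h]; simp) hz) (h1 (by
          show θ 0 • _ = θ 0 • (0 : M)
          rw [smul_zero, Finset.smul_sum, ← hp]
          refine Finset.sum_congr rfl fun i _ => ?_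
          conv_rhs => rw [hd i]
          rw [Polynomial.eval₂_mul, Polynomial.eval₂_X, mul_comm, mul_smul]))
      exact funext fun i => by rw [hd i, congrFun this i]; simp

end Indep

section Graded

variable {K : Type u} [Field K] {σ : Type} [Fintype σ]

/-- Taking components in a multiple of a linear form. -/
lemma homogeneousComponent_linear_mul {θ : MvPolynomial σ K} (hθ : θ.IsHomogeneous 1) (q : MvPolynomial σ K) (j : ℕ) :
    homogeneousComponent (j + 1) (θ * q) = θ * homogeneousComponent j q := by
  classical
  conv_lhs => rw [← sum_homogeneousComponent q, Finset.mul_sum, map_sum]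
  rw [Finset.sum_congr rfl fun i _ => homogeneousComponent_of_mem
    (show θ * homogeneousComponent i q ∈ homogeneousSubmodule σ K (1 + i) from
      hθ.mul (homogeneousComponent_isHomogeneous i q))]
  simp only [add_comm 1, Nat.add_left_inj]
  rw [Finset.sum_ite_eq (Finset.range (q.totalDegree + 1))]
  split_ifs with h
  · rfl
  · rw [homogeneousComponent_eq_zero _ _ (by simp only [Finset.mem_range] at h; omega), mul_zero]

theorem isCohenMacaulayRing_of_regular {r : ℕ} (θ : Fin r → MvPolynomial σ K) (hθ : ∀ i, (θ i).IsHomogeneous 1)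
    (I : Ideal (MvPolynomial σ K)) (hI : ∀ f ∈ I, ∀ j, homogeneousComponent j f ∈ I)
    (hreg : IsWeaklyRegular (MvPolynomial σ K ⧸ I) (List.ofFn θ))
    (hrad : ∀ s, X s ∈ (I ⊔ Ideal.ofList (List.ofFn θ)).radical) :
    LocCoh.IsCohenMacaulayRing (MvPolynomial σ K ⧸ I) := by
  classical
  set Θ := Ideal.ofList (List.ofFn θ)
  obtain ⟨N, hN⟩ := Ideal.exists_pow_le_of_le_radical_of_fg
    (show idealOfVars σ K ≤ (I ⊔ Θ).radical from Ideal.span_le.2 (by rintro _ ⟨s, rfl⟩; exact hrad s))
    (idealOfVars_fg σ K)
  let E : Finset (σ →₀ ℕ) := (Finset.range N).biUnion fun j => Finset.finsuppAntidiag Finset.univ j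
  let π := Ideal.Quotient.mkₐ K (I ⊔ Θ)
  let v : E → MvPolynomial σ K ⧸ (I ⊔ Θ) := fun e => π (monomial e.1 1)
  obtain ⟨κ, a, ha, hspan, hli⟩ := exists_linearIndependent' K v
  have : Fintype κ := Fintype.ofInjective a ha
  let b : κ → MvPolynomial σ K := fun k => monomial (a k).1 1
  -- every element is a combination of the chosen monomials modulo the linear forms
  have hmod : ∀ x : MvPolynomial σ K, ∃ c : κ → K, x - ∑ k, C (c k) * b k ∈ I ⊔ Θ := by
    intro x
    have hx : π x ∈ Submodule.span K (Set.range v) := by
      rw [x.as_sum, map_sum]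
      refine Submodule.sum_mem _ fun e _ => ?_
      rw [show monomial e (coeff e x) = coeff e x • monomial e (1 : K) by simp [smul_monomial], map_smul]
      refine Submodule.smul_mem _ _ ?_
      by_cases he : e.degree < N
      · refine Submodule.subset_span ⟨⟨e, Finset.mem_biUnion.2 ⟨e.degree, Finset.mem_range.2 he,
          Finset.mem_finsuppAntidiag.2 ⟨by rw [Finsupp.degree_eq_sum], Finset.subset_univ _⟩⟩⟩, rfl⟩
      · have : monomial e (1 : K) ∈ I ⊔ Θ := hN ((mem_pow_idealOfVars_iff' _ _).2 fun x hx => by
          rw [coeff_monomial, if_neg]; rintro rfl; omega)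
        rw [show π (monomial e 1) = 0 from Ideal.Quotient.eq_zero_iff_mem.2 this]
        exact Submodule.zero_mem _
    rw [← hspan, Submodule.mem_span_range_iff_exists_fun] at hx
    obtain ⟨c, hc⟩ := hx
    refine ⟨c, ?_⟩
    rw [← Ideal.Quotient.eq_zero_iff_mem, ← Ideal.Quotient.mkₐ_eq_mk K, map_sub, map_sum, sub_eq_zero, ← hc]
    refine Finset.sum_congr rfl fun k _ => ?_
    show c k • π (monomial (a k).1 1) = _
    rw [← map_smul, smul_eq_C_mul]
  let P := MvPolynomial (Fin r) K
  let ev : P →ₐ[K] MvPolynomial σ K ⧸ I := (Ideal.Quotient.mkₐ K I).comp (MvPolynomial.aeval θ)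
  letI : Algebra P (MvPolynomial σ K ⧸ I) := ev.toRingHom.toAlgebra
  have hsmul : ∀ (p : P) (x : MvPolynomial σ K), p • Ideal.Quotient.mk I x = Ideal.Quotient.mk I (MvPolynomial.aeval θ p * x) :=
    fun p x => by rw [Algebra.smul_def, map_mul]; rfl
  let bv : κ → MvPolynomial σ K ⧸ I := fun k => Ideal.Quotient.mk I (b k)
  let W := Submodule.span P (Set.range bv)
  have hhom : ∀ (j : ℕ) (x : MvPolynomial σ K), x.IsHomogeneous j → Ideal.Quotient.mk I x ∈ W := by
    intro j
    induction j using Nat.strong_induction_on with
    | _ j ih =>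
    intro x hx
    obtain ⟨c, hc⟩ := hmod x
    obtain ⟨i, hi, t, ht, hit⟩ := Submodule.mem_sup.1 hc
    obtain ⟨q, hq⟩ : ∃ q : Fin r → MvPolynomial σ K, ∑ k, q k * θ k = t := by
      rw [← Ideal.mem_span_range_iff_exists_fun]
      have : Set.range θ = {x | x ∈ List.ofFn θ} := by ext; simp [List.mem_ofFn, eq_comm]
      rw [this]; exact ht
    have hxe : x = i + t + ∑ k, C (c k) * b k := by rw [hit]; ring
    have hcomp := congrArg (homogeneousComponent j) hxe
    rw [homogeneousComponent_eq_self hx, map_add, map_add, ← hq, map_sum, map_sum] at hcomp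
    rw [hcomp, map_add, map_add, map_sum, map_sum, Ideal.Quotient.eq_zero_iff_mem.2 (hI i hi j), zero_add]
    refine W.add_mem (W.sum_mem fun k _ => ?_) (W.sum_mem fun k _ => ?_)
    · rw [mul_comm]
      cases j with
      | zero =>
        have : homogeneousComponent 0 (θ k * q k) = 0 := by
          rw [homogeneousComponent_zero, ← constantCoeff_eq, map_mul, constantCoeff_eq,
            (hθ k).coeff_eq_zero (by simp), zero_mul, map_zero]
        rw [this, map_zero]
        exact W.zero_mem
      | succ j =>
        rw [homogeneousComponent_linear_mul (hθ k), show θ k = MvPolynomial.aeval θ (X k : P) from (aeval_X θ k).symm,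
          ← hsmul]
        exact W.smul_mem _ (ih j (Nat.lt_succ_self j) _ (homogeneousComponent_isHomogeneous j _))
    · rw [homogeneousComponent_C_mul, homogeneousComponent_of_mem (isHomogeneous_monomial (1 : K) rfl)]
      split_ifs
      · rw [show C (c k) = MvPolynomial.aeval θ (C (c k) : P) from (aeval_C θ (c k)).symm, ← hsmul]
        exact W.smul_mem _ (Submodule.subset_span ⟨k, rfl⟩)
      · rw [mul_zero, map_zero]; exact W.zero_mem
  have htop : ⊤ ≤ W := by
    intro y _
    obtain ⟨x, rfl⟩ := Ideal.Quotient.mk_surjective y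
    rw [← sum_homogeneousComponent x, map_sum]
    exact W.sum_mem fun j _ => hhom j _ (homogeneousComponent_isHomogeneous j x)
  obtain ⟨κ', ⟨e⟩⟩ : ∃ k, Nonempty (κ ≃ Fin k) := ⟨_, ⟨Fintype.equivFin κ⟩⟩
  have hind : ∀ c : Fin κ' → K, ∑ i, algebraMap K (MvPolynomial σ K) (c i) • bv (e.symm i) ∈
      Θ • (⊤ : Submodule (MvPolynomial σ K) (MvPolynomial σ K ⧸ I)) → c = 0 := by
    intro c hc
    have hz : ∑ k, (c (e k)) • v (a k) = 0 := by
      have e1 : ∑ i, algebraMap K (MvPolynomial σ K) (c i) • bv (e.symm i) =
          Submodule.mkQ I (∑ k, C (c (e k)) * b k) := by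
        rw [map_sum, ← e.sum_comp]
        refine Finset.sum_congr rfl fun k _ => ?_
        rw [Equiv.symm_apply_apply, ← smul_eq_mul, map_smul]
        rfl
      rw [e1, ← Submodule.mem_comap] at hc
      have e2 : (Θ • ⊤ : Submodule (MvPolynomial σ K) (MvPolynomial σ K ⧸ I)) = Submodule.map (Submodule.mkQ I) Θ := by
        rw [← (Submodule.range_mkQ I), ← Submodule.map_top, ← Submodule.map_smul'', smul_eq_mul, ← Ideal.one_eq_top, mul_one]
      rw [e2, Submodule.comap_map_mkQ] at hc
      rw [← Ideal.Quotient.eq_zero_iff_mem.2 hc, ← Ideal.Quotient.mkₐ_eq_mk K, map_sum]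
      refine Finset.sum_congr rfl fun k _ => ?_
      show c (e k) • π (monomial (a k).1 1) = _
      rw [← map_smul, smul_eq_C_mul]
    funext i
    simpa using Fintype.linearIndependent_iff.1 hli (fun k => c (e k)) hz (e.symm i)
  have hli' : LinearIndependent P fun i => bv (e.symm i) := by
    rw [Fintype.linearIndependent_iff]
    intro p hp i
    refine congrFun (eq_zero_of_regular θ hreg (fun i => bv (e.symm i)) hind p ?_) i
    rw [← hp]
    refine Finset.sum_congr rfl fun i _ => ?_
    show Submodule.Quotient.mk _ = _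
    rw [hsmul]
    rfl
  have : Module.Finite P (MvPolynomial σ K ⧸ I) := Module.Finite.of_fg_top
    ⟨Finset.univ.image bv, by rw [Finset.coe_image, Finset.coe_univ, Set.image_univ]; exact top_le_iff.1 htop⟩
  have : Module.Free P (MvPolynomial σ K ⧸ I) := Module.Free.of_basis (Module.Basis.mk hli' (by
    rw [show (Set.range fun i => bv (e.symm i)) = Set.range bv from e.symm.surjective.range_comp bv]
    exact htop))
  exact isCohenMacaulayRing_of_flat P (MvPolynomial σ K ⧸ I)

end Graded

end SMTLib
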