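import Groth.Agent.SMTLib.SchubertCM
import Groth.Agent.SMTLib.GradedFree

/-!
# Schubert varieties and unions of divisors are arithmetically Cohen-Macaulay
-/

universe u

namespace SMTLib

open MvPolynomial W4bk4grassmannian RingTheory.Sequence

variable {K : Type u} [Field K] [Infinite K] {d n : ℕ}

lemma homogeneousComponent_mem_schubert (hd : 0 < d) (τ : Idx d n) (f : PlRing K d n)
    (hf : f ∈ schubertVanishing K d n τ) (j : ℕ) : homogeneousComponent j f ∈ schubertVanishing K d n τ := by
  classical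
  simp only [schubertVanishing, Submodule.mem_iInf, RingHom.mem_ker] at hf ⊢
  intro A hA
  show evalAt A (homogeneousComponent j f) = 0
  let k₀ : Fin d := ⟨0, hd⟩
  let T := f.totalDegree + 1
  let P : Polynomial K := ∑ i ∈ Finset.range T, Polynomial.C (evalAt A (homogeneousComponent i f)) * Polynomial.X ^ i
  have hscale : ∀ c : K, P.eval c = 0 := by
    intro c
    let A' : Matrix (Fin n) (Fin d) K := A * Matrix.diagonal (fun k => if k = k₀ then c else 1)
    have hA' : ∀ θ : Idx d n, (A'.submatrix θ.1 id).det = c * (A.submatrix θ.1 id).det := by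
      intro θ
      have : A'.submatrix θ.1 id = A.submatrix θ.1 id * Matrix.diagonal (fun k => if k = k₀ then c else 1) := by
        ext i k; simp [A', Matrix.mul_diagonal]
      rw [this, Matrix.det_mul, Matrix.det_diagonal, Finset.prod_ite_eq' Finset.univ k₀ (fun _ => c), mul_comm]
      simp
    have h := hf A' (fun φ hφ => by rw [hA', hA φ hφ, mul_zero])
    have h' : evalAt A' f = 0 := h
    rw [← h', ← sum_homogeneousComponent f, map_sum]
    simp only [P, Polynomial.eval_finsetSum, Polynomial.eval_mul, Polynomial.eval_C, Polynomial.eval_pow, Polynomial.eval_X]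
    refine Finset.sum_congr rfl fun i _ => ?_
    rw [(homogeneousComponent i f).as_sum, map_sum, map_sum, Finset.sum_mul]
    refine Finset.sum_congr rfl fun e he => ?_
    have hdeg : e.degree = i := by
      have := homogeneousComponent_isHomogeneous i f (mem_support_iff.1 he)
      rw [Finsupp.degree_eq_weight_one]; exact this
    simp only [evalAt, MvPolynomial.aeval_monomial, hA', Finsupp.prod, mul_pow, Finset.prod_mul_distrib,
      Finset.prod_pow_eq_pow_sum]
    rw [← hdeg, Finsupp.degree_apply]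
    ring
  have hP : P = 0 := Polynomial.funext fun c => by rw [hscale c, Polynomial.eval_zero]
  by_cases hj : j < T
  · have := congrArg (fun q : Polynomial K => q.coeff j) hP
    simp only [P, Polynomial.finsetSum_coeff, Polynomial.coeff_C_mul_X_pow, Polynomial.coeff_zero] at this
    rw [Finset.sum_ite_eq (Finset.range T), if_pos (Finset.mem_range.2 hj)] at this
    exact this
  · rw [homogeneousComponent_eq_zero _ _ (by omega), map_zero]

lemma homogeneousComponent_mem_union (hd : 0 < d) (T : Finset (Idx d n)) (f : PlRing K d n)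
    (hf : f ∈ unionIdeal T) (j : ℕ) : homogeneousComponent j f ∈ unionIdeal (K := K) T := by
  rw [mem_unionIdeal] at hf ⊢
  exact fun φ hφ => homogeneousComponent_mem_schubert hd φ f (hf φ hφ) j

omit [Infinite K] in
lemma rankList_eq_ofFn (m : ℕ) :
    rankList K d n m = List.ofFn fun i : Fin (m + 1) => rankSum K d n (m - i.val) := by
  induction m with
  | zero => simp [rankList]
  | succ m ih =>
    rw [rankList, ih, List.ofFn_succ (n := m + 1)]
    simp only [Fin.val_zero, Fin.val_succ, Nat.sub_zero, Nat.add_sub_add_right]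

omit [Infinite K] in
lemma rankSum_mem_ofList {m k : ℕ} (h : k ≤ m) :
    rankSum K d n k ∈ Ideal.ofList (rankList K d n m) := by
  refine Ideal.subset_span ?_
  show _ ∈ rankList K d n m
  rw [rankList_eq_ofFn, List.mem_ofFn]
  exact ⟨⟨m - k, by omega⟩, by simp only; rw [Nat.sub_sub_self h]⟩

/-- Products of distinct coordinates of one rank involve higher ranks. -/
lemma mul_mem_higher (hd : 0 < d) (hdn : d ≤ n) (τ φ ψ : Idx d n) (h : codeg ψ = codeg φ) (hne : ψ ≠ φ) :
    X φ * X ψ ∈ schubertVanishing K d n τ ⊔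
      Ideal.span {f | ∃ γ : Idx d n, codeg φ < codeg γ ∧ f = X γ} := by
  classical
  set H := Ideal.span {f : PlRing K d n | ∃ γ : Idx d n, codeg φ < codeg γ ∧ f = X γ}
  obtain ⟨a, ha⟩ := exists_repr (K := K) (X φ * X ψ)
  have key : Finsupp.linearCombination K (fun c : Std d n => chainMon K c.2.1) a ∈ schubertVanishing K d n τ ⊔ H := by
    rw [Finsupp.linearCombination_apply]
    refine Ideal.sum_mem _ fun c hc => ?_
    show a c • chainMon K c.2.1 ∈ _
    rw [Algebra.smul_def]
    refine Ideal.mul_mem_left _ _ ?_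
    by_cases hbig : ∃ k, codeg φ < codeg (c.2.1 k)
    · obtain ⟨k, hk⟩ := hbig
      rw [chainMon, ← Finset.mul_prod_erase _ _ (Finset.mem_univ k)]
      exact Ideal.mul_mem_right _ _ (Ideal.mem_sup_right (Ideal.subset_span ⟨_, hk, rfl⟩))
    exfalso
    push Not at hbig
    obtain ⟨γ, hle, hγ⟩ : ∃ γ, c.LE γ ∧ codeg γ ≤ codeg φ := by
      by_cases h0 : c.1 = 0
      · exact ⟨bottom hdn, fun k => absurd k.isLt (by omega), by rw [(codeg_eq_zero_iff hdn _).2 rfl]; exact Nat.zero_le _⟩
      · exact ⟨c.2.1 ⟨0, Nat.pos_of_ne_zero h0⟩, fun k => c.2.2 (Fin.le_def.2 (Nat.zero_le _)), hbig _⟩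
    have hmem : X φ * X ψ ∈ schubertVanishing K d n γ := by
      by_cases hφ : φ ≤ γ
      · refine Ideal.mul_mem_left _ _ (plIdeal_le_schubertVanishing γ (Ideal.subset_span (Or.inr ⟨ψ, fun hψ => hne ?_, rfl⟩)))
        rcases hφ.lt_or_eq with h' | h'
        · have := codeg_lt_of_lt h'; omega
        · rcases hψ.lt_or_eq with h'' | h''
          · have := codeg_lt_of_lt h''; rw [← h'] at this; omega
          · rw [h', h'']
      · exact Ideal.mul_mem_right _ _ (plIdeal_le_schubertVanishing γ (Ideal.subset_span (Or.inr ⟨φ, hφ, rfl⟩)))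
    exact (Finsupp.mem_support_iff.1 hc) ((mem_iff_coeff hd γ _ a (ha γ)).1 hmem c hle)
  simpa using Ideal.add_mem _ (Ideal.mem_sup_left (ha τ) :
    X φ * X ψ - Finsupp.linearCombination K (fun c : Std d n => chainMon K c.2.1) a ∈
      schubertVanishing K d n τ ⊔ H) key

lemma X_mem_radical (hd : 0 < d) (hdn : d ≤ n) (τ : Idx d n) {m : ℕ} (hm : codeg τ ≤ m) (φ : Idx d n) :
    X φ ∈ (schubertVanishing K d n τ ⊔ Ideal.ofList (rankList K d n m)).radical := by
  classical
  set J := schubertVanishing K d n τ ⊔ Ideal.ofList (rankList K d n m)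
  suffices h : ∀ N, ∀ φ : Idx d n, codeg τ < codeg φ + N → X φ ∈ J.radical from h (codeg τ + 1) φ (by omega)
  intro N
  induction N with
  | zero =>
    intro φ hφ
    refine Ideal.le_radical (Ideal.mem_sup_left (plIdeal_le_schubertVanishing τ (Ideal.subset_span (Or.inr ⟨φ, fun hle => ?_, rfl⟩))))
    have := codeg_le_of_le hle
    omega
  | succ N ih =>
    intro φ hφ
    by_cases hlt : codeg τ < codeg φ + N
    · exact ih φ hlt
    have hH : Ideal.span {f : PlRing K d n | ∃ γ : Idx d n, codeg φ < codeg γ ∧ f = X γ} ≤ J.radical := by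
      rw [Ideal.span_le]
      rintro _ ⟨γ, hγ, rfl⟩
      exact ih γ (by omega)
    have hsq : X φ * X φ ∈ J.radical := by
      have h1 : X φ * rankSum K d n (codeg φ) ∈ J.radical :=
        Ideal.le_radical (Ideal.mem_sup_right (Ideal.mul_mem_left _ _ (rankSum_mem_ofList (by omega))))
      rw [rankSum, ← Finset.add_sum_erase _ _ (Finset.mem_filter.2 ⟨Finset.mem_univ φ, rfl⟩ :
        φ ∈ Finset.univ.filter fun ψ : Idx d n => codeg ψ = codeg φ), mul_add, Finset.mul_sum] at h1
      refine (Ideal.add_mem_iff_left _ (Ideal.sum_mem _ fun ψ hψ => ?_)).1 h1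
      obtain ⟨hne, hψ⟩ := Finset.mem_erase.1 hψ
      exact (sup_le ((le_sup_left : _ ≤ J).trans Ideal.le_radical) hH)
        (mul_mem_higher hd hdn τ φ ψ (Finset.mem_filter.1 hψ).2 hne)
    rw [← pow_two] at hsq
    exact J.radical_isRadical ⟨2, hsq⟩

lemma X_mem_radical_union (hd : 0 < d) (hdn : d ≤ n) (T : Finset (Idx d n)) {m : ℕ} (hT : ∀ φ ∈ T, codeg φ ≤ m)
    (φ : Idx d n) : X φ ∈ (unionIdeal (K := K) T ⊔ Ideal.ofList (rankList K d n m)).radical := by
  classical
  induction T using Finset.induction with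
  | empty => exact Ideal.le_radical (Ideal.mem_sup_left (by simp [mem_unionIdeal]))
  | insert τ T hτ ih =>
    have hu : unionIdeal (K := K) (insert τ T) = schubertVanishing K d n τ ⊓ unionIdeal T := by
      ext f; simp [mem_unionIdeal]
    rw [hu]
    set Θ := Ideal.ofList (rankList K d n m)
    set A := schubertVanishing K d n τ
    set B := unionIdeal (K := K) T
    have hle : (A ⊔ Θ) * (B ⊔ Θ) ≤ A ⊓ B ⊔ Θ := by
      rw [Ideal.sup_mul, Ideal.mul_sup]
      exact sup_le (sup_le (Ideal.mul_le_inf.trans le_sup_left) (Ideal.mul_le_right.trans le_sup_right))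
        (Ideal.mul_le_left.trans le_sup_right)
    refine Ideal.radical_mono hle ?_
    rw [Ideal.radical_mul]
    exact ⟨X_mem_radical hd hdn τ (hT τ (Finset.mem_insert_self _ _)) φ, ih fun ψ hψ => hT ψ (Finset.mem_insert_of_mem hψ)⟩

theorem isCohenMacaulayRing_schubert (hd : 0 < d) (hdn : d ≤ n) (τ : Idx d n) :
    LocCoh.IsCohenMacaulayRing (PlRing K d n ⧸ schubertVanishing K d n τ) := by
  refine isCohenMacaulayRing_of_regular (fun i : Fin (codeg τ + 1) => rankSum K d n (codeg τ - i.val))
    (fun i => IsHomogeneous.sum _ _ _ fun φ _ => isHomogeneous_X K φ) _ (homogeneousComponent_mem_schubert hd τ) ?_ fun φ => ?_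
  · rw [← rankList_eq_ofFn]; exact (isWeaklyRegular_rankList hd hdn _).1 τ rfl
  · rw [← rankList_eq_ofFn]; exact X_mem_radical hd hdn τ le_rfl φ

theorem isCohenMacaulayRing_union (hd : 0 < d) (hdn : d ≤ n) (τ : Idx d n) (T : Finset (Idx d n))
    (hT : ∀ φ ∈ T, φ ∈ divisors τ) : LocCoh.IsCohenMacaulayRing (PlRing K d n ⧸ unionIdeal (K := K) T) := by
  rcases T.eq_empty_or_nonempty with rfl | hne
  · have : unionIdeal (K := K) (∅ : Finset (Idx d n)) = ⊤ := by simp [unionIdeal]
    rw [this]
    have : Subsingleton (PlRing K d n ⧸ (⊤ : Ideal (PlRing K d n))) := Ideal.Quotient.subsingleton_iff.2 rfl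
    exact ⟨fun p hp => absurd (Ideal.eq_top_iff_one p |>.2 (by rw [Subsingleton.elim (1 : _) 0]; exact p.zero_mem)) hp.ne_top⟩
  obtain ⟨m, hm⟩ : ∃ m, codeg τ = m + 1 := by
    obtain ⟨φ, hφ⟩ := hne
    exact ⟨codeg φ, (hT φ hφ).2.symm⟩
  refine isCohenMacaulayRing_of_regular (fun i : Fin (m + 1) => rankSum K d n (m - i.val))
    (fun i => IsHomogeneous.sum _ _ _ fun φ _ => isHomogeneous_X K φ) _ (homogeneousComponent_mem_union hd T) ?_ fun φ => ?_
  · rw [← rankList_eq_ofFn]; exact (isWeaklyRegular_rankList hd hdn m).2 τ T hm hT hne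
  · rw [← rankList_eq_ofFn]
    exact X_mem_radical_union hd hdn T (fun ψ hψ => by have := (hT ψ hψ).2; omega) φ

end SMTLib
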