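import Groth.Agent.SMTLib.SchubertCMProof
import Groth.Agent.SMTLib.Plucker
import Mathlib.RingTheory.IntegralClosure.IntegrallyClosed
import Mathlib.RingTheory.Localization.Away.Basic
import Mathlib.RingTheory.Polynomial.ScaleRoots
import Mathlib.RingTheory.Polynomial.UniqueFactorization
import Mathlib.RingTheory.Polynomial.RationalRoot

/-!
# Schubert varieties are arithmetically normal
-/

universe u

namespace SMTLib

open MvPolynomial W4bk4grassmannian

/-- Normality is detected after inverting an element with reduced quotient. -/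
theorem isIntegrallyClosed_of_away {A : Type u} [CommRing A] [IsDomain A] {x : A} (hx : x ≠ 0)
    (hrad : (Ideal.span {x}).IsRadical) (hL : IsIntegrallyClosed (Localization.Away x)) : IsIntegrallyClosed A := by
  let F := FractionRing A
  let L := Localization.Away x
  have hle : Submonoid.powers x ≤ nonZeroDivisors A := powers_le_nonZeroDivisors_of_noZeroDivisors hx
  letI : Algebra L F := IsLocalization.localizationAlgebraOfSubmonoidLe L F (Submonoid.powers x) (nonZeroDivisors A) hle
  have : IsScalarTower A L F :=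
    IsLocalization.localization_isScalarTower_of_submonoid_le L F (Submonoid.powers x) (nonZeroDivisors A) hle
  have : IsFractionRing L F := IsFractionRing.isFractionRing_of_isDomain_of_isLocalization (Submonoid.powers x) L F
  have hxF : algebraMap A F x ≠ 0 := (map_ne_zero_iff _ (IsFractionRing.injective A F)).2 hx
  refine (isIntegrallyClosed_iff F).2 fun {y} hy => ?_
  obtain ⟨z, hz⟩ := (isIntegrallyClosed_iff F).1 hL (hy.tower_top (A := L))
  obtain ⟨k, a, hka⟩ : ∃ (k : ℕ) (a : A), algebraMap A F x ^ k * y = algebraMap A F a := by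
    obtain ⟨⟨a, s, k, rfl⟩, ha⟩ := IsLocalization.surj (Submonoid.powers x) z
    refine ⟨k, a, ?_⟩
    have := congrArg (algebraMap L F) ha
    rw [map_mul, hz, ← IsScalarTower.algebraMap_apply, ← IsScalarTower.algebraMap_apply] at this
    simp only [map_pow] at this
    rw [mul_comm]; exact this
  clear hz
  induction k generalizing a with
  | zero => exact ⟨a, by simpa using hka.symm⟩
  | succ k ih =>
    have hint : IsIntegral A (algebraMap A F x ^ k * y) :=
      (isIntegral_algebraMap (x := x ^ k)).mul hy |> fun h => by rwa [map_pow] at h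
    obtain ⟨p, hp, hpy⟩ := hint
    have hdiv : algebraMap A F x * (algebraMap A F x ^ k * y) = algebraMap A F a := by
      rw [← mul_assoc, ← pow_succ']; exact hka
    have h0 := Polynomial.scaleRoots_eval₂_mul (algebraMap A F) (p := p) (algebraMap A F x ^ k * y) x
    rw [hpy, mul_zero, hdiv, Polynomial.eval₂_hom] at h0
    have h1 : (p.scaleRoots x).eval a = 0 := IsFractionRing.injective A F (by rw [h0, map_zero])
    have hdvd : x ∣ a ^ p.natDegree := by
      rw [Polynomial.eval_eq_sum_range, Polynomial.natDegree_scaleRoots, Finset.sum_range_succ,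
        Polynomial.coeff_scaleRoots_natDegree, hp.leadingCoeff, one_mul] at h1
      rw [eq_neg_of_add_eq_zero_right h1]
      refine (Finset.dvd_sum fun i hi => ?_).neg_right
      rw [Polynomial.coeff_scaleRoots]
      have : p.natDegree - i ≠ 0 := by have := Finset.mem_range.1 hi; omega
      exact Dvd.dvd.mul_right (Dvd.dvd.mul_left (dvd_pow_self x this) _) _
    obtain ⟨a', rfl⟩ := Ideal.mem_span_singleton.1 (hrad ⟨_, Ideal.mem_span_singleton.2 hdvd⟩)
    refine ih a' (mul_left_cancel₀ hxF ?_)
    rw [hdiv, map_mul]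

variable {K : Type u} [Field K] {d n : ℕ}

/-- Entries of `A · adj(A_θ)` are minors. -/
lemma mul_adjugate_apply' {R : Type u} [CommRing R] (A : Matrix (Fin n) (Fin d) R) (θ : Fin d → Fin n) (i : Fin n)
    (k : Fin d) : (A * (A.submatrix θ id).adjugate) i k = (A.submatrix (Function.update θ k i) id).det := by
  have h : (A * (A.submatrix θ id).adjugate) i k = Matrix.cramer (A.submatrix θ id).transpose (A i) k := by
    rw [Matrix.cramer_eq_adjugate_mulVec, ← Matrix.adjugate_transpose, Matrix.mulVec_transpose]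
    rfl
  rw [h, Matrix.cramer_apply, Matrix.updateCol_transpose, Matrix.det_transpose]
  congr 1
  funext t c
  by_cases ht : t = k
  · subst ht; simp
  · simp [ht]

/-- An echelon matrix has no minor on rows raised above the echelon. -/
lemma det_update_eq_zero {R : Type u} [CommRing R] (G : Matrix (Fin n) (Fin d) R) (τ : Idx d n)
    (hG : ∀ i t, ¬ i ≤ τ.1 t → G i t = 0) {i : Fin n} {t : Fin d} (hi : ¬ i ≤ τ.1 t) :
    (G.submatrix (Function.update τ.1 t i) id).det = 0 := by
  classical
  rw [Matrix.det_apply]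
  refine Finset.sum_eq_zero fun σ _ => ?_
  obtain ⟨c, hc, hσ⟩ : ∃ c, c ≤ t ∧ t ≤ σ c := by
    by_contra! h'
    have := Finset.card_le_card_of_injOn σ (s := Finset.Iic t) (t := Finset.Iio t)
      (fun c hc => Finset.mem_Iio.2 (h' c (Finset.mem_Iic.1 hc))) σ.injective.injOn
    simp at this
  refine smul_eq_zero_of_right _ (Finset.prod_eq_zero (Finset.mem_univ c) ?_)
  show G (Function.update τ.1 t i (σ c)) c = 0
  refine hG _ _ fun hle => ?_
  rw [Function.update_apply] at hle
  split_ifs at hle with h
  · exact hi (hle.trans (τ.2.monotone hc))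
  · exact absurd (τ.2 (lt_of_le_of_lt hc (lt_of_le_of_ne hσ (Ne.symm h)))) (not_lt.2 hle)

section Chart

variable (K) (τ : Idx d n)

/-- The coordinates of the chart: a scale and the free entries. -/
abbrev ChartRing : Type u := MvPolynomial (Option (Free τ)) K

/-- The reduced echelon matrix. -/
noncomputable def redEchelon : Matrix (Fin n) (Fin d) (ChartRing K τ) :=
  Matrix.of fun i t => if h : i ≤ τ.1 t ∧ i ∉ Finset.univ.image τ.1 then X (some ⟨(i, t), h⟩)
    else if i = τ.1 t then 1 else 0

/-- The echelon matrix with scale. -/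
noncomputable def scaledEchelon : Matrix (Fin n) (Fin d) (ChartRing K τ) :=
  redEchelon K τ * Matrix.diagonal fun t : Fin d => if t.val = 0 then X none else 1

variable {K τ}

lemma redEchelon_pivot (s t : Fin d) : redEchelon K τ (τ.1 s) t = (1 : Matrix (Fin d) (Fin d) (ChartRing K τ)) s t := by
  unfold redEchelon
  rw [Matrix.of_apply, dif_neg (fun h => h.2 (Finset.mem_image_of_mem _ (Finset.mem_univ s))), Matrix.one_apply]
  exact if_congr τ.2.injective.eq_iff rfl rfl

lemma redEchelon_eq_zero {i : Fin n} {t : Fin d} (h : ¬ i ≤ τ.1 t) : redEchelon K τ i t = 0 := by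
  unfold redEchelon
  rw [Matrix.of_apply, dif_neg (fun h' => h h'.1), if_neg (fun h' => h h'.le)]

lemma det_scaled (hd : 0 < d) (a : Fin d → Fin n) :
    ((scaledEchelon K τ).submatrix a id).det = X none * ((redEchelon K τ).submatrix a id).det := by
  unfold scaledEchelon
  have hs := Matrix.submatrix_mul (redEchelon K τ) (Matrix.diagonal fun t : Fin d => if t.val = 0 then (X none : ChartRing K τ) else 1)
    a id id Function.bijective_id
  rw [Matrix.submatrix_id_id] at hs
  rw [hs, Matrix.det_mul, Matrix.det_diagonal, mul_comm]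
  congr 1
  rw [Finset.prod_eq_single (⟨0, hd⟩ : Fin d)]
  · simp
  · intro b _ hb
    rw [if_neg fun h => hb (Fin.ext h)]
  · simp

variable [Infinite K]

lemma schubertVanishing_le_ker_chart :
    schubertVanishing K d n τ ≤ RingHom.ker (evalAt (scaledEchelon K τ) : PlRing K d n →ₐ[K] ChartRing K τ).toRingHom := by
  classical
  let φ : MvPolynomial (Ent d n) K →ₐ[K] ChartRing K τ :=
    MvPolynomial.aeval fun p => scaledEchelon K τ (ofLex p).1 (ofLex p).2
  have h : (cellGen K τ).map φ = scaledEchelon K τ := by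
    refine Matrix.ext fun i t => ?_
    rw [Matrix.map_apply, cellGen, Matrix.of_apply]
    split_ifs with hle
    · simp [φ]
    · rw [map_zero, scaledEchelon, Matrix.mul_diagonal, redEchelon_eq_zero hle, zero_mul]
  intro f hf
  have h0 := schubertVanishing_le_ker τ hf
  rw [RingHom.mem_ker] at h0 ⊢
  show evalAt (scaledEchelon K τ) f = 0
  rw [← h, ← map_evalAt φ, show evalAt (cellGen K τ) f = 0 from h0, map_zero]

end Chart

variable [Infinite K]

lemma isRadical_sup_span (hd : 0 < d) (hdn : d ≤ n) (τ : Idx d n) :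
    (schubertVanishing K d n τ ⊔ Ideal.span {X τ}).IsRadical := by
  by_cases h : ∃ φ : Idx d n, φ < τ
  · rw [sup_span_eq_iInf_divisors hd τ h]
    intro f hf
    obtain ⟨k, hk⟩ := hf
    simp only [Submodule.mem_iInf] at hk ⊢
    exact fun φ hφ => (isPrime_schubertVanishing hd φ).mem_of_pow_mem k (hk φ hφ)
  · have hτ : τ = bottom hdn := by
      by_contra hne
      exact h ⟨_, lt_of_le_of_ne (bottom_le hdn τ) (Ne.symm hne)⟩
    have heq : schubertVanishing K d n τ ⊔ Ideal.span {X τ} = RingHom.ker (constantCoeff : PlRing K d n →+* K) := by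
      refine le_antisymm (sup_le (fun f hf => ?_) ?_) ?_
      · have hc := homogeneousComponent_mem_schubert hd τ f hf 0
        rw [homogeneousComponent_zero] at hc
        by_contra h0
        rw [RingHom.mem_ker, constantCoeff_eq] at h0
        exact (isPrime_schubertVanishing hd τ).ne_top
          (Ideal.eq_top_of_isUnit_mem _ hc ((isUnit_iff_ne_zero.2 h0).map C))
      · rw [Ideal.span_le]; rintro _ rfl; simp
      · intro f hf
        rw [RingHom.mem_ker, constantCoeff_eq] at hf
        rw [f.as_sum]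
        refine Submodule.sum_mem _ fun e he => ?_
        obtain ⟨φ, hφ⟩ := Finsupp.support_nonempty_iff.2 (fun h0 : e = 0 => (mem_support_iff.1 he) (h0 ▸ hf))
        have hX : (X φ : PlRing K d n) ∈ schubertVanishing K d n τ ⊔ Ideal.span {X τ} := by
          by_cases hφτ : φ = τ
          · exact hφτ ▸ Ideal.mem_sup_right (Ideal.subset_span rfl)
          · refine Ideal.mem_sup_left (plIdeal_le_schubertVanishing τ (Ideal.subset_span (Or.inr ⟨φ, fun hle => hφτ ?_, rfl⟩)))
            exact le_antisymm hle (hτ ▸ bottom_le hdn φ)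
        exact Ideal.mem_of_dvd _ (MvPolynomial.X_dvd_monomial.2 (Or.inr (Finsupp.mem_support_iff.1 hφ))) hX
    rw [heq]
    exact (RingHom.ker_isPrime _).isRadical

theorem nonempty_chartEquiv (hd : 0 < d) (τ : Idx d n) :
    Nonempty (Localization.Away (X none : ChartRing K τ) ≃+*
      Localization.Away (Ideal.Quotient.mk (schubertVanishing K d n τ) (X τ))) := by
  classical
  have := isPrime_schubertVanishing (K := K) hd τ
  let R := PlRing K d n ⧸ schubertVanishing K d n τ
  let x : R := Ideal.Quotient.mk _ (X τ)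
  have hx : x ≠ 0 := fun h => X_notMem hd (le_refl τ) (Ideal.Quotient.eq_zero_iff_mem.1 h)
  let P := ChartRing K τ
  let Bl := Localization.Away (X none : P)
  let L := Localization.Away x
  have hT : (X none : P) ≠ 0 := X_ne_zero _
  have : IsDomain Bl := IsLocalization.isDomain_of_le_nonZeroDivisors _ (powers_le_nonZeroDivisors_of_noZeroDivisors hT)
  have : IsDomain L := IsLocalization.isDomain_of_le_nonZeroDivisors _ (powers_le_nonZeroDivisors_of_noZeroDivisors hx)
  -- from the variety to the chart
  let α : R →ₐ[K] P := Ideal.Quotient.liftₐ _ (evalAt (scaledEchelon K τ)) fun f hf => schubertVanishing_le_ker_chart hf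
  have hα : ∀ a : Fin d → Fin n, α (Ideal.Quotient.mk _ (coord K d n a)) = X none * ((redEchelon K τ).submatrix a id).det :=
    fun a => (evalAt_coord _ a).trans (det_scaled hd a)
  have hαX : ∀ θ : Idx d n, α (Ideal.Quotient.mk _ (X θ)) = X none * ((redEchelon K τ).submatrix θ.1 id).det :=
    fun θ => (evalAt_X _ θ).trans (det_scaled hd θ.1)
  have hτ1 : (redEchelon K τ).submatrix τ.1 id = 1 := Matrix.ext fun s t => redEchelon_pivot s t
  have hαx : α x = X none := by
    show α (Ideal.Quotient.mk _ (X τ)) = _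
    rw [hαX, hτ1, Matrix.det_one, mul_one]
  let F₁ : L →ₐ[K] Bl := IsLocalization.liftAlgHom (M := Submonoid.powers x)
    (f := (IsScalarTower.toAlgHom K P Bl).comp α) (by
      rintro ⟨_, k, rfl⟩
      simp only [map_pow, AlgHom.comp_apply, hαx]
      exact (IsLocalization.Away.algebraMap_isUnit (X none : P)).pow k)
  -- the inverse
  obtain ⟨u, hu⟩ := IsLocalization.Away.algebraMap_isUnit (S := L) x
  let N : Matrix (Fin n) (Fin d) R := Matrix.of fun i t => Ideal.Quotient.mk _ (coord K d n (Function.update τ.1 t i))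
  let β : P →ₐ[K] L := MvPolynomial.aeval fun o =>
    o.elim (algebraMap R L x) fun p => algebraMap R L (N p.1.1 p.1.2) * ((u⁻¹ : Lˣ) : L)
  -- identities in the variety, checked on the cell
  let κ : R →ₐ[K] MvPolynomial (Ent d n) K := Ideal.Quotient.liftₐ _ (cellMap K τ) fun f hf => schubertVanishing_le_ker τ hf
  have hκ : Function.Injective κ := (injective_iff_map_eq_zero κ).2 fun y hy => by
    obtain ⟨f, rfl⟩ := Ideal.Quotient.mk_surjective y
    rw [Ideal.Quotient.eq_zero_iff_mem, schubertVanishing_eq_ker hd τ]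
    exact hy
  set G := cellGen K τ
  have hG : ∀ i t, ¬ i ≤ τ.1 t → G i t = 0 := fun i t h => if_neg h
  have hκN : N.map κ = G * (G.submatrix τ.1 id).adjugate := Matrix.ext fun i t => by
    rw [mul_adjugate_apply']
    exact evalAt_coord G _
  have hβX : ∀ o, β (X o) = o.elim (algebraMap R L x) fun p => algebraMap R L (N p.1.1 p.1.2) * ((u⁻¹ : Lˣ) : L) :=
    fun o => MvPolynomial.aeval_X _ o
  have hκX : ∀ θ : Idx d n, κ (Ideal.Quotient.mk _ (X θ)) = (G.submatrix θ.1 id).det := fun θ => evalAt_X G θ
  have hNdet : ∀ θ : Idx d n, (N.submatrix θ.1 id).det = x ^ (d - 1) * Ideal.Quotient.mk _ (X θ) := by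
    intro θ
    refine hκ ?_
    rw [AlgHom.map_det, map_mul, map_pow, show κ x = _ from hκX τ, hκX,
      show κ.mapMatrix (N.submatrix θ.1 id) = (N.map κ).submatrix θ.1 id from rfl, hκN]
    have hs := Matrix.submatrix_mul G (G.submatrix τ.1 id).adjugate θ.1 id id Function.bijective_id
    rw [Matrix.submatrix_id_id] at hs
    rw [hs, Matrix.det_mul, Matrix.det_adjugate, Fintype.card_fin, mul_comm]
  have hNpivot : ∀ s t, N (τ.1 s) t = x * (1 : Matrix (Fin d) (Fin d) R) s t := by
    intro s t
    refine hκ ?_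
    rw [map_mul, show κ x = _ from hκX τ, show κ (N (τ.1 s) t) = (N.map κ) (τ.1 s) t from rfl, hκN]
    have := congrFun (congrFun (Matrix.mul_adjugate (G.submatrix τ.1 id)) s) t
    rw [Matrix.smul_apply, smul_eq_mul] at this
    refine Eq.trans ?_ (this.trans ?_)
    · rfl
    · rw [Matrix.one_apply, Matrix.one_apply, apply_ite κ, map_one, map_zero]
  have hNzero : ∀ i t, ¬ i ≤ τ.1 t → N i t = 0 := by
    intro i t hit
    refine hκ ?_
    rw [map_zero]
    exact (evalAt_coord G _).trans (det_update_eq_zero G τ hG hit)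
  have hβN : (redEchelon K τ).map β = (N.map (algebraMap R L)).map (fun y => y * ((u⁻¹ : Lˣ) : L)) := by
    refine Matrix.ext fun i t => ?_
    show β (redEchelon K τ i t) = algebraMap R L (N i t) * _
    unfold redEchelon
    rw [Matrix.of_apply]
    split_ifs with h1 h2
    · exact hβX _
    · subst h2
      rw [map_one, hNpivot, Matrix.one_apply_eq, mul_one, ← hu, Units.mul_inv]
    · rw [map_zero]
      by_cases hi : i ≤ τ.1 t
      · obtain ⟨s, -, rfl⟩ := Finset.mem_image.1 (not_not.1 fun hn => h1 ⟨hi, hn⟩)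
        rw [hNpivot, Matrix.one_apply_ne (fun e => h2 (by rw [e])), mul_zero, map_zero, zero_mul]
      · rw [hNzero i t hi, map_zero, zero_mul]
  have hβT : β (X none) = algebraMap R L x := hβX none
  let F₂ : Bl →ₐ[K] L := IsLocalization.liftAlgHom (M := Submonoid.powers (X none : P)) (f := β) (by
      rintro ⟨_, k, rfl⟩
      simp only [map_pow, hβT]
      exact (IsLocalization.Away.algebraMap_isUnit x).pow k)
  have h21 : F₂.comp F₁ = AlgHom.id K L := by
    refine IsLocalization.algHom_ext (Submonoid.powers x) (Ideal.Quotient.algHom_ext K (MvPolynomial.algHom_ext fun θ => ?_))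
    show F₂ (F₁ (algebraMap R L (Ideal.Quotient.mk _ (X θ)))) = algebraMap R L (Ideal.Quotient.mk _ (X θ))
    simp only [F₁, F₂, IsLocalization.coe_liftAlgHom, IsLocalization.lift_eq]
    show IsLocalization.lift _ (algebraMap P Bl (α (Ideal.Quotient.mk _ (X θ)))) = _
    rw [IsLocalization.lift_eq]
    show β (α _) = _
    rw [hαX, map_mul, hβT, AlgHom.map_det, show β.mapMatrix ((redEchelon K τ).submatrix θ.1 id) =
      ((redEchelon K τ).map β).submatrix θ.1 id from rfl, hβN]
    rw [show ((N.map (algebraMap R L)).map fun y => y * ((u⁻¹ : Lˣ) : L)).submatrix θ.1 id =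
      ((u⁻¹ : Lˣ) : L) • ((algebraMap R L).mapMatrix (N.submatrix θ.1 id)) from Matrix.ext fun i j => by
        simp [mul_comm], Matrix.det_smul, Fintype.card_fin, ← RingHom.map_det, hNdet, map_mul, map_pow, ← hu]
    obtain ⟨e, rfl⟩ : ∃ e, d = e + 1 := ⟨d - 1, by omega⟩
    rw [Nat.add_sub_cancel, pow_succ ((u⁻¹ : Lˣ) : L)]
    have : ((u⁻¹ : Lˣ) : L) ^ e * (u : L) ^ e = 1 := by rw [← mul_pow, Units.inv_mul, one_pow]
    calc (u : L) * (((u⁻¹ : Lˣ) : L) ^ e * ((u⁻¹ : Lˣ) : L) * ((u : L) ^ e * algebraMap R L (Ideal.Quotient.mk _ (X θ))))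
        = (((u⁻¹ : Lˣ) : L) ^ e * (u : L) ^ e) * ((u : L) * ((u⁻¹ : Lˣ) : L)) * algebraMap R L (Ideal.Quotient.mk _ (X θ)) := by ring
      _ = _ := by rw [this, Units.mul_inv, one_mul, one_mul]
  have h12 : F₁.comp F₂ = AlgHom.id K Bl := by
    refine IsLocalization.algHom_ext (Submonoid.powers (X none : P)) (MvPolynomial.algHom_ext fun o => ?_)
    show F₁ (F₂ (algebraMap P Bl (X o))) = algebraMap P Bl (X o)
    rw [show F₂ (algebraMap P Bl (X o)) = β (X o) from IsLocalization.lift_eq _ _]
    have hF₁ : ∀ y : R, F₁ (algebraMap R L y) = algebraMap P Bl (α y) := fun y => IsLocalization.lift_eq _ _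
    rcases o with _ | ⟨⟨i, t⟩, hit⟩
    · rw [hβT, hF₁, hαx]
    · show F₁ (β (X (some _))) = _
      rw [hβX]
      show F₁ (algebraMap R L (N i t) * ((u⁻¹ : Lˣ) : L)) = _
      rw [map_mul, hF₁]
      have hN : α (N i t) = X none * X (some ⟨(i, t), hit⟩) := by
        show α (Ideal.Quotient.mk _ (coord K d n _)) = _
        rw [hα, ← mul_adjugate_apply', hτ1, Matrix.adjugate_one, Matrix.mul_one]
        unfold redEchelon
        rw [Matrix.of_apply, dif_pos hit]
      have hinv : algebraMap P Bl (X none) * F₁ ((u⁻¹ : Lˣ) : L) = 1 := by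
        have h1 : F₁ (algebraMap R L x * ((u⁻¹ : Lˣ) : L)) = 1 := by rw [← hu, Units.mul_inv, map_one]
        rw [map_mul, hF₁, hαx] at h1
        exact h1
      rw [hN, map_mul, mul_comm (algebraMap P Bl (X none)), mul_assoc, hinv, mul_one]
  exact ⟨(AlgEquiv.ofAlgHom F₂ F₁ h21 h12).toRingEquiv⟩

theorem isIntegrallyClosed_schubert (hd : 0 < d) (hdn : d ≤ n) (τ : Idx d n) :
    IsDomain (PlRing K d n ⧸ schubertVanishing K d n τ) ∧
      IsIntegrallyClosed (PlRing K d n ⧸ schubertVanishing K d n τ) := by
  classical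
  have := isPrime_schubertVanishing (K := K) hd τ
  refine ⟨inferInstance, ?_⟩
  let R := PlRing K d n ⧸ schubertVanishing K d n τ
  let x : R := Ideal.Quotient.mk _ (X τ)
  have hx : x ≠ 0 := fun h => X_notMem hd (le_refl τ) (Ideal.Quotient.eq_zero_iff_mem.1 h)
  refine isIntegrallyClosed_of_away hx ?_ ?_
  · intro y hy
    obtain ⟨f, rfl⟩ := Ideal.Quotient.mk_surjective y
    obtain ⟨k, hk⟩ := hy
    have hmap : Ideal.span {x} = (schubertVanishing K d n τ ⊔ Ideal.span {X τ}).map (Ideal.Quotient.mk (schubertVanishing K d n τ)) := by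
      rw [Ideal.map_sup, Ideal.map_quotient_self, bot_sup_eq, Ideal.map_span, Set.image_singleton]
    rw [hmap, ← map_pow, Ideal.mem_quotient_iff_mem le_sup_left] at hk
    rw [hmap, Ideal.mem_quotient_iff_mem le_sup_left]
    exact isRadical_sup_span hd hdn τ ⟨k, hk⟩
  obtain ⟨e⟩ := nonempty_chartEquiv (K := K) hd τ
  have hT : (X none : ChartRing K τ) ≠ 0 := X_ne_zero _
  have : IsIntegrallyClosed (Localization.Away (X none : ChartRing K τ)) :=
    isIntegrallyClosed_of_isLocalization _ (Submonoid.powers (X none : ChartRing K τ)) (powers_le_nonZeroDivisors_of_noZeroDivisors hT)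
  exact IsIntegrallyClosed.of_equiv e

end SMTLib
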