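import Groth.Agent.SMTLib.SchubertNormal
import Groth.Agent.SMTLib.NagataUFD
import Mathlib.RingTheory.UniqueFactorizationDomain.Kaplansky
import Mathlib.RingTheory.Localization.Ideal

/-!
# Factorial Schubert varieties
-/

universe u

namespace SMTLib

open MvPolynomial W4bk4grassmannian

/-- A localisation of a factorial ring is factorial. -/
lemma ufd_localization {A : Type u} [CommRing A] [IsDomain A] [UniqueFactorizationMonoid A] (M : Submonoid A)
    (hM : M ≤ nonZeroDivisors A) (L : Type u) [CommRing L] [Algebra A L] [IsLocalization M L] [IsDomain L] :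
    UniqueFactorizationMonoid L := by
  refine UniqueFactorizationMonoid.iff_exists_prime_mem_of_isPrime.2 fun Q hQ hQp => ?_
  have hne : Q.under A ≠ ⊥ := fun h => hQ (by
    rw [← IsLocalization.map_comap M L Q, h, Ideal.map_bot])
  obtain ⟨q, hq, hqp⟩ := (hQp.comap (algebraMap A L)).exists_mem_prime_of_ne_bot hne
  refine ⟨algebraMap A L q, hq, (Ideal.span_singleton_prime ((map_ne_zero_iff _ (IsLocalization.injective L hM)).2 hqp.ne_zero)).1 ?_⟩
  have hdisj : Disjoint (M : Set A) (Ideal.span {q} : Set A) := by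
    rw [Set.disjoint_left]
    intro m hm hmq
    obtain ⟨z, rfl⟩ := Ideal.mem_span_singleton.1 hmq
    refine hQp.ne_top (Ideal.eq_top_of_isUnit_mem Q ?_ (IsLocalization.map_units L ⟨q * z, hm⟩))
    rw [map_mul]
    exact Q.mul_mem_right _ hq
  have := IsLocalization.isPrime_of_isPrime_disjoint M L (Ideal.span {q}) ((Ideal.span_singleton_prime hqp.ne_zero).2 hqp) hdisj
  rwa [Ideal.map_span, Set.image_singleton] at this

variable {K : Type u} [Field K] [Infinite K] {d n : ℕ}

lemma prod_mul_const_pow {S ι : Type*} [CommSemiring S] (s : Finset ι) (a : ι → S) (T : S) (f : ι → ℕ) :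
    ∏ x ∈ s, (a x * T) ^ f x = (∏ x ∈ s, a x ^ f x) * T ^ ∑ x ∈ s, f x := by
  rw [← Finset.prod_pow_eq_pow_sum, ← Finset.prod_mul_distrib]
  exact Finset.prod_congr rfl fun x _ => mul_pow _ _ _

/-- The scaling map, which records degrees. -/
lemma exists_degMap (hd : 0 < d) (τ : Idx d n) :
    ∃ ψ : (PlRing K d n ⧸ schubertVanishing K d n τ) →ₐ[K] Polynomial (PlRing K d n ⧸ schubertVanishing K d n τ),
      (∀ θ, ψ (Ideal.Quotient.mk _ (X θ)) = Polynomial.C (Ideal.Quotient.mk _ (X θ)) * Polynomial.X) ∧
      (∀ y, (ψ y).eval 1 = y) ∧ ∀ y, ∃ r : K, (ψ y).eval 0 = algebraMap K _ r := by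
  classical
  set J := schubertVanishing K d n τ
  let ψ₀ : PlRing K d n →ₐ[K] Polynomial (PlRing K d n ⧸ J) :=
    MvPolynomial.aeval fun θ => Polynomial.C (Ideal.Quotient.mk J (X θ)) * Polynomial.X
  have hhom : ∀ i f, (f : PlRing K d n).IsHomogeneous i →
      ψ₀ f = Polynomial.C (Ideal.Quotient.mk J f) * Polynomial.X ^ i := by
    intro i f hf
    conv_lhs => rw [f.as_sum]
    conv_rhs => rw [f.as_sum]
    rw [map_sum, map_sum, map_sum, Finset.sum_mul]
    refine Finset.sum_congr rfl fun e he => ?_
    have hdeg : e.degree = i := by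
      rw [Finsupp.degree_eq_weight_one]; exact hf (mem_support_iff.1 he)
    rw [show (Polynomial.X ^ i : Polynomial (PlRing K d n ⧸ J)) = Polynomial.X ^ e.degree by rw [hdeg], monomial_eq,
      map_mul, map_mul, Polynomial.C_mul, Finsupp.degree_apply]
    simp only [Finsupp.prod, map_prod, map_pow, ψ₀, MvPolynomial.aeval_X, MvPolynomial.aeval_C, mul_pow,
      Finset.prod_mul_distrib, Finset.prod_pow_eq_pow_sum]
    rw [IsScalarTower.algebraMap_apply K (PlRing K d n ⧸ J) (Polynomial (PlRing K d n ⧸ J)), Polynomial.algebraMap_eq,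
      show Ideal.Quotient.mk J (C (coeff e f)) = algebraMap K _ (coeff e f) from rfl]
    refine Eq.trans (congrArg (Polynomial.C _ * ·) (prod_mul_const_pow e.support
      (fun x => Polynomial.C (Ideal.Quotient.mk J (X x))) Polynomial.X e)) ?_
    ring
  let ψ : (PlRing K d n ⧸ J) →ₐ[K] Polynomial (PlRing K d n ⧸ J) := Ideal.Quotient.liftₐ J ψ₀ fun f hf => by
    rw [← sum_homogeneousComponent f, map_sum]
    refine Finset.sum_eq_zero fun i _ => ?_
    rw [hhom i _ (homogeneousComponent_isHomogeneous i f),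
      Ideal.Quotient.eq_zero_iff_mem.2 (homogeneousComponent_mem_schubert hd τ f hf i), map_zero, zero_mul]
  refine ⟨ψ, fun θ => MvPolynomial.aeval_X _ θ, fun y => ?_, fun y => ?_⟩
  · have : ((Polynomial.aeval (1 : PlRing K d n ⧸ J)).restrictScalars K).comp ψ = AlgHom.id K _ := by
      refine Ideal.Quotient.algHom_ext K (MvPolynomial.algHom_ext fun θ => ?_)
      show Polynomial.aeval (1 : PlRing K d n ⧸ J) (ψ₀ (X θ)) = Ideal.Quotient.mk J (X θ)
      simp [ψ₀]
    have h := AlgHom.congr_fun this y
    rw [AlgHom.comp_apply, AlgHom.coe_restrictScalars', Polynomial.coe_aeval_eq_eval] at h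
    exact h
  · obtain ⟨f, rfl⟩ := Ideal.Quotient.mk_surjective y
    refine ⟨constantCoeff f, ?_⟩
    show (ψ₀ f).eval 0 = _
    induction f using MvPolynomial.induction_on with
    | C a =>
      rw [MvPolynomial.aeval_C, IsScalarTower.algebraMap_apply K (PlRing K d n ⧸ J) (Polynomial (PlRing K d n ⧸ J)),
        Polynomial.algebraMap_eq, Polynomial.eval_C, constantCoeff_C]
    | add p q hp hq => simp only [map_add, Polynomial.eval_add, hp, hq]
    | mul_X p θ _ => simp [ψ₀]

theorem irreducible_X (hd : 0 < d) (τ θ : Idx d n) (h : θ ≤ τ) :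
    Irreducible (Ideal.Quotient.mk (schubertVanishing K d n τ) (X θ)) := by
  have := isPrime_schubertVanishing (K := K) hd τ
  obtain ⟨ψ, hψX, hψ1, hψ0⟩ := exists_degMap (K := K) hd τ
  set x := Ideal.Quotient.mk (schubertVanishing K d n τ) (X θ)
  have hx : x ≠ 0 := fun h' => X_notMem hd h (Ideal.Quotient.eq_zero_iff_mem.1 h')
  refine ⟨fun hu => ?_, fun b c hbc => ?_⟩
  · obtain ⟨y, hy⟩ := hu.exists_right_inv
    have := congrArg (fun z => (ψ z).eval 0) hy
    simp only [map_mul, map_one, hψX, x, Polynomial.eval_mul, Polynomial.eval_X, mul_zero, zero_mul, Polynomial.eval_one] at this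
    exact zero_ne_one this
  · have hb : ψ b ≠ 0 := fun h' => hx (by rw [hbc, show b = 0 by rw [← hψ1 b, h', Polynomial.eval_zero], zero_mul])
    have hc : ψ c ≠ 0 := fun h' => hx (by rw [hbc, show c = 0 by rw [← hψ1 c, h', Polynomial.eval_zero], mul_zero])
    have hdeg := congrArg (fun z => (ψ z).natDegree) hbc
    simp only [map_mul, hψX, x] at hdeg
    rw [Polynomial.natDegree_C_mul_X _ hx, Polynomial.natDegree_mul hb hc] at hdeg
    have hunit : ∀ z, z ≠ 0 → (ψ z).natDegree = 0 → IsUnit z := by
      intro z hz h0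
      obtain ⟨r, hr⟩ := hψ0 z
      have h1 := hψ1 z
      rw [Polynomial.eq_C_of_natDegree_eq_zero h0, Polynomial.eval_C] at h1 hr
      rw [← h1, hr] at hz ⊢
      exact (isUnit_iff_ne_zero.2 fun h' => hz (by rw [h', map_zero])).map _
    rcases Nat.eq_zero_or_pos (ψ b).natDegree with h0 | h0
    · exact Or.inl (hunit b (fun h' => hb (by rw [h', map_zero])) h0)
    · exact Or.inr (hunit c (fun h' => hc (by rw [h', map_zero])) (by omega))

theorem ufd_iff_prime (hd : 0 < d) (τ : Idx d n) :
    UniqueFactorizationMonoid (PlRing K d n ⧸ schubertVanishing K d n τ) ↔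
      Prime (Ideal.Quotient.mk (schubertVanishing K d n τ) (X τ)) := by
  have := isPrime_schubertVanishing (K := K) hd τ
  refine ⟨fun _ => (irreducible_X hd τ τ le_rfl).prime, fun hp => ?_⟩
  set x := Ideal.Quotient.mk (schubertVanishing K d n τ) (X τ)
  obtain ⟨e⟩ := nonempty_chartEquiv (K := K) hd τ
  have hT : (X none : ChartRing K τ) ≠ 0 := X_ne_zero _
  have : IsDomain (Localization.Away (X none : ChartRing K τ)) :=
    IsLocalization.isDomain_of_le_nonZeroDivisors _ (powers_le_nonZeroDivisors_of_noZeroDivisors hT)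
  have : IsDomain (Localization.Away x) :=
    IsLocalization.isDomain_of_le_nonZeroDivisors _ (powers_le_nonZeroDivisors_of_noZeroDivisors hp.ne_zero)
  have hA : UniqueFactorizationMonoid (Localization.Away (X none : ChartRing K τ)) :=
    ufd_localization (Submonoid.powers (X none : ChartRing K τ)) (powers_le_nonZeroDivisors_of_noZeroDivisors hT) _
  have : UniqueFactorizationMonoid (Localization.Away x) :=
    (MulEquiv.uniqueFactorizationMonoid e.toMulEquiv) hA
  have : IsLocalization (Submonoid.closure {x}) (Localization.Away x) := by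
    rw [← Submonoid.powers_eq_closure]; infer_instance
  exact ufd_of_ufd_localization (P := {x}) (fun a ha => WfDvdMonoid.exists_factors a ha)
    (fun p hp' => by rw [Set.mem_singleton_iff] at hp'; exact hp' ▸ hp) (Localization.Away x)

theorem prime_iff_divisors (hd : 0 < d) (hdn : d ≤ n) (τ : Idx d n) :
    Prime (Ideal.Quotient.mk (schubertVanishing K d n τ) (X τ)) ↔ (divisors τ).Subsingleton := by
  have := isPrime_schubertVanishing (K := K) hd τ
  have hx : Ideal.Quotient.mk (schubertVanishing K d n τ) (X τ) ≠ 0 :=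
    fun h => X_notMem hd (le_refl τ) (Ideal.Quotient.eq_zero_iff_mem.1 h)
  have hspan : (schubertVanishing K d n τ ⊔ Ideal.span {X τ}).map (Ideal.Quotient.mk (schubertVanishing K d n τ)) =
      Ideal.span {Ideal.Quotient.mk (schubertVanishing K d n τ) (X τ)} := by
    rw [Ideal.map_sup, Ideal.map_quotient_self, bot_sup_eq, Ideal.map_span, Set.image_singleton]
  constructor
  · intro hp φ hφ φ' hφ'
    by_contra hne
    have hlt : ∃ ψ : Idx d n, ψ < τ := ⟨φ, hφ.1⟩
    have hmem : X φ * X φ' ∈ schubertVanishing K d n τ ⊔ Ideal.span {X τ} := by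
      rw [sup_span_eq_iInf_divisors hd τ hlt]
      simp only [Submodule.mem_iInf]
      intro ψ hψ
      have key : ∀ θ, θ ∈ divisors τ → θ ≠ ψ → (X θ : PlRing K d n) ∈ schubertVanishing K d n ψ := fun θ hθ hθψ =>
        plIdeal_le_schubertVanishing ψ (Ideal.subset_span (Or.inr ⟨θ, fun hle => hθψ (by
          by_contra hn
          have := codeg_lt_of_lt (lt_of_le_of_ne hle hn)
          have := hθ.2; have := hψ.2
          omega), rfl⟩))
      by_cases h : φ = ψ
      · exact Ideal.mul_mem_left _ _ (key φ' hφ' (h ▸ Ne.symm hne))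
      · exact Ideal.mul_mem_right _ _ (key φ hφ h)
    have hI := (Ideal.span_singleton_prime hx).2 hp
    have h2 := Ideal.mem_map_of_mem (Ideal.Quotient.mk (schubertVanishing K d n τ)) hmem
    rw [hspan, map_mul] at h2
    have key : ∀ θ, θ ∈ divisors τ → Ideal.Quotient.mk (schubertVanishing K d n τ) (X θ) ∉
        Ideal.span {Ideal.Quotient.mk (schubertVanishing K d n τ) (X τ)} := by
      intro θ hθ h
      rw [← hspan, Ideal.mem_quotient_iff_mem le_sup_left, sup_span_eq_iInf_divisors hd τ hlt] at h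
      simp only [Submodule.mem_iInf] at h
      exact X_notMem hd le_rfl (h θ hθ)
    rcases hI.mem_or_mem h2 with h | h
    exacts [key φ hφ h, key φ' hφ' h]
  · intro hsub
    refine (Ideal.span_singleton_prime hx).1 ?_
    rw [← hspan]
    have hprime : (schubertVanishing K d n τ ⊔ Ideal.span {X τ}).IsPrime := by
      by_cases h : ∃ φ : Idx d n, φ < τ
      · obtain ⟨φ₀, hφ₀⟩ := h
        obtain ⟨φ, hφ, -⟩ := exists_divisor_ge hφ₀
        rw [sup_span_eq_iInf_divisors hd τ ⟨φ₀, hφ₀⟩]
        have : (⨅ ψ ∈ divisors τ, schubertVanishing K d n ψ) = schubertVanishing K d n φ :=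
          le_antisymm (iInf₂_le φ hφ) (le_iInf₂ fun ψ hψ => (hsub hψ hφ) ▸ le_rfl)
        rw [this]
        exact isPrime_schubertVanishing hd φ
      · -- the point
        have hτ : ∀ φ : Idx d n, φ ≠ τ → ¬ φ ≤ τ := fun φ hne hle => h ⟨φ, lt_of_le_of_ne hle hne⟩
        have hrad := isRadical_sup_span (K := K) hd hdn τ
        set I := schubertVanishing K d n τ ⊔ Ideal.span {X τ}
        have hle : RingHom.ker (constantCoeff : PlRing K d n →+* K) ≤ I := by
          intro f hf
          rw [RingHom.mem_ker, constantCoeff_eq] at hf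
          rw [f.as_sum]
          refine Submodule.sum_mem _ fun e he => ?_
          obtain ⟨φ, hφ⟩ := Finsupp.support_nonempty_iff.2 (fun h0 : e = 0 => (mem_support_iff.1 he) (h0 ▸ hf))
          refine Ideal.mem_of_dvd _ (MvPolynomial.X_dvd_monomial.2 (Or.inr (Finsupp.mem_support_iff.1 hφ))) ?_
          by_cases hφτ : φ = τ
          · exact hφτ ▸ Ideal.mem_sup_right (Ideal.subset_span rfl)
          · exact Ideal.mem_sup_left (plIdeal_le_schubertVanishing τ (Ideal.subset_span (Or.inr ⟨φ, hτ φ hφτ, rfl⟩)))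
        have hne : I ≠ ⊤ := by
          intro htop
          have h1 : (1 : PlRing K d n) ∈ I := htop ▸ trivial
          obtain ⟨j, hj, z, hz, hjz⟩ := Submodule.mem_sup.1 h1
          obtain ⟨w, rfl⟩ := Ideal.mem_span_singleton.1 hz
          have hc := homogeneousComponent_mem_schubert hd τ j hj 0
          have hj0 : constantCoeff j = 1 := by
            have := congrArg constantCoeff hjz
            simpa using this
          rw [homogeneousComponent_zero, ← constantCoeff_eq, hj0, map_one] at hc
          exact (isPrime_schubertVanishing hd τ).ne_top ((Ideal.eq_top_iff_one _).2 hc)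
        have hmax : (RingHom.ker (constantCoeff : PlRing K d n →+* K)).IsMaximal :=
          RingHom.ker_isMaximal_of_surjective _ fun r => ⟨C r, constantCoeff_C _ r⟩
        rw [← hmax.eq_of_le hne hle]
        exact hmax.isPrime
    exact Ideal.map_isPrime_of_surjective Ideal.Quotient.mk_surjective (by rw [Ideal.mk_ker]; exact le_sup_left)

omit [Infinite K] in
lemma divisors_subsingleton_iff (τ : Idx d n) :
    (divisors τ).Subsingleton ↔
      ∃ s : ℕ, (∀ t : Fin d, t.val < s → (τ.1 t).val = t.val) ∧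
        ∀ t t' : Fin d, s ≤ t.val → t.val + 1 = t'.val → (τ.1 t).val + 1 = (τ.1 t').val := by
  classical
  let Corner : Fin d → Prop := fun t => t.val < (τ.1 t).val ∧ ∀ t' : Fin d, t'.val + 1 = t.val → (τ.1 t').val + 1 < (τ.1 t).val
  have hge := fin_val_le τ.1 τ.2
  have hnotC : ∀ t, ¬ Corner t → (τ.1 t).val = t.val ∨ ∃ t' : Fin d, t'.val + 1 = t.val ∧ (τ.1 t').val + 1 = (τ.1 t).val := by
    intro t h
    simp only [Corner, not_and, not_forall, not_lt, exists_prop] at h
    by_cases h1 : t.val < (τ.1 t).val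
    · obtain ⟨t', ht', hle⟩ := h h1
      have := Fin.lt_def.1 (τ.2 (show t' < t from Fin.lt_def.2 (by omega)))
      exact Or.inr ⟨t', ht', by omega⟩
    · exact Or.inl (by have := hge t; omega)
  -- divisors are corners
  have hdiv : ∀ φ ∈ divisors τ, ∃ t, Corner t ∧ (φ.1 t).val + 1 = (τ.1 t).val ∧ ∀ s, s ≠ t → φ.1 s = τ.1 s := by
    rintro φ ⟨hlt, hcd⟩
    have hle : ∀ t, (φ.1 t).val ≤ (τ.1 t).val := fun t => Fin.le_def.1 (hlt.le t)
    have hφge := fin_val_le φ.1 φ.2
    have hsum : ∑ t, ((τ.1 t).val - (φ.1 t).val) = 1 := by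
      have : ∑ t, ((τ.1 t).val - (φ.1 t).val) + codeg φ = codeg τ := by
        rw [codeg, codeg, ← Finset.sum_add_distrib]
        exact Finset.sum_congr rfl fun t _ => by have := hle t; have := hφge t; omega
      omega
    obtain ⟨t, ht⟩ : ∃ t, 0 < (τ.1 t).val - (φ.1 t).val := by
      by_contra! h
      rw [Finset.sum_eq_zero fun t _ => Nat.le_zero.1 (h t)] at hsum
      omega
    have hsplit := Finset.add_sum_erase Finset.univ (fun t => (τ.1 t).val - (φ.1 t).val) (Finset.mem_univ t)
    rw [hsum] at hsplit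
    have h1 : (τ.1 t).val - (φ.1 t).val = 1 := by omega
    have hz : ∑ s ∈ Finset.univ.erase t, ((τ.1 s).val - (φ.1 s).val) = 0 := by omega
    have heq : ∀ s, s ≠ t → φ.1 s = τ.1 s := fun s hs => Fin.ext (by
      have := Finset.sum_eq_zero_iff.1 hz s (Finset.mem_erase.2 ⟨hs, Finset.mem_univ s⟩)
      have := hle s; omega)
    refine ⟨t, ⟨by have := hφge t; omega, fun t' ht' => ?_⟩, by omega, heq⟩
    have hne : t' ≠ t := fun h => by rw [h] at ht'; omega
    have := Fin.lt_def.1 (φ.2 (show t' < t from Fin.lt_def.2 (by omega)))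
    rw [heq t' hne] at this
    omega
  have hmk : ∀ t, Corner t → ∃ φ ∈ divisors τ, (φ.1 t).val + 1 = (τ.1 t).val := by
    rintro t ⟨h1, h2⟩
    let v : Fin n := ⟨(τ.1 t).val - 1, lt_of_le_of_lt (Nat.sub_le _ _) (τ.1 t).isLt⟩
    let f := Function.update τ.1 t v
    have hf : StrictMono f := by
      intro a b hab
      simp only [f, Function.update_apply]
      split_ifs with ha hb hb
      · exact absurd hab (by rw [ha, hb]; exact lt_irrefl t)
      · subst ha
        exact lt_of_le_of_lt (Fin.le_def.2 (Nat.sub_le _ _) : v ≤ τ.1 a) (τ.2 hab)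
      · subst hb
        rw [Fin.lt_def]
        show (τ.1 a).val < (τ.1 b).val - 1
        have hp := h2 ⟨b.val - 1, by omega⟩ (by simp only; have := Fin.lt_def.1 hab; omega)
        have hm : τ.1 a ≤ τ.1 ⟨b.val - 1, by omega⟩ := τ.2.monotone (Fin.le_def.2 (by simp only; have := Fin.lt_def.1 hab; omega))
        have := Fin.le_def.1 hm
        omega
      · exact τ.2 hab
    refine ⟨⟨f, hf⟩, ⟨lt_of_le_of_ne (fun s => ?_) (fun e => ?_), ?_⟩, ?_⟩
    · simp only [f, Function.update_apply]
      split_ifs with hs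
      · subst hs; exact Fin.le_def.2 (Nat.sub_le _ _)
      · exact le_rfl
    · have := congrArg (fun θ : Idx d n => (θ.1 t).val) e
      simp only [f, Function.update_self, v] at this
      omega
    · unfold codeg
      rw [← Finset.add_sum_erase _ _ (Finset.mem_univ t), ← Finset.add_sum_erase _ _ (Finset.mem_univ t)]
      have : ∑ s ∈ Finset.univ.erase t, ((f s).val - s.val) = ∑ s ∈ Finset.univ.erase t, ((τ.1 s).val - s.val) :=
        Finset.sum_congr rfl fun s hs => by simp [f, Finset.ne_of_mem_erase hs]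
      rw [this]
      simp only [f, Function.update_self, v]
      omega
    · simp only [f, Function.update_self, v]
      omega
  constructor
  · intro hsub
    have huniq : ∀ t t', Corner t → Corner t' → t = t' := by
      intro t t' ht ht'
      obtain ⟨φ, hφ, hφt⟩ := hmk t ht
      obtain ⟨φ', hφ', hφt'⟩ := hmk t' ht'
      obtain rfl : φ = φ' := hsub hφ hφ'
      obtain ⟨t₀, -, -, heq⟩ := hdiv φ hφ
      have e1 : t = t₀ := by_contra fun h => by rw [heq t h] at hφt; omega
      have e2 : t' = t₀ := by_contra fun h => by rw [heq t' h] at hφt'; omega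
      rw [e1, e2]
    obtain ⟨s, hs⟩ : ∃ s : ℕ, ∀ t, Corner t → t.val = s := by
      by_cases h : ∃ t, Corner t
      · obtain ⟨t, ht⟩ := h
        exact ⟨t.val, fun t' ht' => by rw [huniq t' t ht' ht]⟩
      · exact ⟨0, fun t ht => absurd ⟨t, ht⟩ h⟩
    have hlow : ∀ (k : ℕ) (hk : k < d), k < s → (τ.1 ⟨k, hk⟩).val = k := by
      intro k
      induction k with
      | zero =>
        intro hk hks
        rcases hnotC ⟨0, hk⟩ (fun h => by have := hs _ h; simp at this; omega) with h | ⟨t', ht', -⟩
        · exact h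
        · simp at ht'
      | succ k ih =>
        intro hk hks
        rcases hnotC ⟨k + 1, hk⟩ (fun h => by have := hs _ h; simp at this; omega) with h | ⟨t', ht', h⟩
        · exact h
        · have : t' = ⟨k, by omega⟩ := Fin.ext (by simp at ht' ⊢; omega)
          rw [this, ih (by omega) (by omega)] at h
          exact h.symm
    refine ⟨s, fun t ht => hlow t.val t.isLt ht, fun t t' hst ht' => ?_⟩
    rcases hnotC t' (fun h => by have := hs _ h; omega) with h | ⟨t'', ht'', h⟩
    · have := Fin.lt_def.1 (τ.2 (show t < t' from Fin.lt_def.2 (by omega)))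
      have := hge t
      omega
    · rwa [show t'' = t from Fin.ext (by omega)] at h
  · rintro ⟨s, hlow, hrun⟩ φ hφ φ' hφ'
    have hcs : ∀ t, Corner t → t.val = s := by
      rintro t ⟨h1, h2⟩
      have : s ≤ t.val := by
        by_contra h
        have := hlow t (by omega)
        omega
      by_contra hne
      have := h2 ⟨t.val - 1, by omega⟩ (by simp only; omega)
      have := hrun ⟨t.val - 1, by omega⟩ t (by simp only; omega) (by simp only; omega)
      omega
    obtain ⟨t, ht, hv, heq⟩ := hdiv φ hφ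
    obtain ⟨t', ht', hv', heq'⟩ := hdiv φ' hφ'
    obtain rfl : t = t' := Fin.ext (by rw [hcs t ht, hcs t' ht'])
    refine Subtype.ext (funext fun u => ?_)
    by_cases hu : u = t
    · subst hu; exact Fin.ext (by omega)
    · rw [heq u hu, heq' u hu]

end SMTLib
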