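import Mathlib.Algebra.Order.Antidiag.FinsuppEquiv
import Mathlib.RingTheory.MvPolynomial.Ideal
import Mathlib.RingTheory.MvPolynomial.Homogeneous
import Mathlib.LinearAlgebra.Dimension.Constructions
import Mathlib.Order.Preorder.Chain

/-!
# The Hilbert function of a Stanley-Reisner ring of an order complex
-/

universe u v

namespace SMTLib

open MvPolynomial

variable (K : Type u) [Field K] (L : Type v) [PartialOrder L]

/-- The ideal of incomparable pairs. -/
noncomputable def orderIdeal : Ideal (MvPolynomial L K) :=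
  Ideal.span {f : MvPolynomial L K | ∃ a b : L, ¬ a ≤ b ∧ ¬ b ≤ a ∧ f = X a * X b}

variable {K L}

lemma mem_orderIdeal_iff (p : MvPolynomial L K) :
    p ∈ orderIdeal K L ↔ ∀ e ∈ p.support, ¬ IsChain (fun a b : L => a ≤ b) (e.support : Set L) := by
  classical
  have h : {f : MvPolynomial L K | ∃ a b : L, ¬ a ≤ b ∧ ¬ b ≤ a ∧ f = X a * X b} =
      (fun s => monomial s (1 : K)) '' {e | ∃ a b : L, ¬ a ≤ b ∧ ¬ b ≤ a ∧ e = Finsupp.single a 1 + Finsupp.single b 1} := by
    ext f
    constructor
    · rintro ⟨a, b, h1, h2, rfl⟩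
      exact ⟨_, ⟨a, b, h1, h2, rfl⟩, by simp [X, monomial_mul]⟩
    · rintro ⟨_, ⟨a, b, h1, h2, rfl⟩, rfl⟩
      exact ⟨a, b, h1, h2, by simp [X, monomial_mul]⟩
  rw [orderIdeal, h, mem_ideal_span_monomial_image]
  refine forall₂_congr fun e _ => ⟨?_, ?_⟩
  · rintro ⟨_, ⟨a, b, h1, h2, rfl⟩, hle⟩ hch
    have hab : a ≠ b := fun h => h1 h.le
    have ha : a ∈ e.support := by
      have := hle a; simp [hab.symm] at this; exact Finsupp.mem_support_iff.2 (by omega)
    have hb : b ∈ e.support := by
      have := hle b; simp [hab] at this; exact Finsupp.mem_support_iff.2 (by omega)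
    exact (hch ha hb hab).elim h1 h2
  · intro hch
    simp only [IsChain, Set.Pairwise, not_forall, not_or] at hch
    obtain ⟨a, ha, b, hb, hab, h1, h2⟩ := hch
    refine ⟨_, ⟨a, b, h1, h2, rfl⟩, fun x => ?_⟩
    rw [Finset.mem_coe, Finsupp.mem_support_iff] at ha hb
    rw [Finsupp.add_apply, Finsupp.single_apply, Finsupp.single_apply]
    split_ifs with h1 h2
    · exact absurd (h1.trans h2.symm) hab
    · subst h1; omega
    · subst_vars; omega
    · omega

variable (K L)

theorem hilbert_orderIdeal [Fintype L] (m : ℕ) (hm : 1 ≤ m) :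
    Module.finrank K ((MvPolynomial.homogeneousSubmodule L K m).map
        (Ideal.Quotient.mkₐ K (orderIdeal K L)).toLinearMap) =
      ∑ᶠ C : {C : Finset L // C.Nonempty ∧ IsChain (fun a b : L => a ≤ b) (↑C : Set L)},
        Nat.choose (m - 1) (C.1.card - 1) := by
  classical
  let G := ((Finset.univ : Finset L).finsuppAntidiag m).filter
    fun e => IsChain (fun a b : L => a ≤ b) (e.support : Set L)
  let v : G → MvPolynomial L K ⧸ orderIdeal K L := fun e => Ideal.Quotient.mkₐ K _ (monomial e.1 1)
  have hdeg : ∀ e ∈ G, e.degree = m := fun e he => by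
    rw [← (Finset.mem_finsuppAntidiag.1 (Finset.mem_filter.1 he).1).1, Finsupp.degree_eq_sum]
  have hG : ∀ e : L →₀ ℕ, e.degree = m → IsChain (fun a b : L => a ≤ b) (e.support : Set L) → e ∈ G := fun e h1 h2 =>
    Finset.mem_filter.2 ⟨Finset.mem_finsuppAntidiag.2 ⟨by rw [← h1, Finsupp.degree_eq_sum], Finset.subset_univ _⟩, h2⟩
  have hv : LinearIndependent K v := by
    rw [Fintype.linearIndependent_iff]
    intro g hg e
    have hmem : ∑ i : G, g i • monomial i.1 (1 : K) ∈ orderIdeal K L := by
      rw [← Ideal.Quotient.eq_zero_iff_mem, ← Ideal.Quotient.mkₐ_eq_mk K, map_sum]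
      simpa [v] using hg
    have hc : (∑ i : G, g i • monomial i.1 (1 : K)).coeff e.1 = g e := by
      simp only [coeff_sum, coeff_smul, coeff_monomial, smul_eq_mul, mul_ite, mul_one, mul_zero]
      rw [Finset.sum_eq_single e]
      · simp
      · intro i _ hi; rw [if_neg (fun h => hi (Subtype.ext h))]
      · simp
    by_contra hne
    exact (mem_orderIdeal_iff _).1 hmem e.1 (mem_support_iff.2 (hc ▸ hne)) (Finset.mem_filter.1 e.2).2
  have hspan : (MvPolynomial.homogeneousSubmodule L K m).map (Ideal.Quotient.mkₐ K (orderIdeal K L)).toLinearMap =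
      Submodule.span K (Set.range v) := by
    refine le_antisymm ?_ (Submodule.span_le.2 ?_)
    · rintro _ ⟨p, hp, rfl⟩
      rw [SetLike.mem_coe, mem_homogeneousSubmodule] at hp
      rw [p.as_sum, map_sum]
      refine Submodule.sum_mem _ fun e he => ?_
      by_cases hch : IsChain (fun a b : L => a ≤ b) (e.support : Set L)
      · have : monomial e (coeff e p) = coeff e p • monomial e (1 : K) := by simp [smul_monomial]
        rw [this, map_smul]
        exact Submodule.smul_mem _ _ (Submodule.subset_span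
          ⟨⟨e, hG e (by rw [Finsupp.degree_eq_weight_one]; exact hp (mem_support_iff.1 he)) hch⟩, rfl⟩)
      · have : monomial e (coeff e p) ∈ orderIdeal K L := (mem_orderIdeal_iff _).2 fun x hx => by
          rw [Finset.mem_singleton.1 (support_monomial_subset hx)]; exact hch
        rw [AlgHom.toLinearMap_apply, Ideal.Quotient.mkₐ_eq_mk, Ideal.Quotient.eq_zero_iff_mem.2 this]
        exact Submodule.zero_mem _
    · rintro _ ⟨e, rfl⟩
      exact Submodule.mem_map_of_mem (isHomogeneous_monomial _ (hdeg e.1 e.2))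
  rw [hspan, finrank_span_eq_card hv, Fintype.card_coe, finsum_eq_sum_of_fintype]
  let T := (Finset.univ : Finset (Finset L)).filter
    fun C : Finset L => C.Nonempty ∧ IsChain (fun a b : L => a ≤ b) (↑C : Set L)
  rw [← Finset.sum_subtype (f := fun C : Finset L => Nat.choose (m - 1) (C.card - 1)) T (fun C => by simp [T]),
    Finset.card_eq_sum_card_fiberwise (f := fun e : L →₀ ℕ => e.support) (t := T) ?_]
  swap
  · intro e he
    refine Finset.mem_filter.2 ⟨Finset.mem_univ _, Finsupp.support_nonempty_iff.2 fun h0 => ?_, (Finset.mem_filter.1 he).2⟩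
    have := hdeg e he
    rw [h0, map_zero] at this
    omega
  refine Finset.sum_congr rfl fun C hC => ?_
  obtain ⟨hCne, hCch⟩ := (Finset.mem_filter.1 hC).2
  by_cases hcm : m < C.card
  · rw [Nat.choose_eq_zero_of_lt (by omega), Finset.card_eq_zero, Finset.filter_eq_empty_iff]
    intro e he hsupp
    have h1 : C.card • 1 ≤ ∑ x ∈ C, e x := Finset.card_nsmul_le_sum _ _ _ fun x hx => by
      rw [← hsupp, Finsupp.mem_support_iff] at hx
      omega
    have h2 : ∑ x ∈ C, e x = m := by rw [← hsupp]; exact hdeg e he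
    simp at h1
    omega
  let one : L →₀ ℕ := Finsupp.indicator C fun _ _ => 1
  have hone : ∀ x, one x = if x ∈ C then 1 else 0 := fun x => by simp [one]
  rw [Finset.card_nbij' (t := C.finsuppAntidiag (m - C.card)) (fun e => e - one) (fun e => e + one) ?_ ?_ ?_ ?_,
    Finset.card_finsuppAntidiag_nat_eq_choose]
  · have := hCne.card_pos
    rw [← Nat.choose_symm (show C.card - 1 ≤ m - 1 by omega)]
    congr 1 <;> omega
  · intro e he
    obtain ⟨heG, hsupp⟩ := Finset.mem_filter.1 he
    refine Finset.mem_coe.2 (Finset.mem_finsuppAntidiag.2 ⟨?_, fun x hx => ?_⟩)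
    · have h2 : ∑ x ∈ C, e x = m := by rw [← hsupp]; exact hdeg e heG
      have h3 : ∑ x ∈ C, (e - one) x + ∑ _x ∈ C, 1 = ∑ x ∈ C, e x := by
        rw [← Finset.sum_add_distrib]
        refine Finset.sum_congr rfl fun x hx => ?_
        rw [Finsupp.tsub_apply, hone, if_pos hx]
        rw [← hsupp, Finsupp.mem_support_iff] at hx
        omega
      simp at h3 ⊢
      omega
    · by_contra hxC
      rw [Finsupp.mem_support_iff, Finsupp.tsub_apply] at hx
      rw [← hsupp, Finsupp.notMem_support_iff] at hxC
      omega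
  · intro e he
    obtain ⟨hsum, hsub⟩ := Finset.mem_finsuppAntidiag.1 he
    have hsupp : (e + one).support = C := by
      ext x
      rw [Finsupp.mem_support_iff, Finsupp.add_apply, hone]
      by_cases hx : x ∈ C
      · simp [hx]
      · simp [hx, Finsupp.notMem_support_iff.1 (fun h => hx (hsub h))]
    refine Finset.mem_coe.2 (Finset.mem_filter.2 ⟨hG _ ?_ (hsupp ▸ hCch), hsupp⟩)
    show ∑ x ∈ (e + one).support, (e + one) x = m
    rw [hsupp]
    simp only [Finsupp.add_apply, Finset.sum_add_distrib, hone]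
    rw [hsum, Finset.sum_ite_mem, Finset.inter_self]
    simp
    omega
  · intro e he
    obtain ⟨-, hsupp⟩ := Finset.mem_filter.1 he
    ext x
    rw [Finsupp.add_apply, Finsupp.tsub_apply, hone]
    split_ifs with hx
    · rw [← hsupp, Finsupp.mem_support_iff] at hx; omega
    · omega
  · intro e _
    exact add_tsub_cancel_right e one

end SMTLib
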