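import Groth.Agent.SMTLib.Divisors
import Groth.Agent.SMTLib.Plucker

/-!
# The first fundamental theorem for the special linear group
-/

universe u

namespace SMTLib

open MvPolynomial W4bk4grassmannian

variable {K : Type u} [Field K] {d n : ℕ}

/-- The largest index. -/
def topIdx (h : d ≤ n) : Idx d n :=
  ⟨fun t => ⟨n - d + t.val, by have := t.isLt; omega⟩, fun _ _ hab => Fin.lt_def.2 (Nat.add_lt_add_left (Fin.lt_def.1 hab) _)⟩

lemma le_topIdx (h : d ≤ n) (θ : Idx d n) : θ ≤ topIdx h := by
  intro t
  show (θ.1 t).val ≤ n - d + t.val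
  have key : ∀ (j : ℕ) (hj : t.val + j < d), (θ.1 t).val + j ≤ (θ.1 ⟨t.val + j, hj⟩).val := by
    intro j
    induction j with
    | zero => intro _; simp
    | succ j ih =>
      intro hj
      have := ih (by omega)
      have := Fin.lt_def.1 (θ.2 (show (⟨t.val + j, by omega⟩ : Fin d) < ⟨t.val + (j + 1), hj⟩ from
        Fin.lt_def.2 (by simp only; omega)))
      omega
  have := key (d - 1 - t.val) (by have := t.isLt; omega)
  have := (θ.1 ⟨t.val + (d - 1 - t.val), by have := t.isLt; omega⟩).isLt
  have := t.isLt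
  omega

lemma pluckerMap_apply_eval (A : Matrix (Fin n) (Fin d) K) (g : PlRing K d n) :
    eval (fun p : Fin n × Fin d => A p.1 p.2) (pluckerMap K d n g) = evalAt A g := by
  rw [← MvPolynomial.aeval_eq_eval, pluckerMap_eq]
  refine (map_evalAt (MvPolynomial.aeval fun p : Fin n × Fin d => A p.1 p.2) _ g).trans ?_
  congr 2
  ext i j
  simp

/-- Dividing by the top coordinate. -/
lemma exists_of_top_dvd [Infinite K] (hd : 0 < d) (hdn : d < n) (g : PlRing K d n) (f : MatRing K d n)
    (h : pluckerMap K d n g = pluckerMap K d n (X (topIdx hdn.le)) * f) :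
    ∃ g', f = pluckerMap K d n g' := by
  set τ := topIdx (d := d) (n := n) hdn.le
  have hlt : ∃ φ : Idx d n, φ < τ := by
    refine ⟨⟨fun t => ⟨t.val, lt_trans t.isLt hdn⟩, fun _ _ h => h⟩, lt_of_le_of_ne (le_topIdx _ _) fun e => ?_⟩
    have := congrArg (fun θ : Idx d n => (θ.1 ⟨0, hd⟩).val) e
    simp [τ, topIdx] at this
    omega
  have hg : g ∈ schubertVanishing K d n τ ⊔ Ideal.span {X τ} := by
    rw [sup_span_eq_iInf_divisors hd τ hlt]
    simp only [Submodule.mem_iInf, schubertVanishing, RingHom.mem_ker]
    intro φ hφ A hA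
    show evalAt A g = 0
    rw [← pluckerMap_apply_eval, h, map_mul, pluckerMap_apply_eval, evalAt_X, hA τ (not_le_of_gt hφ.1), zero_mul]
  obtain ⟨j, hj, s, hs, rfl⟩ := Submodule.mem_sup.1 hg
  obtain ⟨g', rfl⟩ := Ideal.mem_span_singleton.1 hs
  have hj0 : pluckerMap K d n j = 0 := by
    refine MvPolynomial.funext fun x => ?_
    rw [map_zero]
    have := pluckerMap_apply_eval (Matrix.of fun i k => x (i, k)) j
    simp only [Matrix.of_apply, Prod.mk.eta] at this
    rw [this]
    simp only [schubertVanishing, Submodule.mem_iInf, RingHom.mem_ker] at hj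
    exact hj _ fun φ hφ => absurd (le_topIdx _ φ) hφ
  refine ⟨g', ?_⟩
  rw [map_add, hj0, zero_add, map_mul] at h
  refine (mul_left_cancel₀ ?_ h).symm
  intro h0
  have := pluckerMap_apply_eval (Matrix.of fun i k => if i = τ.1 k then (1 : K) else 0) (X τ)
  rw [h0, map_zero, evalAt_X] at this
  refine zero_ne_one (this.trans ?_)
  refine (congrArg Matrix.det ?_).trans Matrix.det_one
  refine Matrix.ext fun s t => ?_
  show (if τ.1 s = τ.1 t then (1 : K) else 0) = _
  rw [Matrix.one_apply]
  exact if_congr τ.2.injective.eq_iff rfl rfl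

theorem invariants_SL [Infinite K] (hd : 0 < d) (hdn : d < n) (f : MatRing K d n) :
    (∀ g : Matrix.SpecialLinearGroup (Fin d) K, rightTranslate K d n g f = f) ↔
      f ∈ Algebra.adjoin K (Set.range fun θ : Idx d n => minor K d n θ.1) := by
  classical
  rw [Algebra.adjoin_range_eq_range_aeval]
  constructor
  swap
  · rintro ⟨p, rfl⟩ g
    show rightTranslate K d n g (pluckerMap K d n p) = pluckerMap K d n p
    rw [pluckerMap_eq, map_evalAt]
    have : (Matrix.of fun i j => (X (i, j) : MatRing K d n)).map (rightTranslate K d n g) =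
        (Matrix.of fun i j => (X (i, j) : MatRing K d n)) * (g : Matrix (Fin d) (Fin d) K).map C := by
      refine Matrix.ext fun i j => ?_
      simp [rightTranslate, Matrix.mul_apply]
    rw [this]
    refine AlgHom.congr_fun (MvPolynomial.algHom_ext fun θ => ?_) p
    have hs := Matrix.submatrix_mul (Matrix.of fun i j => (X (i, j) : MatRing K d n))
      ((g : Matrix (Fin d) (Fin d) K).map C) θ.1 id id Function.bijective_id
    rw [Matrix.submatrix_id_id] at hs
    rw [evalAt_X, evalAt_X, hs, Matrix.det_mul]
    have : ((g : Matrix (Fin d) (Fin d) K).map C).det = (1 : MatRing K d n) := by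
      rw [← RingHom.mapMatrix_apply, ← RingHom.map_det, g.2, map_one]
    rw [this, mul_one]
  intro hf
  set τ := topIdx (d := d) (n := n) hdn.le
  let k₀ : Fin d := ⟨0, hd⟩
  -- the weight counts the columns to be divided by the top minor
  let wt : (Fin n × Fin d →₀ ℕ) → ℕ := fun e => ∑ p, if p.2 = k₀ then 0 else e p
  let N := f.support.sup wt
  let cf : Fin n × Fin d → PlRing K d n := fun p => coord K d n (Function.update τ.1 p.2 p.1)
  let g : PlRing K d n := ∑ e ∈ f.support, C (coeff e f) * (X τ ^ (N - wt e) * ∏ p, cf p ^ e p)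
  have key : pluckerMap K d n g = pluckerMap K d n (X τ) ^ N * f := by
    refine mul_left_cancel₀ (a := pluckerMap K d n (X τ)) ?_ (MvPolynomial.funext fun x => ?_)
    · intro h0
      have := pluckerMap_apply_eval (Matrix.of fun i k => if i = τ.1 k then (1 : K) else 0) (X τ)
      rw [h0, map_zero, evalAt_X] at this
      refine zero_ne_one (this.trans ?_)
      refine (congrArg Matrix.det ?_).trans Matrix.det_one
      refine Matrix.ext fun s t => ?_
      show (if τ.1 s = τ.1 t then (1 : K) else 0) = _
      rw [Matrix.one_apply]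
      exact if_congr τ.2.injective.eq_iff rfl rfl
    let A : Matrix (Fin n) (Fin d) K := Matrix.of fun i k => x (i, k)
    have hev : ∀ q, eval x (pluckerMap K d n q) = evalAt A q := fun q => by
      have := pluckerMap_apply_eval A q
      simpa [A] using this
    simp only [map_mul, map_pow, hev, evalAt_X]
    set D := (A.submatrix τ.1 id).det
    by_cases hD : D = 0
    · rw [hD, zero_mul, zero_mul]
    congr 1
    have hu : IsUnit D := isUnit_iff_ne_zero.2 hD
    -- a unimodular translate normalising the top rows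
    let v : Fin d → K := fun k => if k = k₀ then D else 1
    let M : Matrix (Fin d) (Fin d) K := (A.submatrix τ.1 id)⁻¹ * Matrix.diagonal v
    have hM : M.det = 1 := by
      rw [Matrix.det_mul, Matrix.det_diagonal, Matrix.det_nonsing_inv, Ring.inverse_eq_inv']
      rw [Finset.prod_ite_eq' Finset.univ k₀ (fun _ => D)]
      simp only [Finset.mem_univ, if_true]
      exact inv_mul_cancel₀ hD
    have hentry : ∀ p : Fin n × Fin d, (A * M) p.1 p.2 =
        (A.submatrix (Function.update τ.1 p.2 p.1) id).det * (if p.2 = k₀ then 1 else D⁻¹) := by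
      intro p
      rw [← mul_adjugate_apply]
      rw [← Matrix.mul_assoc, Matrix.mul_diagonal, Matrix.inv_def, Matrix.mul_smul, Matrix.smul_apply,
        Ring.inverse_eq_inv', smul_eq_mul]
      show D⁻¹ * _ * (if p.2 = k₀ then D else 1) = _
      split_ifs
      · rw [mul_comm D⁻¹, mul_assoc, inv_mul_cancel₀ hD]
      · rw [mul_one, mul_comm]
    have hinv : eval x f = eval (fun p : Fin n × Fin d => (A * M) p.1 p.2) f := by
      conv_lhs => rw [← hf ⟨M, hM⟩]
      unfold rightTranslate
      show (MvPolynomial.aeval x) ((MvPolynomial.aeval _) f) = MvPolynomial.aeval _ f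
      rw [← AlgHom.comp_apply, MvPolynomial.comp_aeval]
      congr 2
      funext p
      simp [Matrix.mul_apply, A]
    rw [hinv, map_sum, eval_eq' (f := f), Finset.mul_sum]
    refine Finset.sum_congr rfl fun e he => ?_
    rw [map_mul, map_mul, map_pow, evalAt_X, map_prod]
    simp only [map_pow, cf, evalAt_coord, hentry, mul_pow, Finset.prod_mul_distrib]
    have hw : ∏ p : Fin n × Fin d, (if p.2 = k₀ then (1 : K) else D⁻¹) ^ e p = D⁻¹ ^ wt e := by
      rw [← Finset.prod_pow_eq_pow_sum]
      refine Finset.prod_congr rfl fun p _ => ?_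
      split_ifs <;> simp
    rw [hw, show evalAt A (C (coeff e f)) = coeff e f from MvPolynomial.aeval_C _ _]
    have hle : wt e ≤ N := Finset.le_sup he
    show coeff e f * (D ^ (N - wt e) * _) = D ^ N * (coeff e f * (_ * D⁻¹ ^ wt e))
    obtain ⟨l, hl⟩ := Nat.exists_eq_add_of_le hle
    rw [hl, Nat.add_sub_cancel_left, pow_add, inv_pow]
    field_simp
  -- remove the powers of the top coordinate
  have hdesc : ∀ (M : ℕ) (q : PlRing K d n), pluckerMap K d n q = pluckerMap K d n (X τ) ^ M * f →
      ∃ g', f = pluckerMap K d n g' := by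
    intro M
    induction M with
    | zero => exact fun q hq => ⟨q, by rw [hq, pow_zero, one_mul]⟩
    | succ M ih =>
      intro q hq
      rw [pow_succ', mul_assoc] at hq
      obtain ⟨q', hq'⟩ := exists_of_top_dvd hd hdn q _ hq
      exact ih q' hq'.symm
  obtain ⟨g', hg'⟩ := hdesc N g key
  exact ⟨g', hg'.symm⟩

end SMTLib
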