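import Groth.Agent.SMTLib.SchubertNormal
import Groth.Agent.SMTLib.Bitableaux
import Groth.Agent.SMTLib.CMQuot

/-!
# Determinantal varieties
-/

universe u

namespace SMTLib

open MvPolynomial W4bk4grassmannian

variable {K : Type u} [Field K] {m n s : ℕ}

/-- The largest index of size at most `s`. -/
def detIdx (hsn : s ≤ n) (hsm : s ≤ m) : Idx n (n + m) :=
  ⟨fun k => if k.val < n - s then ⟨s + k.val, by omega⟩ else ⟨m + k.val, by omega⟩, fun a b hab => by
    have := Fin.lt_def.1 hab
    simp only
    split_ifs <;> rw [Fin.lt_def] <;> simp only <;> omega⟩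

lemma sz_detIdx (hsn : s ≤ n) (hsm : s ≤ m) : sz (detIdx hsn hsm) ≤ s := by
  have : (Finset.univ.filter fun t : Fin n => n ≤ ((detIdx hsn hsm).1 t).val) ⊆
      (Finset.univ.filter fun t : Fin n => n - s ≤ t.val) := fun t ht => by
    simp only [Finset.mem_filter, Finset.mem_univ, true_and, detIdx] at ht ⊢
    split_ifs at ht with h <;> simp only at ht <;> omega
  refine (Finset.card_le_card this).trans ?_
  refine (Finset.card_le_card_of_injOn (fun t => t.val - (n - s)) (t := Finset.range s) (fun t ht => ?_) ?_).trans_eq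
    (Finset.card_range s)
  · simp only [Finset.coe_filter, Finset.mem_univ, true_and, Set.mem_setOf_eq] at ht
    simp only [Finset.coe_range, Set.mem_Iio]
    omega
  · intro a ha b hb hab
    simp only [Finset.coe_filter, Finset.mem_univ, true_and, Set.mem_setOf_eq] at ha hb hab
    exact Fin.ext (by omega)

lemma le_detIdx_iff (hsn : s ≤ n) (hsm : s ≤ m) (φ : Idx n (n + m)) : φ ≤ detIdx hsn hsm ↔ sz φ ≤ s := by
  refine ⟨fun h => (sz_mono h).trans (sz_detIdx hsn hsm), fun h k => ?_⟩
  have key : ∀ j (hj : k.val + j < n), (φ.1 k).val + j ≤ (φ.1 ⟨k.val + j, hj⟩).val := by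
    intro j
    induction j with
    | zero => intro _; simp
    | succ j ih =>
      intro hj
      have := ih (by omega)
      have := Fin.lt_def.1 (φ.2 (show (⟨k.val + j, by omega⟩ : Fin n) < ⟨k.val + (j + 1), hj⟩ from
        Fin.lt_def.2 (by simp only; omega)))
      omega
  simp only [detIdx]
  split_ifs with hk
  · show (φ.1 k).val ≤ s + k.val
    have h1 := key (n - s - 1 - k.val) (by omega)
    have h2 : (φ.1 ⟨k.val + (n - s - 1 - k.val), by omega⟩).val < n := by
      by_contra hge
      have : (Finset.Ici (⟨k.val + (n - s - 1 - k.val), by omega⟩ : Fin n)).card ≤ sz φ :=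
        Finset.card_le_card fun t ht => Finset.mem_filter.2
          ⟨Finset.mem_univ t, (not_lt.1 hge).trans (Fin.le_def.1 (φ.2.monotone (Finset.mem_Ici.1 ht)))⟩
      rw [Fin.card_Ici] at this
      simp only at this
      omega
    omega
  · show (φ.1 k).val ≤ m + k.val
    have h1 := key (n - 1 - k.val) (by omega)
    have := (φ.1 ⟨k.val + (n - 1 - k.val), by omega⟩).isLt
    omega

lemma codeg_detIdx (hsn : s ≤ n) (hsm : s ≤ m) : codeg (detIdx hsn hsm) = s * (m + n - s) := by
  have h : ∀ k : Fin n, ((detIdx hsn hsm).1 k).val - k.val = if k.val < n - s then s else m := fun k => by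
    simp only [detIdx]
    split_ifs <;> simp only <;> omega
  simp only [codeg, h]
  rw [Fin.sum_univ_eq_sum_range (fun k => if k < n - s then s else m) n]
  obtain ⟨e, rfl⟩ := Nat.exists_eq_add_of_le hsn
  rw [show s + e - s = e from Nat.add_sub_cancel_left _ _, show s + e = e + s from add_comm _ _, Finset.sum_range_add,
    Finset.sum_congr rfl (fun x hx => if_pos (Finset.mem_range.1 hx))]
  simp only [show ∀ x, ¬ e + x < e from fun x => by omega, if_false, Finset.sum_const, Finset.card_range, smul_eq_mul]
  rw [show m + (e + s) - s = m + e by omega]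
  ring

variable [Infinite K]

section

variable (K) (hsn : s ≤ n) (hsm : s ≤ m)

/-- The cone. -/
abbrev coneRing : Type u := PlRing K n (n + m) ⧸ schubertVanishing K n (n + m) (detIdx hsn hsm)

/-- The determinantal ring. -/
abbrev detRing (K : Type u) [Field K] (m n s : ℕ) : Type u := MRing K m n ⧸ CAlgX.minorIdeal (genMatrix K m n) (s + 1)

/-- A minor near the bottom index. -/
noncomputable def nearBot (i : Fin (n + m)) (t : Fin n) : PlRing K n (n + m) :=
  coord K n (n + m) (Function.update (bot' n m).1 t i)

variable {K}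

lemma schubertVanishing_le_ker_det (hn : 0 < n) :
    schubertVanishing K n (n + m) (detIdx hsn hsm) ≤
      RingHom.ker ((Ideal.Quotient.mkₐ K (CAlgX.minorIdeal (genMatrix K m n) (s + 1))).comp (dehom K m n)).toRingHom := by
  rw [← plIdeal_eq hn, plIdeal, Ideal.span_le]
  rintro g (⟨i, j, r, -, rfl⟩ | ⟨φ, hφ, rfl⟩)
  · refine RingHom.mem_ker.2 ?_
    show Ideal.Quotient.mkₐ K _ (dehom K m n _) = 0
    rw [dehom, evalAt_shuffleRel_eq_zero, map_zero]
  · refine RingHom.mem_ker.2 (Ideal.Quotient.eq_zero_iff_mem.2 ?_)
    rw [← map_bigIdeal]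
    refine Ideal.mem_map_of_mem _ (Ideal.mem_sup_right (Ideal.subset_span ⟨φ, ?_, rfl⟩))
    rw [le_detIdx_iff] at hφ
    omega

lemma dehom_nearBot (a : Fin m) (b : Fin n) : dehom K m n (nearBot K (Fin.natAdd n (Fin.rev a)) b) = X (a, b) := by
  rw [dehom, nearBot, evalAt_coord, ← mul_adjugate_apply']
  have : (stack (revGen K m n)).submatrix (bot' n m).1 id = 1 := by
    refine Matrix.ext fun i t => ?_
    show stack (revGen K m n) ((bot' n m).1 i) t = _
    rw [show (bot' n m).1 i = Fin.castAdd m i from Fin.ext rfl, stack_castAdd]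
  rw [this, Matrix.adjugate_one, Matrix.mul_one, stack_natAdd]
  simp [revGen, genMatrix]

/-- The Plücker identity at the bottom index. -/
lemma det_nearBot (hn : 0 < n) (θ : Idx n (n + m)) :
    ((Matrix.of fun i t => Ideal.Quotient.mk (schubertVanishing K n (n + m) (detIdx hsn hsm)) (nearBot K i t)).submatrix θ.1 id).det =
      Ideal.Quotient.mk _ (X (bot' n m)) ^ (n - 1) * Ideal.Quotient.mk _ (X θ) := by
  classical
  set τ := detIdx hsn hsm
  let κ : coneRing K hsn hsm →ₐ[K] MvPolynomial (Ent n (n + m)) K :=
    Ideal.Quotient.liftₐ _ (cellMap K τ) fun f hf => schubertVanishing_le_ker τ hf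
  have hκ : Function.Injective κ := (injective_iff_map_eq_zero κ).2 fun y hy => by
    obtain ⟨f, rfl⟩ := Ideal.Quotient.mk_surjective y
    rw [Ideal.Quotient.eq_zero_iff_mem, schubertVanishing_eq_ker hn τ]
    exact hy
  refine hκ ?_
  have h1 : ∀ φ : Idx n (n + m), κ (Ideal.Quotient.mk _ (X φ)) = ((cellGen K τ).submatrix φ.1 id).det :=
    fun φ => evalAt_X _ φ
  rw [AlgHom.map_det, map_mul, map_pow, h1, h1]
  have h2 : κ.mapMatrix ((Matrix.of fun i t => Ideal.Quotient.mk (schubertVanishing K n (n + m) τ) (nearBot K i t)).submatrix θ.1 id) =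
      (cellGen K τ * ((cellGen K τ).submatrix (bot' n m).1 id).adjugate).submatrix θ.1 id := by
    refine Matrix.ext fun i t => ?_
    rw [Matrix.submatrix_apply, mul_adjugate_apply']
    exact evalAt_coord _ _
  rw [h2]
  have hs := Matrix.submatrix_mul (cellGen K τ) ((cellGen K τ).submatrix (bot' n m).1 id).adjugate θ.1 id id Function.bijective_id
  rw [Matrix.submatrix_id_id] at hs
  rw [hs, Matrix.det_mul, Matrix.det_adjugate, Fintype.card_fin, mul_comm]

lemma nearBot_pivot (hn : 0 < n) (i t : Fin n) :
    Ideal.Quotient.mk (schubertVanishing K n (n + m) (detIdx hsn hsm)) (nearBot K (Fin.castAdd m i) t) =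
      Ideal.Quotient.mk _ (X (bot' n m)) * (1 : Matrix (Fin n) (Fin n) _) i t := by
  classical
  by_cases h : i = t
  · subst h
    rw [Matrix.one_apply_eq, mul_one]
    congr 1
    refine (congrArg (coord K n (n + m)) (Function.update_eq_self_iff.2 (Fin.ext rfl : Fin.castAdd m i = (bot' n m).1 i))).trans ?_
    have hinj : (Finset.univ.image (bot' n m).1).card = n := (card_image_eq_iff _).2 (bot' n m).2.injective
    rw [coord, dif_pos hinj]
    have hc : invCount n (n + m) (bot' n m).1 = 0 := by
      rw [invCount, Finset.card_eq_zero, Finset.filter_eq_empty_iff]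
      exact fun p _ hp => not_lt.2 ((bot' n m).2.monotone hp.1.le) hp.2
    rw [hc, pow_zero, one_mul]
    congr 1
    exact Subtype.ext (Finset.orderEmbOfFin_unique hinj (fun x => Finset.mem_image_of_mem _ (Finset.mem_univ x)) (bot' n m).2).symm
  · rw [Matrix.one_apply_ne h, mul_zero, Ideal.Quotient.eq_zero_iff_mem]
    rw [nearBot, coord, dif_neg]
    · exact Ideal.zero_mem _
    rw [card_image_eq_iff]
    intro hinj
    refine h (hinj (?_ : Function.update (bot' n m).1 t (Fin.castAdd m i) i = Function.update (bot' n m).1 t (Fin.castAdd m i) t))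
    rw [Function.update_of_ne h, Function.update_self]
    exact Fin.ext rfl

/-- A point of the chart gives a map of the determinantal ring. -/
lemma exists_chartHom (hn : 0 < n) {S : Type u} [CommRing S] [Algebra K S] (g : coneRing K hsn hsm →ₐ[K] S)
    (v : S) (hv : g (Ideal.Quotient.mk _ (X (bot' n m))) * v = 1) :
    ∃ σ : detRing K m n s →ₐ[K] S,
      (∀ a b, σ (Ideal.Quotient.mk _ (X (a, b))) = g (Ideal.Quotient.mk _ (nearBot K (Fin.natAdd n (Fin.rev a)) b)) * v) ∧
      ∀ θ, σ (Ideal.Quotient.mk _ (dehom K m n (X θ))) = g (Ideal.Quotient.mk _ (X θ)) * v := by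
  classical
  let σ₀ : MRing K m n →ₐ[K] S := MvPolynomial.aeval fun p =>
    g (Ideal.Quotient.mk _ (nearBot K (Fin.natAdd n (Fin.rev p.1)) p.2)) * v
  let N : Matrix (Fin (n + m)) (Fin n) (coneRing K hsn hsm) :=
    Matrix.of fun i t => Ideal.Quotient.mk (schubertVanishing K n (n + m) (detIdx hsn hsm)) (nearBot K i t)
  have hmat : (stack (revGen K m n)).map σ₀ = (N.map g).map fun y => y * v := by
    refine Matrix.ext fun i t => ?_
    induction i using Fin.addCases with
    | left i =>
      rw [Matrix.map_apply, stack_castAdd, Matrix.map_apply, Matrix.map_apply]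
      show _ = g (Ideal.Quotient.mk _ (nearBot K _ t)) * v
      rw [nearBot_pivot hsn hsm hn]
      by_cases h : i = t
      · subst h; rw [Matrix.one_apply_eq, Matrix.one_apply_eq, map_one, mul_one, hv]
      · rw [Matrix.one_apply_ne h, Matrix.one_apply_ne h, map_zero, mul_zero, map_zero, zero_mul]
    | right j =>
      rw [Matrix.map_apply, stack_natAdd, Matrix.map_apply, Matrix.map_apply]
      simp [revGen, genMatrix, σ₀, N]
  have hθ : ∀ θ, σ₀ (dehom K m n (X θ)) = g (Ideal.Quotient.mk _ (X θ)) * v := by
    intro θ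
    rw [dehom, map_evalAt, hmat, evalAt_X,
      show ((N.map g).map fun y => y * v).submatrix θ.1 id = v • g.mapMatrix (N.submatrix θ.1 id) from
        Matrix.ext fun i t => by simp [mul_comm],
      Matrix.det_smul, Fintype.card_fin, ← AlgHom.map_det, det_nearBot hsn hsm hn, map_mul, map_pow]
    set b := g (Ideal.Quotient.mk _ (X (bot' n m)))
    obtain ⟨e, rfl⟩ : ∃ e, n = e + 1 := ⟨n - 1, by omega⟩
    rw [Nat.add_sub_cancel, pow_succ]
    calc v ^ e * v * (b ^ e * g (Ideal.Quotient.mk _ (X θ)))
        = (b * v) ^ e * (g (Ideal.Quotient.mk _ (X θ)) * v) := by ring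
      _ = _ := by rw [hv, one_pow, one_mul]
  have hle : CAlgX.minorIdeal (genMatrix K m n) (s + 1) ≤ RingHom.ker σ₀.toRingHom := by
    rw [← map_bigIdeal, Ideal.map_le_iff_le_comap, bigIdeal, sup_le_iff, plIdealTop, Ideal.span_le, Ideal.span_le]
    refine ⟨?_, ?_⟩
    · rintro f ⟨i, j, r, -, rfl⟩
      show σ₀ (dehom K m n _) = 0
      rw [dehom, evalAt_shuffleRel_eq_zero, map_zero]
    · rintro f ⟨φ, hφ, rfl⟩
      show σ₀ (dehom K m n (X φ)) = 0
      rw [hθ, Ideal.Quotient.eq_zero_iff_mem.2 (plIdeal_le_schubertVanishing _ (Ideal.subset_span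
        (Or.inr ⟨φ, fun h => ?_, rfl⟩))), map_zero, zero_mul]
      rw [le_detIdx_iff] at h
      omega
  exact ⟨Ideal.Quotient.liftₐ _ σ₀ fun x hx => hle hx, fun a b => MvPolynomial.aeval_X _ _, hθ⟩

end

theorem determinantal (hn : 0 < n) (hsn : s ≤ n) (hsm : s ≤ m) :
    IsDomain (detRing K m n s) ∧ IsIntegrallyClosed (detRing K m n s) ∧
      LocCoh.IsCohenMacaulayRing (detRing K m n s) ∧
      ringKrullDim (detRing K m n s) = ((s * (m + n - s) : ℕ) : WithBot ℕ∞) := by
  classical
  let R := coneRing K hsn hsm
  let D := detRing K m n s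
  have hnn : n ≤ n + m := Nat.le_add_right n m
  obtain ⟨hdomR, hnormR⟩ := isIntegrallyClosed_schubert (K := K) hn hnn (detIdx hsn hsm)
  have hcmR := isCohenMacaulayRing_schubert (K := K) hn hnn (detIdx hsn hsm)
  let b : R := Ideal.Quotient.mk _ (X (bot' n m))
  have hb : b ≠ 0 := fun h => X_notMem hn (bottom_le hnn (detIdx hsn hsm)) (Ideal.Quotient.eq_zero_iff_mem.1 h)
  let r₀ : R →ₐ[K] D := Ideal.Quotient.liftₐ _
    ((Ideal.Quotient.mkₐ K (CAlgX.minorIdeal (genMatrix K m n) (s + 1))).comp (dehom K m n))
    fun f hf => schubertVanishing_le_ker_det hsn hsm hn hf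
  have hr₀ : Function.Surjective r₀ := fun y => by
    obtain ⟨p, rfl⟩ := Ideal.Quotient.mk_surjective y
    obtain ⟨f, rfl⟩ := dehom_surjective p
    exact ⟨Ideal.Quotient.mk _ f, rfl⟩
  have hr₀b : r₀ b = 1 := by
    show Ideal.Quotient.mk _ (dehom K m n (X (bot' n m))) = 1
    rw [dehom_bot, map_one]
  have hr₀N : ∀ a c, r₀ (Ideal.Quotient.mk _ (nearBot K (Fin.natAdd n (Fin.rev a)) c)) = Ideal.Quotient.mk _ (X (a, c)) :=
    fun a c => congrArg (Ideal.Quotient.mk _) (dehom_nearBot a c)
  -- the retraction from the chart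
  let L := Localization.Away b
  have hLle : Submonoid.powers b ≤ nonZeroDivisors R := powers_le_nonZeroDivisors_of_noZeroDivisors hb
  have : IsDomain L := IsLocalization.isDomain_of_le_nonZeroDivisors _ hLle
  have : IsIntegrallyClosed L := isIntegrallyClosed_of_isLocalization L (Submonoid.powers b) hLle
  obtain ⟨u, hu⟩ := IsLocalization.Away.algebraMap_isUnit (S := L) b
  obtain ⟨σ, hσX, hσ⟩ := exists_chartHom hsn hsm hn (IsScalarTower.toAlgHom K R L) ((u⁻¹ : Lˣ) : L)
    (by show algebraMap R L b * _ = 1; rw [← hu, Units.mul_inv])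
  let ρ : L →ₐ[K] D := IsLocalization.liftAlgHom (M := Submonoid.powers b) (f := r₀) (by
    rintro ⟨_, k, rfl⟩; simp [hr₀b])
  have hρ : ∀ y : R, ρ (algebraMap R L y) = r₀ y := fun y => IsLocalization.lift_eq _ _
  have hρu : ρ ((u⁻¹ : Lˣ) : L) = 1 := by
    have : ρ (algebraMap R L b * ((u⁻¹ : Lˣ) : L)) = 1 := by rw [← hu, Units.mul_inv, map_one]
    rwa [map_mul, hρ, hr₀b, one_mul] at this
  have hret : ∀ y : D, ρ (σ y) = y := by
    refine AlgHom.congr_fun (Ideal.Quotient.algHom_ext K (MvPolynomial.algHom_ext fun p => ?_) : ρ.comp σ = AlgHom.id K D)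
    obtain ⟨a, c⟩ := p
    show ρ (σ (Ideal.Quotient.mk _ (X (a, c)))) = Ideal.Quotient.mk _ (X (a, c))
    rw [hσX, map_mul, hρu, mul_one]
    exact (hρ _).trans (hr₀N a c)
  have hσinj : Function.Injective σ := fun x y h => by rw [← hret x, ← hret y, h]
  have hdomD : IsDomain D := hσinj.isDomain σ
  refine ⟨hdomD, ?_, ?_, ?_⟩
  · -- normality along the retraction
    refine (isIntegrallyClosed_iff (FractionRing D)).2 fun {y} hy => ?_
    obtain ⟨a, c, hc, rfl⟩ := IsFractionRing.div_surjective D y
    have hc0 : c ≠ 0 := nonZeroDivisors.ne_zero hc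
    let Φ : FractionRing D →+* FractionRing L :=
      IsFractionRing.lift (A := D) (g := (algebraMap L (FractionRing L)).comp σ.toRingHom)
        (fun x y h => hσinj (IsFractionRing.injective L (FractionRing L) h))
    have hint : IsIntegral L (Φ (algebraMap D (FractionRing D) a / algebraMap D (FractionRing D) c)) := by
      obtain ⟨p, hp, hpy⟩ := hy
      refine ⟨p.map σ.toRingHom, hp.map _, ?_⟩
      rw [Polynomial.eval₂_map, ← (show Φ.comp (algebraMap D (FractionRing D)) =
          (algebraMap L (FractionRing L)).comp σ.toRingHom from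
            RingHom.ext fun x => by exact IsFractionRing.lift_algebraMap (fun x y h => hσinj (IsFractionRing.injective L (FractionRing L) h)) x),
        ← Polynomial.hom_eval₂, hpy, map_zero]
    obtain ⟨z, hz⟩ := (isIntegrallyClosed_iff (FractionRing L)).1 inferInstance hint
    refine ⟨ρ z, ?_⟩
    rw [map_div₀, IsFractionRing.lift_algebraMap, IsFractionRing.lift_algebraMap, eq_div_iff (by
      simpa using (map_ne_zero_iff _ hσinj).2 hc0)] at hz
    have hz' : z * σ c = σ a := IsFractionRing.injective L (FractionRing L) (by rw [map_mul]; exact hz)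
    have := congrArg ρ hz'
    rw [map_mul, hret, hret] at this
    rw [eq_div_iff ((map_ne_zero_iff _ (IsFractionRing.injective D (FractionRing D))).2 hc0), ← map_mul, this]
  · -- the determinantal ring is a hyperplane section
    have hker : RingHom.ker r₀ = Ideal.span {b - 1} := by
      refine le_antisymm (fun f hf => ?_) ((Ideal.span_singleton_le_iff_mem _).2 ?_)
      · let Q := R ⧸ Ideal.span {b - 1}
        let g : R →ₐ[K] Q := Ideal.Quotient.mkₐ K _
        have hgb : g b = 1 := by
          rw [← map_one g]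
          exact Ideal.Quotient.eq.2 (Ideal.subset_span rfl)
        obtain ⟨σ', -, hσ'⟩ := exists_chartHom (S := Q) hsn hsm hn g (1 : Q) ((mul_one (g b)).trans hgb)
        have : σ'.comp r₀ = g := Ideal.Quotient.algHom_ext K (MvPolynomial.algHom_ext fun θ => (hσ' θ).trans (mul_one (g (Ideal.Quotient.mk _ (X θ)))))
        rw [← Ideal.Quotient.eq_zero_iff_mem]
        show g f = 0
        rw [← this, AlgHom.comp_apply, RingHom.mem_ker.1 hf, map_zero]
      · rw [RingHom.mem_ker, map_sub, hr₀b, map_one, sub_self]
    have hne : b - 1 ≠ 0 := fun h => by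
      rw [sub_eq_zero] at h
      have hmem := Ideal.Quotient.eq.1 (show Ideal.Quotient.mk (schubertVanishing K n (n + m) (detIdx hsn hsm)) (X (bot' n m)) =
        Ideal.Quotient.mk _ 1 by rw [map_one]; exact h)
      have hc := homogeneousComponent_mem_schubert hn _ _ hmem 0
      rw [homogeneousComponent_zero] at hc
      refine (isPrime_schubertVanishing hn _).ne_top (Ideal.eq_top_of_isUnit_mem _ hc ?_)
      simp
    have : LocCoh.IsCohenMacaulayRing (R ⧸ RingHom.ker r₀) := hker ▸ isCohenMacaulayRing_quotient_singleton hne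
    exact (Ideal.quotientKerAlgEquivOfSurjective hr₀).toRingEquiv |> fun e => isCohenMacaulayRing_of_ringEquiv e this
  · -- dimension
    have hdimR := ringKrullDim_schubert (K := K) hn hnn (detIdx hsn hsm)
    obtain ⟨sR, hsR, htrR⟩ := WeilLib.dim_eq_trdeg K R (FractionRing R)
    obtain ⟨sD, hsD, htrD⟩ := WeilLib.dim_eq_trdeg K D (FractionRing D)
    have frac : ∀ (A : Type u) [CommRing A] [IsDomain A] [Algebra K A],
        Algebra.trdeg K (FractionRing A) = Algebra.trdeg K A := fun A _ _ _ => by
      refine le_antisymm ?_ (trdeg_le_of_injective (IsScalarTower.toAlgHom K _ _) (IsFractionRing.injective _ _))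
      have : Algebra.IsAlgebraic A (FractionRing A) := IsLocalization.isAlgebraic _ (nonZeroDivisors _)
      rw [← trdeg_add_eq K A, trdeg_eq_zero (R := A), add_zero]
    rw [frac] at htrR htrD
    have hpoly : Algebra.trdeg K (Polynomial D) = (sD + 1 : ℕ) := by
      rw [← trdeg_add_eq K D, Polynomial.trdeg_of_isDomain, htrD, Nat.cast_add, Nat.cast_one]
    let T := Localization.Away (Polynomial.X : Polynomial D)
    have hXT : (Polynomial.X : Polynomial D) ≠ 0 := Polynomial.X_ne_zero
    -- the cone in the cylinder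
    let ψ₀ : PlRing K n (n + m) →ₐ[K] Polynomial D :=
      MvPolynomial.aeval fun θ => Polynomial.X * Polynomial.C (r₀ (Ideal.Quotient.mk _ (X θ)))
    let χ : Polynomial D →+* L := Polynomial.eval₂RingHom σ.toRingHom (algebraMap R L b)
    have hχψ : ∀ f, χ (ψ₀ f) = algebraMap R L (Ideal.Quotient.mk _ f) := by
      intro f
      induction f using MvPolynomial.induction_on with
      | C a =>
        rw [MvPolynomial.aeval_C, IsScalarTower.algebraMap_apply K D (Polynomial D)]
        show χ (Polynomial.C (algebraMap K D a)) = _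
        rw [Polynomial.coe_eval₂RingHom, Polynomial.eval₂_C]
        show σ (algebraMap K D a) = _
        rw [AlgHom.commutes, IsScalarTower.algebraMap_apply K R L]
        rfl
      | add p q hp hq => simp only [map_add, hp, hq]
      | mul_X p θ hp =>
        simp only [map_mul, hp]
        congr 1
        rw [MvPolynomial.aeval_X]
        show χ (Polynomial.X * Polynomial.C _) = _
        rw [Polynomial.coe_eval₂RingHom, Polynomial.eval₂_mul, Polynomial.eval₂_X, Polynomial.eval₂_C]
        show algebraMap R L b * σ _ = _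
        rw [show r₀ (Ideal.Quotient.mk _ (X θ)) = Ideal.Quotient.mk _ (dehom K m n (X θ)) from rfl, hσ]
        show algebraMap R L b * (algebraMap R L _ * _) = _
        rw [← mul_assoc, mul_comm (algebraMap R L b), mul_assoc, ← hu, Units.mul_inv, mul_one]
    have hψT : ∀ θ, algebraMap (Polynomial D) T (ψ₀ (X θ)) =
        algebraMap (Polynomial D) T Polynomial.X * algebraMap (Polynomial D) T (Polynomial.C (r₀ (Ideal.Quotient.mk _ (X θ)))) := fun θ => by
      rw [← map_mul]; exact congrArg _ (MvPolynomial.aeval_X _ θ)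
    have hψker : ∀ f ∈ schubertVanishing K n (n + m) (detIdx hsn hsm), ψ₀ f = 0 := by
      intro f hf
      refine Polynomial.ext fun j => ?_
      -- homogeneous parts stay in the ideal
      rw [← sum_homogeneousComponent f, map_sum, Polynomial.finsetSum_coeff, Polynomial.coeff_zero]
      refine Finset.sum_eq_zero fun i _ => ?_
      have hi : r₀ (Ideal.Quotient.mk _ (homogeneousComponent i f)) = 0 := by
        rw [Ideal.Quotient.eq_zero_iff_mem.2 (homogeneousComponent_mem_schubert hn _ f hf i), map_zero]
      have : ψ₀ (homogeneousComponent i f) = Polynomial.X ^ i * Polynomial.C (r₀ (Ideal.Quotient.mk _ (homogeneousComponent i f))) := by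
        conv_lhs => rw [(homogeneousComponent i f).as_sum]
        conv_rhs => rw [(homogeneousComponent i f).as_sum]
        rw [map_sum, map_sum, map_sum, map_sum, Finset.mul_sum]
        refine Finset.sum_congr rfl fun e he => ?_
        have hdeg : e.degree = i := by
          rw [Finsupp.degree_eq_weight_one]; exact homogeneousComponent_isHomogeneous i f (mem_support_iff.1 he)
        rw [show (Polynomial.X ^ i : Polynomial D) = Polynomial.X ^ e.degree by rw [hdeg], monomial_eq, map_mul, map_mul, map_mul, map_mul, Finsupp.degree_apply]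
        simp only [Finsupp.prod, map_prod, map_pow, ψ₀, MvPolynomial.aeval_X, MvPolynomial.aeval_C, mul_pow,
          Finset.prod_mul_distrib, Finset.prod_pow_eq_pow_sum]
        rw [IsScalarTower.algebraMap_apply K D (Polynomial D), Polynomial.algebraMap_eq,
          show r₀ (Ideal.Quotient.mk _ (C (coeff e (homogeneousComponent i f)))) = algebraMap K D (coeff e (homogeneousComponent i f)) from
            r₀.commutes _]
        ring
      rw [this, hi, map_zero, mul_zero, Polynomial.coeff_zero]
    let ψ : R →ₐ[K] Polynomial D := Ideal.Quotient.liftₐ _ ψ₀ hψker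
    have hψinj : Function.Injective ψ := fun x y h => by
      obtain ⟨f, rfl⟩ := Ideal.Quotient.mk_surjective x
      obtain ⟨g, rfl⟩ := Ideal.Quotient.mk_surjective y
      exact IsLocalization.injective L hLle (by rw [← hχψ, ← hχψ]; exact congrArg χ h)
    have hχinj : Function.Injective χ := by
      let ω : L →+* T := IsLocalization.lift (M := Submonoid.powers b)
        (g := (algebraMap (Polynomial D) T).comp ψ.toRingHom) (by
          rintro ⟨_, k, rfl⟩
          simp only [map_pow]
          refine IsUnit.pow k ?_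
          show IsUnit (algebraMap (Polynomial D) T (ψ₀ (X (bot' n m))))
          rw [hψT, show r₀ (Ideal.Quotient.mk _ (X (bot' n m))) = 1 from hr₀b, map_one, map_one, mul_one]
          exact IsLocalization.Away.algebraMap_isUnit _)
      have hωR : ∀ y : R, ω (algebraMap R L y) = algebraMap (Polynomial D) T (ψ y) := fun y => IsLocalization.lift_eq _ _
      have hωb : ω (algebraMap R L b) = algebraMap (Polynomial D) T Polynomial.X := by
        rw [hωR]
        show algebraMap (Polynomial D) T (ψ₀ (X (bot' n m))) = _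
        rw [hψT, show r₀ (Ideal.Quotient.mk _ (X (bot' n m))) = 1 from hr₀b, map_one, map_one, mul_one]
      have hωχ : ω.comp χ = algebraMap (Polynomial D) T := by
        refine Polynomial.ringHom_ext' (Ideal.Quotient.ringHom_ext (MvPolynomial.ringHom_ext (fun a => ?_) fun p => ?_)) ?_
        · show ω (χ (Polynomial.C (algebraMap K D a))) = algebraMap (Polynomial D) T (Polynomial.C (algebraMap K D a))
          rw [Polynomial.coe_eval₂RingHom, Polynomial.eval₂_C]
          show ω (σ (algebraMap K D a)) = _
          rw [AlgHom.commutes, IsScalarTower.algebraMap_apply K R L, hωR, AlgHom.commutes]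
          rfl
        · obtain ⟨a, c⟩ := p
          show ω (χ (Polynomial.C (Ideal.Quotient.mk _ (X (a, c))))) = algebraMap (Polynomial D) T (Polynomial.C (Ideal.Quotient.mk _ (X (a, c))))
          rw [Polynomial.coe_eval₂RingHom, Polynomial.eval₂_C]
          show ω (σ _) = _
          rw [hσX, map_mul]
          refine (IsLocalization.Away.algebraMap_isUnit (S := T) (Polynomial.X : Polynomial D)).mul_left_cancel ?_
          rw [← hωb, mul_left_comm, ← map_mul ω (algebraMap R L b), ← hu, Units.mul_inv, map_one, mul_one]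
          show ω (algebraMap R L _) = _
          rw [hωR, hu, hωb, ← map_mul, ← hr₀N a c]
          refine congrArg _ ?_
          show ψ₀ (nearBot K _ c) = Polynomial.X * Polynomial.C (r₀ (Ideal.Quotient.mk _ (nearBot K _ c)))
          unfold nearBot coord
          split_ifs with h
          · rw [map_mul ψ₀, map_mul (Ideal.Quotient.mk _), map_mul r₀, map_mul Polynomial.C, show ψ₀ (X _) = _ from MvPolynomial.aeval_X _ _]
            simp only [map_pow, map_neg, map_one]
            ring
          · simp
        · show ω (χ Polynomial.X) = _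
          rw [Polynomial.coe_eval₂RingHom, Polynomial.eval₂_X, hωb]
      intro x y h
      exact IsLocalization.injective T (powers_le_nonZeroDivisors_of_noZeroDivisors hXT) (by
        rw [← hωχ, RingHom.comp_apply, RingHom.comp_apply, h])
    have h1 : sR ≤ sD + 1 := by
      have := trdeg_le_of_injective ψ hψinj
      rw [htrR, hpoly] at this
      exact_mod_cast this
    have h2 : sD + 1 ≤ sR := by
      have hL : Algebra.trdeg K L = Algebra.trdeg K R := by
        refine le_antisymm ?_ (trdeg_le_of_injective (IsScalarTower.toAlgHom K _ _) (IsLocalization.injective L hLle))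
        have : Algebra.IsAlgebraic R L := IsLocalization.isAlgebraic _ (Submonoid.powers b)
        rw [← trdeg_add_eq K R, trdeg_eq_zero (R := R), add_zero]
      let χa : Polynomial D →ₐ[K] L := AlgHom.mk χ (fun a => by
        show χ (algebraMap K (Polynomial D) a) = _
        rw [IsScalarTower.algebraMap_apply K D (Polynomial D), Polynomial.algebraMap_eq, Polynomial.coe_eval₂RingHom,
          Polynomial.eval₂_C]
        exact σ.commutes a)
      have := trdeg_le_of_injective χa hχinj
      rw [hpoly, hL, htrR] at this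
      exact_mod_cast this
    rw [hdimR, codeg_detIdx] at hsR
    rw [hsD]
    have : s * (m + n - s) + 1 = sR := by exact_mod_cast hsR
    exact_mod_cast (show sD = s * (m + n - s) by omega)

end SMTLib
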