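import Groth.Agent.SMTLib.Basis

/-!
# Intersections with opposite Schubert conditions; the least coordinate is prime
-/

universe u

namespace SMTLib

open MvPolynomial W4bk4grassmannian

variable {K : Type u} [Field K] {d n : ℕ}

variable (K) in
/-- The generic matrix with rows between `κ` and `τ` in each column. -/
noncomputable def intGen (κ τ : Idx d n) : Matrix (Fin n) (Fin d) (MvPolynomial (Ent d n) K) :=
  Matrix.of fun i t => if κ.1 t ≤ i ∧ i ≤ τ.1 t then X (ent i t) else 0

variable (K) in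
/-- The comorphism to the intersection. -/
noncomputable def intMap (κ τ : Idx d n) : PlRing K d n →ₐ[K] MvPolynomial (Ent d n) K :=
  evalAt (intGen K κ τ)

lemma intMap_X (κ τ θ : Idx d n) : intMap K κ τ (X θ) =
    ∑ σ : Equiv.Perm (Fin d), (Equiv.Perm.sign σ : ℤ) •
      (if ∀ t, κ.1 t ≤ θ.1 (σ t) ∧ θ.1 (σ t) ≤ τ.1 t then monomial (expOf θ σ) (1 : K) else 0) := by
  rw [intMap, evalAt_X, Matrix.det_apply]
  refine Finset.sum_congr rfl fun σ _ => ?_
  rw [Units.smul_def]
  congr 1
  simp only [Matrix.submatrix_apply, id_eq, intGen, Matrix.of_apply]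
  split_ifs with h
  · rw [expOf, monomial_sum_one]
    exact Finset.prod_congr rfl fun t _ => by rw [if_pos (h t)]; rfl
  · obtain ⟨t, ht⟩ := not_forall.1 h
    exact Finset.prod_eq_zero (Finset.mem_univ t) (if_neg ht)

lemma intMap_X_eq_zero (κ τ θ : Idx d n) (h : ¬(κ ≤ θ ∧ θ ≤ τ)) : intMap K κ τ (X θ) = 0 := by
  rw [intMap_X]
  refine Finset.sum_eq_zero fun σ _ => ?_
  rw [if_neg, smul_zero]
  intro hall
  rcases not_and_or.1 h with h | h
  · obtain ⟨s, hs⟩ : ∃ s, θ.1 s < κ.1 s := by
      by_contra! h'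
      exact h h'
    obtain ⟨t, ht, hts⟩ : ∃ t, s ≤ t ∧ σ t ≤ s := by
      by_contra! h'
      have := Finset.card_le_card_of_injOn σ (s := Finset.Ici s) (t := Finset.Ioi s)
        (fun t ht => Finset.mem_Ioi.2 (h' t (Finset.mem_Ici.1 ht))) σ.injective.injOn
      simp at this
      omega
    exact absurd ((κ.2.monotone ht).trans (hall t).1) (not_le.2 (lt_of_le_of_lt (θ.2.monotone hts) hs))
  · obtain ⟨s, hs⟩ : ∃ s, τ.1 s < θ.1 s := by
      by_contra! h'
      exact h h'
    obtain ⟨t, ht, hts⟩ : ∃ t, t ≤ s ∧ s ≤ σ t := by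
      by_contra! h'
      have := Finset.card_le_card_of_injOn σ (s := Finset.Iic s) (t := Finset.Iio s)
        (fun t ht => Finset.mem_Iio.2 (h' t (Finset.mem_Iic.1 ht))) σ.injective.injOn
      simp at this
    exact absurd ((hall t).2.trans (τ.2.monotone ht)) (not_le.2 (lt_of_lt_of_le hs (θ.2.monotone hts)))

lemma degree_intMap_X (κ τ θ : Idx d n) (h : κ ≤ θ ∧ θ ≤ τ) :
    MonomialOrder.lex.Monic (intMap K κ τ (X θ)) ∧ MonomialOrder.lex.degree (intMap K κ τ (X θ)) = expOf θ 1 := by
  classical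
  have hcoeff : coeff (expOf θ 1) (intMap K κ τ (X θ)) = 1 := by
    rw [intMap_X, coeff_sum, Finset.sum_eq_single 1]
    · rw [if_pos fun t => by simpa using And.intro (h.1 t) (h.2 t)]
      simp
    · intro σ _ hσ
      split_ifs
      · rw [coeff_smul, coeff_monomial, if_neg fun e => (expOf_lt θ hσ).ne (congrArg toLex e), smul_zero]
      · simp
    · simp
  have hle : ∀ e ∈ (intMap K κ τ (X θ)).support,
      MonomialOrder.lex.toSyn e ≤ MonomialOrder.lex.toSyn (expOf θ 1) := by
    intro e he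
    rw [intMap_X] at he
    obtain ⟨σ, -, hσ⟩ := Finset.mem_biUnion.1 (support_sum he)
    split_ifs at hσ
    · have := support_smul hσ
      rw [support_monomial, if_neg (one_ne_zero (α := K)), Finset.mem_singleton] at this
      subst this
      rcases eq_or_ne σ 1 with rfl | hne
      · exact le_rfl
      · exact (expOf_lt θ hne).le
    · simp at hσ
  have hdeg : MonomialOrder.lex.degree (intMap K κ τ (X θ)) = expOf θ 1 := by
    apply MonomialOrder.lex.toSyn.injective
    refine le_antisymm (MonomialOrder.degree_le_iff.2 hle) (MonomialOrder.lex.le_degree ?_)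
    rw [mem_support_iff, hcoeff]
    exact one_ne_zero
  exact ⟨by rw [MonomialOrder.Monic, MonomialOrder.leadingCoeff, hdeg, hcoeff], hdeg⟩

lemma linearIndependent_intMap (hd : 0 < d) (κ τ : Idx d n) :
    LinearIndependent K (fun c : (Σ m : ℕ, {c : Fin m → Idx d n // Antitone c ∧ ∀ k, κ ≤ c k ∧ c k ≤ τ}) =>
      intMap K κ τ (chainMon K c.2.1)) := by
  have key : ∀ (m : ℕ) (c : Fin m → Idx d n), (∀ k, κ ≤ c k ∧ c k ≤ τ) →
      MonomialOrder.lex.Monic (intMap K κ τ (chainMon K c)) ∧
        MonomialOrder.lex.degree (intMap K κ τ (chainMon K c)) = expChain c := by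
    intro m c h
    rw [chainMon, map_prod]
    refine ⟨MonomialOrder.Monic.prod fun k _ => (degree_intMap_X κ τ _ (h k)).1, ?_⟩
    rw [MonomialOrder.degree_prod_of_regular fun k _ => by
      rw [(degree_intMap_X κ τ _ (h k)).1.leadingCoeff_eq_one]; exact isRegular_one]
    exact Finset.sum_congr rfl fun k _ => (degree_intMap_X κ τ _ (h k)).2
  refine linearIndependent_of_degree MonomialOrder.lex _ (fun c => (key _ c.2.1 c.2.2.2).1) ?_
  rintro ⟨m, c, hc, hcτ⟩ ⟨m', c', hc', hcτ'⟩ h
  simp only [(key m c hcτ).2, (key m' c' hcτ').2] at h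
  obtain ⟨rfl, h2⟩ := Sigma.mk.inj_iff.1 (expChain_injective hd c c' hc hc' h)
  cases eq_of_heq h2
  rfl

/-- The kernel of the interval map is generated by the relations and the outside coordinates. -/
theorem ker_intMap (hd : 0 < d) (κ τ : Idx d n) :
    RingHom.ker (intMap K κ τ).toRingHom =
      plIdeal K τ ⊔ Ideal.span {f | ∃ φ : Idx d n, ¬ κ ≤ φ ∧ f = X φ} := by
  refine le_antisymm (fun f hf => ?_) (sup_le ?_ ?_)
  · set I := plIdeal K τ ⊔ Ideal.span {f | ∃ φ : Idx d n, ¬ κ ≤ φ ∧ f = X φ}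
    have hI : I ≤ RingHom.ker (intMap K κ τ).toRingHom := by
      refine sup_le ?_ ?_
      · rw [plIdeal, Ideal.span_le]
        rintro g (⟨i, j, r, -, rfl⟩ | ⟨φ, hφ, rfl⟩)
        · exact RingHom.mem_ker.2 (evalAt_shuffleRel_eq_zero _ i j r)
        · exact RingHom.mem_ker.2 (intMap_X_eq_zero κ τ φ fun h => hφ h.2)
      · rw [Ideal.span_le]
        rintro g ⟨φ, hφ, rfl⟩
        exact RingHom.mem_ker.2 (intMap_X_eq_zero κ τ φ fun h => hφ h.1)
    have h := stdSpan_sup_eq_top (K := K) (fun φ => κ ≤ φ ∧ φ ≤ τ) I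
      (fun i j r hp => Ideal.mem_sup_left (Ideal.subset_span (Or.inl ⟨i, j, r, hp, rfl⟩)))
      (fun φ hφ => by
        by_cases h1 : κ ≤ φ
        · exact Ideal.mem_sup_left (Ideal.subset_span (Or.inr ⟨φ, fun h2 => hφ ⟨h1, h2⟩, rfl⟩))
        · exact Ideal.mem_sup_right (Ideal.subset_span ⟨φ, h1, rfl⟩))
    obtain ⟨s, hs, p, hp, rfl⟩ := Submodule.mem_sup.1 (h ▸ Submodule.mem_top (x := f))
    have hs' : s ∈ Submodule.span K (Set.range fun c :
        (Σ m : ℕ, {c : Fin m → Idx d n // Antitone c ∧ ∀ k, κ ≤ c k ∧ c k ≤ τ}) => chainMon K c.2.1) := by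
      refine Submodule.span_mono ?_ hs
      rintro g ⟨m, c, hc, hcτ, rfl⟩
      exact ⟨⟨m, c, hc, hcτ⟩, rfl⟩
    have hs0 : intMap K κ τ s = 0 := by
      have h1 : intMap K κ τ (s + p) = 0 := hf
      have h2 : intMap K κ τ p = 0 := hI hp
      rwa [map_add, h2, add_zero] at h1
    rw [Finsupp.mem_span_range_iff_exists_finsupp] at hs'
    obtain ⟨a, rfl⟩ := hs'
    have ha : a = 0 := by
      refine linearIndependent_iff.1 (linearIndependent_intMap (K := K) hd κ τ) a ?_
      rw [← hs0, Finsupp.linearCombination_apply, map_finsuppSum]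
      simp
    rw [ha, Finsupp.sum_zero_index, zero_add]
    exact hp
  · rw [plIdeal, Ideal.span_le]
    rintro g (⟨i, j, r, -, rfl⟩ | ⟨φ, hφ, rfl⟩)
    · exact RingHom.mem_ker.2 (evalAt_shuffleRel_eq_zero _ i j r)
    · exact RingHom.mem_ker.2 (intMap_X_eq_zero κ τ φ fun h => hφ h.2)
  · rw [Ideal.span_le]
    rintro g ⟨φ, hφ, rfl⟩
    exact RingHom.mem_ker.2 (intMap_X_eq_zero κ τ φ fun h => hφ h.1)

theorem prime_bottom [Infinite K] (hd : 0 < d) (hdn : d < n) (w : Idx d n) :
    Prime (Ideal.Quotient.mk (schubertVanishing K d n w)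
      (X (⟨fun t => ⟨t.val, lt_trans t.isLt hdn⟩, fun _ _ h => h⟩ : Idx d n))) := by
  set ι : Idx d n := ⟨fun t => ⟨t.val, lt_trans t.isLt hdn⟩, fun _ _ h => h⟩
  let f : Fin d → Fin n := fun t => if t.val + 1 = d then ⟨d, hdn⟩ else ⟨t.val, lt_trans t.isLt hdn⟩
  have hf : StrictMono f := fun a b h => by
    have := Fin.lt_def.1 h
    have := b.isLt
    simp only [f]
    split_ifs <;> rw [Fin.lt_def] <;> simp only <;> omega
  let κ : Idx d n := ⟨f, hf⟩
  have hκ : ∀ φ : Idx d n, ¬ κ ≤ φ ↔ φ = ι := by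
    intro φ
    constructor
    · intro h
      obtain ⟨t, ht⟩ : ∃ t, φ.1 t < κ.1 t := by
        by_contra! h'
        exact h h'
      have hge := fin_val_le φ.1 φ.2
      have htd : t.val + 1 = d := by
        by_contra hne
        have := Fin.lt_def.1 ht
        simp only [κ, f, if_neg hne] at this
        have := hge t
        omega
      have h1 : (φ.1 t).val < d := by
        have := Fin.lt_def.1 ht
        simpa only [κ, f, if_pos htd] using this
      refine Subtype.ext (funext fun s => Fin.ext ?_)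
      show (φ.1 s).val = s.val
      have h2 : ∀ j (hj : s.val + j < d), (φ.1 s).val + j ≤ (φ.1 ⟨s.val + j, hj⟩).val := by
        intro j
        induction j with
        | zero => intro _; simp
        | succ j ih =>
          intro hj
          have := ih (by omega)
          have := Fin.lt_def.1 (φ.2 (show (⟨s.val + j, by omega⟩ : Fin d) < ⟨s.val + (j + 1), hj⟩ from
            Fin.lt_def.2 (by simp only; omega)))
          omega
      have h3 := h2 (t.val - s.val) (by have := s.isLt; omega)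
      have h4 : (⟨s.val + (t.val - s.val), by have := s.isLt; omega⟩ : Fin d) = t :=
        Fin.ext (by simp only; have := s.isLt; omega)
      rw [h4] at h3
      have := hge s
      have := s.isLt
      omega
    · rintro rfl h
      have := Fin.le_def.1 (h ⟨d - 1, by omega⟩)
      simp only [κ, f, ι, show d - 1 + 1 = d by omega, if_true] at this
      omega
  have hker : schubertVanishing K d n w ⊔ Ideal.span {X ι} = RingHom.ker (intMap K κ w).toRingHom := by
    rw [ker_intMap hd κ w, plIdeal_eq hd w]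
    congr 2
    ext g
    simp only [Set.mem_singleton_iff, Set.mem_setOf_eq, hκ]
    exact ⟨fun h => ⟨ι, rfl, h⟩, fun ⟨φ, hφ, h⟩ => hφ ▸ h⟩
  have hne : Ideal.Quotient.mk (schubertVanishing K d n w) (X ι) ≠ 0 := by
    rw [Ne, Ideal.Quotient.eq_zero_iff_mem, schubertVanishing_eq_ker hd w, RingHom.mem_ker]
    exact (degree_cellMap_X w ι fun t => Fin.le_def.2 (fin_val_le w.1 w.2 t)).1.ne_zero
  rw [← Ideal.span_singleton_prime hne]
  have hp : (RingHom.ker (intMap K κ w).toRingHom).IsPrime := RingHom.ker_isPrime _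
  have : Ideal.span {Ideal.Quotient.mk (schubertVanishing K d n w) (X ι)} =
      (RingHom.ker (intMap K κ w).toRingHom).map (Ideal.Quotient.mk (schubertVanishing K d n w)) := by
    rw [← hker, Ideal.map_sup, Ideal.map_quotient_self, bot_sup_eq, Ideal.map_span, Set.image_singleton]
  rw [this]
  refine Ideal.map_isPrime_of_surjective Ideal.Quotient.mk_surjective ?_
  rw [Ideal.mk_ker, ← hker]
  exact le_sup_left

end SMTLib
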