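import Groth.Agent.SMTLib.Plucker
import Mathlib.LinearAlgebra.Matrix.SpecialLinearGroup

/-!
# Semistable matrices
-/

universe u

namespace SMTLib

open MvPolynomial W4bk4grassmannian

theorem semistable_iff {K : Type u} [Field K] [Infinite K] {d n : ℕ} (hd : 0 < d)
    (A : Matrix (Fin n) (Fin d) K) :
    LinearIndependent K A.transpose ↔
      ∃ f : MatRing K d n, (∀ g : Matrix.SpecialLinearGroup (Fin d) K,
        MvPolynomial.eval (fun p : Fin n × Fin d => (A * (g : Matrix (Fin d) (Fin d) K)) p.1 p.2) f = 0) ∧
        MvPolynomial.eval (fun _ : Fin n × Fin d => (0 : K)) f ≠ 0 := by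
  classical
  constructor
  · intro h
    obtain ⟨θ, hθ⟩ := exists_det_ne_zero A h
    have hev : ∀ (M : Matrix (Fin n) (Fin d) K),
        MvPolynomial.eval (fun p : Fin n × Fin d => M p.1 p.2) (minor K d n θ.1) = (M.submatrix θ.1 id).det := by
      intro M
      rw [minor, RingHom.map_det]
      congr 1
      ext s t
      simp
    refine ⟨minor K d n θ.1 - C (A.submatrix θ.1 id).det, fun g => ?_, ?_⟩
    · rw [map_sub, hev, eval_C]
      have hs := Matrix.submatrix_mul A (g : Matrix (Fin d) (Fin d) K) θ.1 id id Function.bijective_id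
      rw [Matrix.submatrix_id_id] at hs
      rw [hs, Matrix.det_mul, g.2, mul_one, sub_self]
    · rw [map_sub, eval_C, show (fun _ : Fin n × Fin d => (0 : K)) =
        (fun p : Fin n × Fin d => (0 : Matrix (Fin n) (Fin d) K) p.1 p.2) from rfl, hev, Matrix.submatrix_zero]
      haveI : Nonempty (Fin d) := ⟨⟨0, hd⟩⟩
      simp only [Pi.zero_apply]
      rw [Matrix.det_zero, zero_sub, neg_ne_zero]
      exact hθ
  · rintro ⟨f, hf, hf0⟩
    by_contra hdep
    rw [Fintype.linearIndependent_iff] at hdep
    push Not at hdep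
    obtain ⟨v, hv, j₀, hj₀⟩ := hdep
    let w : Fin d → K := fun k => v k * (v j₀)⁻¹
    have hw : ∀ i, ∑ k, A i k * w k = 0 := fun i => by
      have := congrFun hv i
      simp only [Finset.sum_apply, Pi.smul_apply, Matrix.transpose_apply, smul_eq_mul, Pi.zero_apply] at this
      rw [← mul_zero (v j₀)⁻¹, ← this, Finset.mul_sum]
      exact Finset.sum_congr rfl fun k _ => by simp only [w]; ring
    let P : Matrix (Fin d) (Fin d) K := Matrix.updateCol 1 j₀ w
    have hP : P.det = 1 := by
      have hwv : w = (1 : Matrix (Fin d) (Fin d) K).mulVec w := (Matrix.one_mulVec w).symm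
      rw [show P = Matrix.updateCol 1 j₀ w from rfl, ← Matrix.cramer_apply, Matrix.cramer_one]
      show w j₀ = 1
      exact mul_inv_cancel₀ hj₀
    have hAP : ∀ i, (A * P) i j₀ = 0 := fun i => by
      rw [Matrix.mul_apply, ← hw i]
      exact Finset.sum_congr rfl fun k _ => by simp [P]
    let q : Polynomial K := MvPolynomial.aeval (fun p : Fin n × Fin d => Polynomial.C ((A * P) p.1 p.2) * Polynomial.X) f
    have hq : ∀ t : K, q.eval t = MvPolynomial.eval (fun p : Fin n × Fin d => (A * P) p.1 p.2 * t) f := fun t => by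
      simp only [q]
      rw [← Polynomial.coe_aeval_eq_eval, ← AlgHom.comp_apply, MvPolynomial.comp_aeval, ← MvPolynomial.aeval_eq_eval]
      congr 2
      funext p
      simp
    have hq0 : Polynomial.X * q = 0 := by
      refine Polynomial.funext fun t => ?_
      rw [Polynomial.eval_mul, Polynomial.eval_X, Polynomial.eval_zero]
      by_cases ht : t = 0
      · rw [ht, zero_mul]
      refine mul_eq_zero_of_right _ ?_
      rw [hq]
      let D : Matrix (Fin d) (Fin d) K := Matrix.diagonal fun k => if k = j₀ then (t ^ (d - 1))⁻¹ else t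
      have hD : D.det = 1 := by
        rw [Matrix.det_diagonal, ← Finset.mul_prod_erase _ _ (Finset.mem_univ j₀), if_pos rfl,
          Finset.prod_congr rfl (g := fun _ => t) (fun k hk => if_neg (Finset.ne_of_mem_erase hk)), Finset.prod_const,
          Finset.card_erase_of_mem (Finset.mem_univ j₀), Finset.card_univ, Fintype.card_fin]
        exact inv_mul_cancel₀ (pow_ne_zero _ ht)
      have hdet : (P * D).det = 1 := by rw [Matrix.det_mul, hP, hD, one_mul]
      rw [← hf ⟨P * D, hdet⟩]
      refine congrArg (fun z => MvPolynomial.eval z f) (funext fun p => ?_)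
      show _ = (A * (P * D)) p.1 p.2
      rw [← Matrix.mul_assoc, Matrix.mul_diagonal]
      by_cases h : p.2 = j₀
      · rw [h, hAP, zero_mul, zero_mul]
      · rw [if_neg h]
    refine hf0 ?_
    have := hq 0
    rw [(mul_eq_zero.1 hq0).resolve_left Polynomial.X_ne_zero, Polynomial.eval_zero] at this
    simp only [mul_zero] at this
    exact this.symm

end SMTLib
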