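import Groth.Agent.SMTLib.GradedDim
import Groth.Agent.SMTLib.GradedFree
import Groth.Agent.SMTLib.CMQuot

/-!
# Graded local-global principle for Cohen–Macaulay quotients of polynomial rings
-/

universe u

namespace SMTLib

open MvPolynomial RingTheory.Sequence

attribute [local instance] MvPolynomial.gradedAlgebra

variable {K : Type u} [Field K] {σ : Type} [Fintype σ]

local notation "S" => MvPolynomial σ K
local notation "𝔪" => RingHom.ker (MvPolynomial.constantCoeff : MvPolynomial σ K →+* K)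

lemma minimalPrime_isHomogeneous {A : Type*} [CommRing A] {τ : Type*} [SetLike τ A] [AddSubgroupClass τ A]
    (𝒜 : ℕ → τ) [GradedRing 𝒜] {I P : Ideal A} (hI : I.IsHomogeneous 𝒜) (hP : P ∈ I.minimalPrimes) :
    P.IsHomogeneous 𝒜 := by
  have h1 : I ≤ (P.homogeneousCore 𝒜).toIdeal := by
    rw [← hI.toIdeal_homogeneousCore_eq_self]
    exact Ideal.homogeneousCore_mono 𝒜 hP.1.2
  have h2 := P.toIdeal_homogeneousCore_le 𝒜
  rw [le_antisymm (hP.2 ⟨hP.1.1.homogeneousCore, h1⟩ h2) h2]
  exact HomogeneousIdeal.isHomogeneous _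

lemma ker_constantCoeff_isMaximal : (𝔪).IsMaximal :=
  RingHom.ker_isMaximal_of_surjective _ fun c => ⟨C c, constantCoeff_C _ c⟩

lemma X_mem_ker (s : σ) : (X s : S) ∈ 𝔪 := constantCoeff_X _ s

lemma ker_le_of_X_mem {P : Ideal S} (h : ∀ s, X s ∈ P) : 𝔪 ≤ P := by
  intro f hf
  have h1 : f ∈ idealOfVars σ K ^ 1 := (mem_pow_idealOfVars_iff' _ _).2 fun x hx => by
    have : x = 0 := by rw [← Finsupp.degree_eq_zero_iff]; omega
    subst this
    exact hf
  rw [pow_one] at h1
  exact Ideal.span_le.2 (by rintro _ ⟨s, rfl⟩; exact h s) h1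

lemma le_ker_of_homogeneous {I : Ideal S} (hI : I.IsHomogeneous (homogeneousSubmodule σ K)) (hI' : I ≠ ⊤) :
    I ≤ 𝔪 := by
  intro f hf
  have h := homogeneousComponent_mem_of_mem hI hf 0
  rw [homogeneousComponent_zero] at h
  by_contra hne
  exact hI' (Ideal.eq_top_of_isUnit_mem I h ((isUnit_iff_ne_zero.2 hne).map C))

/-- Linear forms cutting a homogeneous ideal down to the vertex, at most as many as the dimension. -/
theorem exists_linear_parameters [Infinite K] : ∀ (d : ℕ) (J : Ideal S),
    J.IsHomogeneous (homogeneousSubmodule σ K) → J ≤ 𝔪 → ringKrullDim (S ⧸ J) ≤ (d : WithBot ℕ∞) →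
    ∃ θ : List S, θ.length ≤ d ∧ (∀ t ∈ θ, t.IsHomogeneous 1) ∧ ∀ s, X s ∈ (J ⊔ Ideal.ofList θ).radical := by
  intro d
  induction d with
  | zero =>
    intro J hJ hJm hdim
    refine ⟨[], le_rfl, by simp, fun s => ?_⟩
    rw [Ideal.ofList_nil, sup_bot_eq, Ideal.radical_eq_sInf, Ideal.mem_sInf]
    rintro P ⟨hP, hPp⟩
    obtain ⟨Q, hQ, hQP⟩ := Ideal.exists_minimalPrimes_le (show J ≤ P from hP)
    have hQh := minimalPrime_isHomogeneous _ hJ hQ
    have hQm := le_ker_of_homogeneous hQh hQ.1.1.ne_top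
    suffices Q = 𝔪 from hQP (this ▸ X_mem_ker s)
    by_contra hne
    haveI := hQ.1.1
    have hlt : (⟨⟨Q, hQ.1.1⟩, hQ.1.2⟩ : PrimeSpectrum.zeroLocus (J : Set S)) <
        ⟨⟨𝔪, ker_constantCoeff_isMaximal.isPrime⟩, hJm⟩ :=
      lt_of_le_of_ne hQm (fun h => hne (congrArg (fun q => q.1.asIdeal) h))
    rw [ringKrullDim_quotient] at hdim
    let l : LTSeries (PrimeSpectrum.zeroLocus (J : Set S)) :=
      (RelSeries.singleton _ (⟨⟨Q, hQ.1.1⟩, hQ.1.2⟩ : PrimeSpectrum.zeroLocus (J : Set S))).snoc _ hlt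
    have := (Order.LTSeries.length_le_krullDim l).trans hdim
    have hl : l.length = 1 := rfl
    rw [hl] at this
    norm_cast at this
  | succ d ih =>
    intro J hJ hJm hdim
    by_cases hrad : ∀ s, X s ∈ J.radical
    · exact ⟨[], Nat.zero_le _, by simp, fun s => by rw [Ideal.ofList_nil, sup_bot_eq]; exact hrad s⟩
    haveI : Finite J.minimalPrimes := (J.finite_minimalPrimes_of_isNoetherianRing (MvPolynomial σ K)).to_subtype
    let L := homogeneousSubmodule σ K 1
    let p : J.minimalPrimes → Submodule K L := fun P => (P.1.restrictScalars K).comap L.subtype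
    obtain ⟨⟨ℓ, hℓ⟩, hℓP⟩ := Submodule.exists_forall_notMem_of_forall_ne_top p fun P h => by
      have hX : ∀ s, X s ∈ P.1 := fun s =>
        (Submodule.eq_top_iff'.1 h) ⟨X s, (mem_homogeneousSubmodule 1 _).2 (isHomogeneous_X K s)⟩
      refine hrad fun s => ?_
      rw [Ideal.radical_eq_sInf, Ideal.mem_sInf]
      rintro P' ⟨hP', hP'p⟩
      obtain ⟨Q, hQ, hQP⟩ := Ideal.exists_minimalPrimes_le (show J ≤ P' from hP')
      have hQm : Q ≤ P.1 :=
        (le_ker_of_homogeneous (minimalPrime_isHomogeneous _ hJ hQ) hQ.1.1.ne_top).trans (ker_le_of_X_mem hX)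
      exact hQP (P.2.2 hQ.1 hQm (hX s))
    rw [mem_homogeneousSubmodule] at hℓ
    set J' := J ⊔ Ideal.span {ℓ} with hJ'
    have hJ'h : J'.IsHomogeneous (homogeneousSubmodule σ K) :=
      hJ.sup (Ideal.homogeneous_span _ _ fun x hx => ⟨1, by rw [Set.mem_singleton_iff.1 hx]; exact hℓ⟩)
    have hℓm : ℓ ∈ 𝔪 := by
      rw [RingHom.mem_ker, constantCoeff_eq]
      exact hℓ.coeff_eq_zero (by simp)
    have hJ'm : J' ≤ 𝔪 := sup_le hJm ((Ideal.span_singleton_le_iff_mem _).2 hℓm)
    have hdim' : ringKrullDim (S ⧸ J') ≤ (d : WithBot ℕ∞) := by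
      rw [ringKrullDim_quotient, Order.krullDim]
      refine iSup_le fun l => ?_
      obtain ⟨Q, hQ, hQl⟩ := Ideal.exists_minimalPrimes_le
        (show J ≤ (l.head : PrimeSpectrum S).asIdeal from fun x hx => l.head.2 (Ideal.mem_sup_left hx))
      let l' : LTSeries (PrimeSpectrum.zeroLocus (J : Set S)) :=
        ⟨l.length, fun i => ⟨(l i).1, fun x hx => (l i).2 (Ideal.mem_sup_left hx)⟩, fun i => l.step i⟩
      have hlt : (⟨⟨Q, hQ.1.1⟩, hQ.1.2⟩ : PrimeSpectrum.zeroLocus (J : Set S)) < l'.head :=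
        lt_of_le_of_ne hQl fun h => hℓP ⟨Q, hQ⟩
          (show ℓ ∈ Q by
            have h1 : Q = (l.head : PrimeSpectrum S).asIdeal := congrArg (fun q => q.1.asIdeal) h
            exact h1 ▸ l.head.2 (Ideal.mem_sup_right (Ideal.mem_span_singleton_self ℓ)))
      rw [ringKrullDim_quotient] at hdim
      have h := (Order.LTSeries.length_le_krullDim (l'.cons _ hlt)).trans hdim
      have h1 : (l'.cons _ hlt).length = l.length + 1 := RelSeries.cons_length _ _ _
      rw [h1] at h
      norm_cast at h ⊢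
      omega
    obtain ⟨θ, hlen, hhom, hX⟩ := ih J' hJ'h hJ'm hdim'
    refine ⟨ℓ :: θ, by simpa using hlen, ?_, fun s => ?_⟩
    · intro t ht
      rcases List.mem_cons.1 ht with rfl | h
      · exact hℓ
      · exact hhom t h
    · rw [Ideal.ofList_cons, ← sup_assoc]; exact hX s

/-- An element multiplied into a homogeneous ideal by something with non-zero constant term lies in it. -/
lemma mem_of_mul_mem_of_notMem {L : Ideal S} (hL : L.IsHomogeneous (homogeneousSubmodule σ K)) {u x : S}
    (hu : u ∉ 𝔪) (hx : u * x ∈ L) : x ∈ L := by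
  have key : ∀ (j : ℕ) (q : S), homogeneousComponent j (q * x) ∈ L := by
    intro j
    induction j with
    | zero =>
      intro q
      have h := homogeneousComponent_mem_of_mem hL hx 0
      rw [homogeneousComponent_zero, ← constantCoeff_eq, map_mul, map_mul C] at h ⊢
      have hunit : IsUnit (C (constantCoeff u) : S) := (isUnit_iff_ne_zero.2 hu).map C
      have : (C (constantCoeff x) : S) ∈ L := (Ideal.unit_mul_mem_iff_mem L hunit).1 h
      exact L.mul_mem_left _ this
    | succ j ih =>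
      intro q
      have h := homogeneousComponent_mem_of_mem hL (L.mul_mem_left q hx) (j + 1)
      have hu' : u - C (constantCoeff u) ∈ 𝔪 := by simp [RingHom.mem_ker]
      have hv : ∀ v ∈ Ideal.span (Set.range (X : σ → S)), ∀ q : S, homogeneousComponent (j + 1) (v * (q * x)) ∈ L := by
        intro v hv
        induction hv using Submodule.span_induction with
        | mem v hv =>
          obtain ⟨s, rfl⟩ := hv
          intro q
          rw [homogeneousComponent_linear_mul (isHomogeneous_X K s)]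
          exact L.mul_mem_left _ (ih q)
        | zero => intro q; rw [zero_mul, map_zero]; exact L.zero_mem
        | add a b _ _ ha hb => intro q; rw [add_mul, map_add]; exact L.add_mem (ha q) (hb q)
        | smul r a _ ha =>
          intro q
          rw [smul_eq_mul, show r * a * (q * x) = a * ((r * q) * x) by ring]
          exact ha (r * q)
      have h2 := hv _ (ker_le_of_X_mem (P := Ideal.span (Set.range (X : σ → S))) (fun s => Ideal.subset_span ⟨s, rfl⟩) hu') q
      have h3 : homogeneousComponent (j + 1) (C (constantCoeff u) * (q * x)) ∈ L := by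
        have e : C (constantCoeff u) * (q * x) = q * (u * x) - (u - C (constantCoeff u)) * (q * x) := by ring
        rw [e, map_sub]
        exact L.sub_mem h h2
      rw [homogeneousComponent_C_mul] at h3
      exact (Ideal.unit_mul_mem_iff_mem L ((isUnit_iff_ne_zero.2 hu).map C)).1 h3
  rw [mem_iff_homogeneousComponent_mem hL]
  intro n
  simpa using key n 1

omit [Fintype σ] in
lemma ringKrullDim_quotient_nonpos {B : Type*} [CommRing B] [IsLocalRing B] (J : Ideal B)
    (h : ∀ P : PrimeSpectrum B, J ≤ P.asIdeal → P.asIdeal = IsLocalRing.maximalIdeal B) :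
    ringKrullDim (B ⧸ J) ≤ 0 := by
  rw [ringKrullDim_quotient]
  have : Subsingleton (PrimeSpectrum.zeroLocus (J : Set B)) :=
    ⟨fun P Q => Subtype.ext (PrimeSpectrum.ext (by rw [h P.1 P.2, h Q.1 Q.2]))⟩
  exact Order.krullDim_nonpos_of_subsingleton

/-- Cohen–Macaulay at the vertex implies Cohen–Macaulay. -/
theorem isCohenMacaulayRing_of_vertex [Infinite K] (I : Ideal S)
    (hI : I.IsHomogeneous (homogeneousSubmodule σ K)) (hI' : I ≠ ⊤)
    [hm : ((𝔪).map (Ideal.Quotient.mk I)).IsPrime]
    (hcm : LocCoh.IsCohenMacaulayLocalRing (Localization.AtPrime ((𝔪).map (Ideal.Quotient.mk I)))) :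
    LocCoh.IsCohenMacaulayRing (S ⧸ I) := by
  classical
  set m := (𝔪).map (Ideal.Quotient.mk I) with hm_def
  have hIm := le_ker_of_homogeneous hI hI'
  obtain ⟨d, hd⟩ := CommAlgDim.exists_ringKrullDim_eq (R := Localization.AtPrime m)
  have hirr : (HomogeneousIdeal.irrelevant (homogeneousSubmodule σ K)).toIdeal = 𝔪 := by
    ext f
    rw [HomogeneousIdeal.mem_iff, HomogeneousIdeal.mem_irrelevant_iff, GradedRing.proj_apply, RingHom.mem_ker]
    show (decomposition.decompose' f 0 : S) = 0 ↔ _
    rw [decomposition.decompose'_apply, homogeneousComponent_zero, ← constantCoeff_eq]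
    simp
  have hdim : ringKrullDim (S ⧸ I) = (d : WithBot ℕ∞) := by
    rw [ringKrullDim_quotient_eq_height (K := K) (homogeneousSubmodule σ K) (fun a ha => ?_) hI hI', hirr,
      ← IsLocalization.AtPrime.ringKrullDim_eq_height m (Localization.AtPrime m), hd]
    exact ⟨coeff 0 a, by rw [algebraMap_eq, ← homogeneousComponent_zero]; exact homogeneousComponent_of_mem ha |>.trans (by simp)⟩
  obtain ⟨θ, hlen, hhom, hX⟩ := exists_linear_parameters d I hI hIm hdim.le
  let φ : S →+* (Localization.AtPrime m) := (algebraMap (S ⧸ I) (Localization.AtPrime m)).comp (Ideal.Quotient.mk I)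
  have hθm : ∀ t ∈ θ, t ∈ 𝔪 := fun t ht => by
    rw [RingHom.mem_ker, constantCoeff_eq]
    exact (hhom t ht).coeff_eq_zero (by simp)
  have hmax : ∀ r ∈ θ.map φ, r ∈ IsLocalRing.maximalIdeal (Localization.AtPrime m) := by
    intro r hr
    obtain ⟨t, ht, rfl⟩ := List.mem_map.1 hr
    exact (IsLocalization.AtPrime.to_map_mem_maximal_iff (Localization.AtPrime m) m _).2 (Ideal.mem_map_of_mem _ (hθm t ht))
  have hreg : IsRegular (Localization.AtPrime m) (θ.map φ) := by
    refine CommAlgDim.isRegular_of_dim (isCM_of_isCohenMacaulayLocalRing (Localization.AtPrime m)) hmax ?_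
    have key : ∀ P : PrimeSpectrum (Localization.AtPrime m), Ideal.ofList (θ.map φ) ≤ P.asIdeal → P.asIdeal = IsLocalRing.maximalIdeal (Localization.AtPrime m) := by
      intro P hP
      have hp : (P.asIdeal.comap φ).IsPrime := P.asIdeal.comap_isPrime φ
      have h1 : I ⊔ Ideal.ofList θ ≤ P.asIdeal.comap φ := by
        refine sup_le (fun x hx => ?_) (Ideal.span_le.2 fun t ht => hP (Ideal.subset_span (List.mem_map_of_mem ht)))
        show φ x ∈ P.asIdeal
        rw [RingHom.comp_apply, Ideal.Quotient.eq_zero_iff_mem.2 hx, map_zero]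
        exact P.asIdeal.zero_mem
      have h2 : 𝔪 ≤ P.asIdeal.comap φ := ker_le_of_X_mem fun s => hp.radical_le_iff.2 h1 (hX s)
      refine le_antisymm (IsLocalRing.le_maximalIdeal P.isPrime.ne_top) ?_
      rw [← IsLocalization.AtPrime.map_eq_maximalIdeal m (Localization.AtPrime m)]
      refine (le_of_eq (Ideal.map_map _ _)).trans ?_
      exact Ideal.map_le_iff_le_comap.2 h2
    have h0 := ringKrullDim_quotient_nonpos (Ideal.ofList (θ.map φ)) key
    calc _ ≤ (0 : WithBot ℕ∞) + ((θ.map φ).length : ℕ) := add_le_add_left h0 _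
      _ ≤ _ := by rw [zero_add, hd, List.length_map]; exact_mod_cast hlen
  have hweak : IsWeaklyRegular (S ⧸ I) θ := by
    rw [isWeaklyRegular_iff]
    intro i hi
    rw [isSMulRegular_quotient_iff_mem_of_smul_mem]
    intro y hy
    obtain ⟨x, rfl⟩ := Ideal.Quotient.mk_surjective y
    set Θ := Ideal.ofList (θ.take i) with hΘ
    have hmemiff : ∀ z : S, Ideal.Quotient.mk I z ∈ Θ • (⊤ : Submodule S (S ⧸ I)) ↔ z ∈ I ⊔ Θ := by
      intro z
      have e : Θ • (⊤ : Submodule S (S ⧸ I)) = Submodule.map (Submodule.mkQ I) Θ := by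
        rw [← Submodule.range_mkQ I, ← Submodule.map_top, ← Submodule.map_smul'', Ideal.smul_top_eq_map]
        simp
      rw [e]
      show Submodule.mkQ I z ∈ _ ↔ _
      rw [← Submodule.mem_comap, Submodule.comap_map_mkQ]
    rw [hmemiff]
    change Ideal.Quotient.mk I (θ[i] * x) ∈ _ at hy
    rw [hmemiff] at hy
    have hLh : (I ⊔ Θ).IsHomogeneous (homogeneousSubmodule σ K) :=
      hI.sup (Ideal.homogeneous_span _ _ fun t ht => ⟨1, hhom t (List.take_subset _ _ ht)⟩)
    have hmap : (I ⊔ Θ).map φ = Ideal.ofList ((θ.map φ).take i) := by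
      rw [Ideal.map_sup, hΘ, Ideal.map_ofList, List.map_take]
      rw [sup_eq_right]
      refine Ideal.map_le_iff_le_comap.2 fun x hx => ?_
      rw [Ideal.mem_comap]
      rw [RingHom.comp_apply, Ideal.Quotient.eq_zero_iff_mem.2 hx, map_zero]
      exact Submodule.zero_mem _
    have hi' : i < (θ.map φ).length := by simpa using hi
    have h1 := (isWeaklyRegular_iff _ _).1 hreg.toIsWeaklyRegular i hi'
    replace h1 := (isSMulRegular_quotient_iff_mem_of_smul_mem _ _).1 h1
    have h2 : φ x ∈ (I ⊔ Θ).map φ := by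
      have := h1 (φ x) (by
        rw [smul_eq_mul, Ideal.mul_top, ← hmap, List.getElem_map, smul_eq_mul, ← map_mul]
        exact Ideal.mem_map_of_mem _ hy)
      rwa [smul_eq_mul, Ideal.mul_top, ← hmap] at this
    rw [← Ideal.map_map] at h2
    obtain ⟨v, hv, hvx⟩ := (IsLocalization.algebraMap_mem_map_algebraMap_iff m.primeCompl (Localization.AtPrime m) _ _).1 h2
    obtain ⟨v, rfl⟩ := Ideal.Quotient.mk_surjective v
    change Ideal.Quotient.mk I v * Ideal.Quotient.mk I x ∈ _ at hvx
    rw [← map_mul, Ideal.mem_map_iff_of_surjective _ Ideal.Quotient.mk_surjective] at hvx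
    obtain ⟨w, hw, hwe⟩ := hvx
    have h3 : v * x ∈ I ⊔ Θ := by
      have := Ideal.mem_sup_left (T := Θ) ((Ideal.Quotient.eq.1 hwe.symm))
      simpa using (I ⊔ Θ).add_mem this hw
    exact mem_of_mul_mem_of_notMem hLh (fun h => hv (Ideal.mem_map_of_mem _ h)) h3
  refine isCohenMacaulayRing_of_regular (fun i : Fin θ.length => θ[i]) (fun i => hhom _ (List.getElem_mem _)) I
    (fun f hf j => homogeneousComponent_mem_of_mem hI hf j) ?_ ?_
  · simpa using hweak
  · simpa using hX

end SMTLib
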