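import Groth.Agent.SMTLib.Degeneration
import Groth.Agent.SMTLib.Basis
import Mathlib.Algebra.Order.Rearrangement
import Mathlib.Algebra.Order.Module.Basic

/-!
# Degenerations of Schubert varieties
-/

universe u

namespace SMTLib

open MvPolynomial W4bk4grassmannian

variable {K : Type u} [Field K] {d n : ℕ}

/-- The weight of a position. -/
def posWt (p : Ent d n) : ℕ := (ofLex p).1.val * (ofLex p).2.val

/-- The weight of an exponent. -/
noncomputable def expWt : (Ent d n →₀ ℕ) →+ ℕ := Finsupp.weight posWt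

/-- The weight of an index. -/
def idxWt (θ : Idx d n) : ℕ := ∑ t, (θ.1 t).val * t.val

lemma expWt_expOf (θ : Idx d n) (σ : Equiv.Perm (Fin d)) : expWt (expOf θ σ) = ∑ t, (θ.1 (σ t)).val * t.val := by
  simp [expWt, expOf, Finsupp.weight_single, posWt]

lemma expWt_lt (θ : Idx d n) {σ : Equiv.Perm (Fin d)} (hσ : σ ≠ 1) : expWt (expOf θ σ) < expWt (expOf θ 1) := by
  rw [expWt_expOf, expWt_expOf]
  simp only [Equiv.Perm.one_apply]
  have hm : Monovary (fun t : Fin d => (θ.1 t).val) (fun t : Fin d => t.val) := fun i j h =>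
    Fin.le_def.1 (θ.2.monotone (Fin.le_def.2 (le_of_lt h)))
  refine hm.sum_comp_perm_mul_lt_sum_mul_iff.2 fun hmv => hσ (Equiv.ext fun t => ?_)
  have hmono : StrictMono σ := fun i j hij => by
    by_contra hle
    rcases (not_lt.1 hle).lt_or_eq with hlt | heq
    · exact absurd (hmv (Fin.lt_def.1 hij) : (θ.1 (σ i)).val ≤ (θ.1 (σ j)).val) (not_le.2 (θ.2 hlt))
    · exact hij.ne (σ.injective heq.symm)
  exact le_antisymm ((hmono.le_id) t) ((hmono.id_le) t)

/-- A monomial dominates a polynomial. -/
def Lead (p : MvPolynomial (Ent d n) K) (e : Ent d n →₀ ℕ) : Prop :=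
  coeff e p = 1 ∧ ∀ x ∈ p.support, x.degree = e.degree ∧ (x = e ∨ expWt x < expWt e)

lemma Lead.one : Lead (1 : MvPolynomial (Ent d n) K) 0 :=
  ⟨by simp, fun x hx => by
    have : x = 0 := by simpa using MvPolynomial.support_monomial_subset (a := (1 : K)) (s := (0 : Ent d n →₀ ℕ)) hx
    simp [this]⟩

lemma Lead.mul {p q : MvPolynomial (Ent d n) K} {e f : Ent d n →₀ ℕ} (hp : Lead p e) (hq : Lead q f) :
    Lead (p * q) (e + f) := by
  classical
  refine ⟨?_, fun x hx => ?_⟩
  · rw [coeff_mul, Finset.sum_eq_single (e, f)]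
    · rw [hp.1, hq.1, mul_one]
    · rintro ⟨a, b⟩ hab hne
      by_contra h0
      obtain ⟨ha, hb⟩ := mul_ne_zero_iff.1 h0
      have hab' : a + b = e + f := Finset.mem_antidiagonal.1 hab
      rcases (hp.2 a (mem_support_iff.2 ha)).2 with rfl | hlt
      · exact hne (by rw [add_left_cancel hab'])
      · have hle : expWt b ≤ expWt f := by
          rcases (hq.2 b (mem_support_iff.2 hb)).2 with rfl | h
          exacts [le_rfl, h.le]
        have := congrArg expWt hab'
        rw [map_add, map_add] at this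
        omega
    · intro h
      exact absurd (by rw [Finset.mem_antidiagonal]) h
  · obtain ⟨a, ha, b, hb, rfl⟩ := Finset.mem_add.1 (support_mul _ _ hx)
    obtain ⟨d1, h1⟩ := hp.2 a ha
    obtain ⟨d2, h2⟩ := hq.2 b hb
    refine ⟨by rw [map_add, map_add, d1, d2], ?_⟩
    rcases h1 with rfl | h1 <;> rcases h2 with rfl | h2
    · exact Or.inl rfl
    all_goals right; rw [map_add, map_add]; omega

lemma Lead.X (τ θ : Idx d n) (h : θ ≤ τ) : Lead (cellMap K τ (X θ)) (expOf θ 1) := by
  classical
  refine ⟨?_, fun x hx => ?_⟩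
  · have := degree_cellMap_X (K := K) τ θ h
    rw [← this.2]
    exact this.1
  · rw [cellMap_X] at hx
    obtain ⟨σ, -, hσ⟩ := Finset.mem_biUnion.1 (support_sum hx)
    split_ifs at hσ
    · obtain rfl := Finset.mem_singleton.1 (support_monomial_subset (support_smul hσ))
      refine ⟨by simp [expOf], ?_⟩
      rcases eq_or_ne σ 1 with rfl | hne
      exacts [Or.inl rfl, Or.inr (expWt_lt θ hne)]
    · simp at hσ

lemma Lead.chain (τ : Idx d n) : ∀ {m : ℕ} (c : Fin m → Idx d n), (∀ k, c k ≤ τ) →
    Lead (cellMap K τ (chainMon K c)) (expChain c) := by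
  intro m
  induction m with
  | zero => intro c _; simpa [chainMon, expChain] using Lead.one
  | succ m ih =>
    intro c hc
    rw [chainMon, expChain, Fin.prod_univ_succ, Fin.sum_univ_succ, map_mul]
    exact (Lead.X τ _ (hc 0)).mul (ih (fun k => c k.succ) fun k => hc k.succ)

/-- A combination equal to a dominated polynomial. -/
lemma Lead.combination {ι : Type*} {a : ι →₀ K} {p : ι → MvPolynomial (Ent d n) K} {e : ι → Ent d n →₀ ℕ}
    (hp : ∀ i, Lead (p i) (e i)) (he : Function.Injective e) {q : MvPolynomial (Ent d n) K} {e₀ : Ent d n →₀ ℕ}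
    (hq : Lead q e₀) (h : a.sum (fun i r => r • p i) = q) :
    (∀ i ∈ a.support, (e i).degree = e₀.degree ∧ ((e i = e₀ ∧ a i = 1) ∨ expWt (e i) < expWt e₀)) ∧
      ∃ i, e i = e₀ ∧ a i = 1 := by
  classical
  have hco : ∀ i ∈ a.support, (∀ j ∈ a.support, (e j).degree = (e i).degree → expWt (e j) ≤ expWt (e i)) →
      coeff (e i) q = a i := by
    intro i hi hmax
    rw [← h, Finsupp.sum, coeff_sum, Finset.sum_eq_single i]
    · rw [coeff_smul, (hp i).1, smul_eq_mul, mul_one]
    · intro j hj hji
      rw [coeff_smul, smul_eq_mul]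
      refine mul_eq_zero_of_right _ ?_
      by_contra hne
      obtain ⟨hd, hx⟩ := (hp j).2 _ (mem_support_iff.2 hne)
      rcases hx with hx | hx
      · exact hji (he hx).symm
      · have := hmax j hj hd.symm
        omega
    · exact fun h => absurd hi h
  have hbound : ∀ i ∈ a.support, (e i).degree = e₀.degree ∧ expWt (e i) ≤ expWt e₀ := by
    intro i hi
    obtain ⟨j, hj, hjmax⟩ := (a.support.filter fun j => (e j).degree = (e i).degree).exists_max_image (fun j => expWt (e j))
      ⟨i, Finset.mem_filter.2 ⟨hi, rfl⟩⟩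
    obtain ⟨hja, hjd⟩ := Finset.mem_filter.1 hj
    have hc := hco j hja fun k hk hkd => hjmax k (Finset.mem_filter.2 ⟨hk, hkd.trans hjd⟩)
    obtain ⟨hdeg, hx⟩ := hq.2 (e j) (mem_support_iff.2 (hc ▸ Finsupp.mem_support_iff.1 hja))
    have hij := hjmax i (Finset.mem_filter.2 ⟨hi, rfl⟩)
    refine ⟨hjd.symm.trans hdeg, hij.trans ?_⟩
    rcases hx with hx | hx
    exacts [le_of_eq (by rw [hx]), hx.le]
  have hmain : ∀ i ∈ a.support, (e i).degree = e₀.degree ∧ ((e i = e₀ ∧ a i = 1) ∨ expWt (e i) < expWt e₀) := by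
    intro i hi
    obtain ⟨h1, h2⟩ := hbound i hi
    refine ⟨h1, ?_⟩
    rcases h2.lt_or_eq with h2 | h2
    · exact Or.inr h2
    have hc := hco i hi fun j hj _ => ((hbound j hj).2).trans_eq h2.symm
    obtain ⟨-, hx⟩ := hq.2 (e i) (mem_support_iff.2 (hc ▸ Finsupp.mem_support_iff.1 hi))
    rcases hx with hx | hx
    · exact Or.inl ⟨hx, by rw [← hc, hx, hq.1]⟩
    · omega
  refine ⟨hmain, ?_⟩
  have hne : coeff e₀ q ≠ 0 := by rw [hq.1]; exact one_ne_zero
  rw [← h, Finsupp.sum, coeff_sum] at hne
  obtain ⟨i, hi, hne⟩ := Finset.exists_ne_zero_of_sum_ne_zero hne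
  rw [coeff_smul, smul_eq_mul] at hne
  obtain ⟨-, hne⟩ := mul_ne_zero_iff.1 hne
  obtain ⟨-, hx⟩ := (hp i).2 _ (mem_support_iff.2 hne)
  obtain ⟨-, h'⟩ := hmain i hi
  rcases h' with h' | h'
  · exact ⟨i, h'⟩
  · rcases hx with hx | hx
    · exact absurd h' (by rw [hx]; exact lt_irrefl _)
    · omega

variable (w : Idx d n)

/-- The chains below `w`. -/
abbrev BChain (w : Idx d n) : Type := Σ m : ℕ, {c : Fin m → Idx d n // Antitone c ∧ ∀ k, c k ≤ w}

/-- The exponent of a chain in the variables below `w`. -/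
noncomputable def toExp {w : Idx d n} (c : BChain w) : Below w →₀ ℕ := ∑ k, Finsupp.single ⟨c.2.1 k, c.2.2.2 k⟩ 1

/-- The weight used for the tie breaking. -/
def tieWt (θ : Idx d n) : ℕ := d * n * (d * n) - wt θ.1 * wt θ.1

/-- The refined weight. -/
def fineWt (θ : Idx d n) : ℕ := (2 * (d * n * (d * n)) + 1) * idxWt θ + tieWt θ

variable {w}

lemma exists_toExp {e : Below w →₀ ℕ} (he : IsChain (fun a b : Below w => a ≤ b) (e.support : Set (Below w))) :
    ∃ c : BChain w, toExp c = e := by
  classical
  induction hdeg : e.degree generalizing e with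
  | zero =>
    rw [Finsupp.degree_eq_zero_iff] at hdeg
    exact ⟨⟨0, Fin.elim0, fun k => k.elim0, fun k => k.elim0⟩, by simp [toExp, hdeg]⟩
  | succ N ih =>
    have hne : e.support.Nonempty := Finsupp.support_nonempty_iff.2 fun h => by simp [h] at hdeg
    obtain ⟨a, ha, hamax⟩ := e.support.exists_maximal hne
    have hmax : ∀ b ∈ e.support, b ≤ a := fun b hb => by
      rcases he.total hb ha with h | h
      exacts [h, hamax hb h]
    let e' := e - Finsupp.single a 1
    have hle : Finsupp.single a 1 ≤ e := Finsupp.single_le_iff.2 (Nat.pos_of_ne_zero (Finsupp.mem_support_iff.1 ha))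
    have hee : e' + Finsupp.single a 1 = e := tsub_add_cancel_of_le hle
    have hsub : e'.support ⊆ e.support := Finsupp.support_tsub
    obtain ⟨⟨m, c, hc, hcw⟩, hce⟩ := ih (e := e') (he.mono (Finset.coe_subset.2 hsub)) (by
      have := congrArg Finsupp.degree hee
      rw [map_add, Finsupp.degree_single, hdeg] at this
      omega)
    refine ⟨⟨m + 1, Fin.cons a.1 c, ?_, ?_⟩, ?_⟩
    · intro i j hij
      induction i using Fin.cases with
      | zero =>
        induction j using Fin.cases with
        | zero => exact le_rfl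
        | succ j =>
          simp only [Fin.cons_succ, Fin.cons_zero]
          refine hmax ⟨c j, hcw j⟩ (hsub (Finsupp.mem_support_iff.2 ?_))
          rw [← hce, toExp, Finsupp.finsetSum_apply]
          intro h0
          have := Finset.sum_eq_zero_iff.1 h0 j (Finset.mem_univ _)
          simp at this
      | succ i =>
        induction j using Fin.cases with
        | zero => exact absurd hij (by simp)
        | succ j =>
          simp only [Fin.cons_succ]
          exact hc (Fin.succ_le_succ_iff.1 hij)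
    · intro k
      induction k using Fin.cases with
      | zero => exact a.2
      | succ k => exact hcw k
    · exact ((Fin.sum_univ_succ _).trans ((add_comm _ _).trans (congrArg (· + Finsupp.single a 1) hce))).trans hee

lemma isChain_toExp (c : BChain w) : IsChain (fun a b : Below w => a ≤ b) ((toExp c).support : Set (Below w)) := by
  classical
  have : ∀ x ∈ (toExp c).support, ∃ k, c.2.1 k = x.1 := by
    intro x hx
    rw [Finsupp.mem_support_iff, toExp, Finsupp.finsetSum_apply] at hx
    obtain ⟨k, -, hk⟩ := Finset.exists_ne_zero_of_sum_ne_zero hx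
    rw [Finsupp.single_apply] at hk
    split_ifs at hk with h
    · exact ⟨k, congrArg Subtype.val h⟩
    · exact absurd rfl hk
  intro x hx y hy _
  obtain ⟨i, hi⟩ := this x hx
  obtain ⟨j, hj⟩ := this y hy
  rcases le_total i j with h | h
  · exact Or.inr (show y.1 ≤ x.1 from hi ▸ hj ▸ c.2.2.1 h)
  · exact Or.inl (show x.1 ≤ y.1 from hi ▸ hj ▸ c.2.2.1 h)

lemma belowToSchubert_toExp (c : BChain w) : belowToSchubert K w (monomial (toExp c) 1) =
    Ideal.Quotient.mk (schubertVanishing K d n w) (chainMon K c.2.1) := by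
  rw [toExp, monomial_sum_one, map_prod, chainMon, map_prod]
  refine Finset.prod_congr rfl fun k _ => ?_
  exact MvPolynomial.aeval_X _ _

lemma linearIndependent_belowToSchubert [Infinite K] (hd : 0 < d) :
    LinearIndependent K fun e : ChainExp (Below w) => belowToSchubert K w (monomial e.1 1) := by
  have hc : LinearIndependent K fun c : BChain w =>
      Ideal.Quotient.mk (schubertVanishing K d n w) (chainMon K c.2.1) := by
    rw [linearIndependent_iff]
    intro a ha
    refine linearIndependent_iff.1 (linearIndependent_cellMap (K := K) hd w) a ?_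
    rw [Finsupp.linearCombination_apply] at ha ⊢
    have : a.sum (fun c r => r • chainMon K c.2.1) ∈ schubertVanishing K d n w := by
      rw [← Ideal.Quotient.eq_zero_iff_mem, ← Ideal.Quotient.mkₐ_eq_mk K, map_finsuppSum, ← ha]
      simp
    have := schubertVanishing_le_ker w this
    rw [RingHom.mem_ker] at this
    rw [← this]
    show _ = cellMap K w _
    rw [map_finsuppSum]
    simp
  choose f hf using fun e : ChainExp (Below w) => exists_toExp e.2
  have hinj : Function.Injective f := fun e e' h => Subtype.ext (by rw [← hf e, ← hf e', h])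
  convert hc.comp f hinj using 1
  funext e
  show _ = Ideal.Quotient.mk _ (chainMon K (f e).2.1)
  rw [← belowToSchubert_toExp, hf]

lemma surjective_belowToSchubert : Function.Surjective (belowToSchubert K w) := by
  intro q
  obtain ⟨p, rfl⟩ := Ideal.Quotient.mk_surjective q
  rw [← AlgHom.mem_range]
  induction p using MvPolynomial.induction_on with
  | C r =>
    rw [show Ideal.Quotient.mk (schubertVanishing K d n w) (C r) = algebraMap K _ r from rfl]
    exact Subalgebra.algebraMap_mem _ r
  | add p q hp hq => rw [map_add]; exact Subalgebra.add_mem _ hp hq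
  | mul_X p θ hp =>
    rw [map_mul]
    refine Subalgebra.mul_mem _ hp ?_
    by_cases h : θ ≤ w
    · exact (AlgHom.mem_range _).2 ⟨X ⟨θ, h⟩, MvPolynomial.aeval_X _ _⟩
    · rw [Ideal.Quotient.eq_zero_iff_mem.2 (plIdeal_le_schubertVanishing w (Ideal.subset_span (Or.inr ⟨θ, h, rfl⟩)))]
      exact Subalgebra.zero_mem _

lemma wt_sup_add_inf (α β : Idx d n) :
    wt (W4bk4grassmannian.sup α β).1 + wt (W4bk4grassmannian.inf α β).1 = wt α.1 + wt β.1 := by
  rw [wt, wt, wt, wt, ← Finset.sum_add_distrib, ← Finset.sum_add_distrib]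
  exact Finset.sum_congr rfl fun t _ => by
    simp only [W4bk4grassmannian.sup, W4bk4grassmannian.inf]
    rcases le_total (α.1 t) (β.1 t) with h | h <;> simp [h] <;> omega

lemma tieWt_lt (α β : Idx d n) (hab : ¬ α ≤ β) (hba : ¬ β ≤ α) :
    tieWt (W4bk4grassmannian.sup α β) + tieWt (W4bk4grassmannian.inf α β) < tieWt α + tieWt β := by
  have h1 : α < W4bk4grassmannian.sup α β :=
    lt_of_le_of_ne (fun t => le_max_left _ _) fun h => hba (h ▸ fun t => le_max_right _ _)
  have h2 : β < W4bk4grassmannian.sup α β :=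
    lt_of_le_of_ne (fun t => le_max_right _ _) fun h => hab (h ▸ fun t => le_max_left _ _)
  have e := wt_sup_add_inf α β
  have g1 := wt_strictMono h1
  have g2 := wt_strictMono h2
  have b : ∀ θ : Idx d n, wt θ.1 * wt θ.1 ≤ d * n * (d * n) := fun θ => Nat.mul_le_mul (wt_le _) (wt_le _)
  simp only [tieWt]
  zify [b α, b β, b (W4bk4grassmannian.sup α β), b (W4bk4grassmannian.inf α β)] at *
  nlinarith [mul_pos (sub_pos.2 g1) (sub_pos.2 g2)]

/-- Straightening with its leading term. -/
theorem exists_straightening [Infinite K] (hd : 0 < d) (α β : Below w) (hab : ¬ α ≤ β) (hba : ¬ β ≤ α) :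
    ∃ rest : MvPolynomial (Below w) K,
      belowToSchubert K w (X α * X β) = belowToSchubert K w (X (Below.sup α β) * X (Below.inf α β)) +
        belowToSchubert K w rest ∧
      ∀ x ∈ rest.support, Finsupp.weight (fun θ : Below w => idxWt θ.1) x < idxWt α.1 + idxWt β.1 ∧
        Finsupp.weight (fun θ : Below w => fineWt θ.1) x < fineWt α.1 + fineWt β.1 := by
  classical
  obtain ⟨s, hs, hfs⟩ := exists_repr_of_plIdeal w (X α.1 * X β.1 : PlRing K d n)
  rw [Finsupp.mem_span_range_iff_exists_finsupp] at hs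
  obtain ⟨a, rfl⟩ := hs
  have hmod := plIdeal_le_schubertVanishing w hfs
  have hcell : a.sum (fun c r => r • cellMap K w (chainMon K c.2.1)) = cellMap K w (X α.1 * X β.1) := by
    have := schubertVanishing_le_ker w hmod
    rw [RingHom.mem_ker] at this
    change cellMap K w _ = 0 at this
    rw [map_sub, sub_eq_zero] at this
    rw [this, map_finsuppSum]
    simp
  have hlead : Lead (cellMap K w (X α.1 * X β.1)) (expOf α.1 1 + expOf β.1 1) := by
    rw [map_mul]; exact (Lead.X w _ α.2).mul (Lead.X w _ β.2)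
  obtain ⟨hall, i₀, hi₀, hai₀⟩ := Lead.combination (fun c : BChain w => Lead.chain w c.2.1 c.2.2.2)
    (fun c c' h => by
      obtain ⟨m, c, hc⟩ := c
      obtain ⟨m', c', hc'⟩ := c'
      obtain ⟨rfl, h2⟩ := Sigma.mk.inj_iff.1 (expChain_injective hd c c' hc.1 hc'.1 h)
      cases eq_of_heq h2
      rfl) hlead hcell
  let top : BChain w := ⟨2, ![(Below.sup α β).1, (Below.inf α β).1], by
    intro i j hij
    fin_cases i <;> fin_cases j <;> simp_all
    intro t
    exact le_trans (min_le_left _ _) (le_max_left _ _), by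
    intro k; fin_cases k
    exacts [(Below.sup α β).2, (Below.inf α β).2]⟩
  have htop : expChain top.2.1 = expOf α.1 1 + expOf β.1 1 := by
    refine Finsupp.ext fun p => ?_
    obtain ⟨⟨i, t⟩, rfl⟩ := toLex.surjective p
    show expChain top.2.1 (ent i t) = (expOf α.1 1 + expOf β.1 1) (ent i t)
    rw [expChain, Finsupp.finsetSum_apply, Fin.sum_univ_two, Finsupp.add_apply]
    simp only [top, Matrix.cons_val_zero, Matrix.cons_val_one, expOf_apply, Equiv.Perm.one_apply, Below.sup, Below.inf,
      W4bk4grassmannian.sup, W4bk4grassmannian.inf]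
    rcases le_total (α.1.1 t) (β.1.1 t) with h | h
    · simp [max_eq_right h, min_eq_left h, add_comm]
      rfl
    · simp [max_eq_left h, min_eq_right h]
      rfl
  have hexp_inj : ∀ c c' : BChain w, expChain c.2.1 = expChain c'.2.1 → c = c' := fun c c' h => by
    obtain ⟨m, c, hc⟩ := c
    obtain ⟨m', c', hc'⟩ := c'
    obtain ⟨rfl, h2⟩ := Sigma.mk.inj_iff.1 (expChain_injective hd c c' hc.1 hc'.1 h)
    cases eq_of_heq h2
    rfl
  obtain rfl : i₀ = top := hexp_inj _ _ (hi₀.trans htop.symm)
  refine ⟨(a.erase top).sum fun c r => monomial (toExp c) r, ?_, ?_⟩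
  · have h1 : belowToSchubert K w (X α * X β) = Ideal.Quotient.mk (schubertVanishing K d n w) (X α.1 * X β.1) := by
      rw [map_mul, map_mul]
      exact congrArg₂ _ (MvPolynomial.aeval_X _ _) (MvPolynomial.aeval_X _ _)
    rw [h1, Ideal.Quotient.mk_eq_mk_iff_sub_mem _ _ |>.2 hmod]
    conv_lhs => rw [← Finsupp.single_add_erase top a]
    rw [Finsupp.sum_add_index' (h := fun (c : BChain w) (r : K) => r • chainMon K c.2.1) (fun _ => zero_smul K _) (fun _ _ _ => add_smul _ _ _), map_add,
      Finsupp.sum_single_index (h := fun (c : BChain w) (r : K) => r • chainMon K c.2.1) (zero_smul K _), hai₀, one_smul, ← belowToSchubert_toExp top, map_finsuppSum,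
      map_finsuppSum]
    congr 1
    · congr 1
      simp [toExp, top, Fin.sum_univ_two, X, monomial_mul]
    · refine Finset.sum_congr rfl fun c _ => ?_
      show Ideal.Quotient.mkₐ K (schubertVanishing K d n w) _ = _
      rw [map_smul (Ideal.Quotient.mkₐ K (schubertVanishing K d n w))]
      show _ • Ideal.Quotient.mk (schubertVanishing K d n w) _ = _
      rw [← belowToSchubert_toExp, ← map_smul, smul_monomial, smul_eq_mul, mul_one]
  · intro x hx
    obtain ⟨c, hc, hxc⟩ := Finset.mem_biUnion.1 (support_sum hx)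
    obtain rfl := Finset.mem_singleton.1 (support_monomial_subset hxc)
    rw [Finsupp.support_erase, Finset.mem_erase] at hc
    obtain ⟨hdeg, hlt⟩ := hall c hc.2
    have hlen : c.1 = 2 := by
      have e1 : ∀ θ : Idx d n, (expOf θ 1).degree = d := fun θ => by simp [expOf]
      rw [expChain, map_sum, map_add] at hdeg
      simp only [e1, Finset.sum_const, Finset.card_univ, Fintype.card_fin, smul_eq_mul] at hdeg
      exact Nat.eq_of_mul_eq_mul_right hd (hdeg.trans (two_mul d).symm)
    have hlt' : expWt (expChain c.2.1) < expWt (expOf α.1 1 + expOf β.1 1) := by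
      rcases hlt with ⟨he, -⟩ | hlt
      · exact absurd (hexp_inj _ _ (he.trans htop.symm)) hc.1
      · exact hlt
    have hidx : ∀ θ : Idx d n, expWt (expOf θ 1) = idxWt θ := fun θ => by rw [expWt_expOf]; rfl
    rw [expChain, map_sum, map_add, hidx, hidx] at hlt'
    simp only [hidx] at hlt'
    have hw : ∀ g : Below w → ℕ, Finsupp.weight g (toExp c) = ∑ k, g ⟨c.2.1 k, c.2.2.2 k⟩ := fun g => by
      simp [toExp, Finsupp.weight_single]
    rw [hw, hw]
    refine ⟨hlt', ?_⟩
    simp only [fineWt, Finset.sum_add_distrib, ← Finset.mul_sum]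
    have hbd : ∑ k, tieWt (c.2.1 k) ≤ 2 * (d * n * (d * n)) := by
      refine (Finset.sum_le_card_nsmul _ _ (d * n * (d * n)) fun k _ => Nat.sub_le _ _).trans ?_
      simp [hlen]
    nlinarith

theorem hibi_law [Infinite K] (hd : 0 < d) (w : Idx d n) :
    ∃ rest, Law (belowToSchubert K w) (fun θ : Below w => idxWt θ.1) (fun θ : Below w => fineWt θ.1)
      (fun a b => X (Below.sup a b) * X (Below.inf a b)) rest := by
  classical
  choose! rest hrest using fun (p : Below w × Below w) (h : ¬ p.1 ≤ p.2 ∧ ¬ p.2 ≤ p.1) =>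
    exists_straightening (K := K) hd p.1 p.2 h.1 h.2
  refine ⟨fun a b => rest (a, b), surjective_belowToSchubert, linearIndependent_belowToSchubert hd,
    fun a b hab hba => (hrest (a, b) ⟨hab, hba⟩).1, fun a b hab hba x hx => ?_,
    fun a b hab hba => (hrest (a, b) ⟨hab, hba⟩).2⟩
  rw [X, X, monomial_mul, one_mul] at hx
  obtain rfl := Finset.mem_singleton.1 (support_monomial_subset hx)
  rw [map_add, map_add]
  simp only [Finsupp.weight_single, smul_eq_mul, one_mul]
  have e : idxWt (Below.sup a b).1 + idxWt (Below.inf a b).1 = idxWt a.1 + idxWt b.1 := by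
    simp only [idxWt, ← Finset.sum_add_distrib, ← add_mul]
    exact Finset.sum_congr rfl fun t _ => by
      congr 1
      simp only [Below.sup, Below.inf, W4bk4grassmannian.sup, W4bk4grassmannian.inf]
      rcases le_total (a.1.1 t) (b.1.1 t) with h | h <;> simp [h] <;> omega
  have t := tieWt_lt a.1 b.1 hab hba
  simp only [Below.sup, Below.inf] at e ⊢
  refine ⟨e, ?_⟩
  simp only [fineWt]
  nlinarith

theorem stanleyReisner_law [Infinite K] (hd : 0 < d) (w : Idx d n) :
    ∃ rest, Law (belowToSchubert K w) (fun θ : Below w => fineWt θ.1) (fun θ : Below w => fineWt θ.1)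
      (fun _ _ => 0) rest := by
  classical
  obtain ⟨rest, h⟩ := hibi_law (K := K) hd w
  refine ⟨fun a b => X (Below.sup a b) * X (Below.inf a b) + rest a b, h.surj, h.indep,
    fun a b hab hba => by rw [map_zero, zero_add, map_add]; exact h.eq a b hab hba,
    fun a b _ _ x hx => by simp at hx, fun a b hab hba x hx => ?_⟩
  rcases Finset.mem_union.1 (MvPolynomial.support_add hx) with hx | hx
  · exact ⟨(h.lead_mem a b hab hba x hx).2, (h.lead_mem a b hab hba x hx).2⟩
  · exact ⟨(h.rest_mem a b hab hba x hx).2, (h.rest_mem a b hab hba x hx).2⟩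

lemma initIdeal_hibi (w : Idx d n) :
    initIdeal (fun a b : Below w => (X (Below.sup a b) * X (Below.inf a b) : MvPolynomial (Below w) K)) = hibiIdeal K w := by
  refine le_antisymm (Ideal.span_mono ?_) (Ideal.span_le.2 ?_)
  · rintro _ ⟨a, b, -, -, rfl⟩; exact ⟨a, b, rfl⟩
  · rintro _ ⟨a, b, rfl⟩
    by_cases hab : a ≤ b
    · have h1 : Below.sup a b = b := Subtype.ext (Subtype.ext (funext fun t => max_eq_right (hab t)))
      have h2 : Below.inf a b = a := Subtype.ext (Subtype.ext (funext fun t => min_eq_left (hab t)))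
      rw [h1, h2, mul_comm, sub_self]; exact Ideal.zero_mem _
    by_cases hba : b ≤ a
    · have h1 : Below.sup a b = a := Subtype.ext (Subtype.ext (funext fun t => max_eq_left (hba t)))
      have h2 : Below.inf a b = b := Subtype.ext (Subtype.ext (funext fun t => min_eq_right (hba t)))
      rw [h1, h2, sub_self]; exact Ideal.zero_mem _
    exact Ideal.subset_span ⟨a, b, hab, hba, rfl⟩

lemma initIdeal_zero (w : Idx d n) :
    initIdeal (fun _ _ : Below w => (0 : MvPolynomial (Below w) K)) = srIdeal K w := by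
  simp [initIdeal, srIdeal]

end SMTLib
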