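import Mathlib.RingTheory.Regular.RegularSequence

/-!
# Regular sequences along short exact sequences
-/

namespace SMTLib

open RingTheory.Sequence Function QuotSMulTop Pointwise

universe u

variable {R : Type u} [CommRing R]

lemma map_injective_of_isSMulRegular {A B C : Type*} [AddCommGroup A] [Module R A] [AddCommGroup B] [Module R B]
    [AddCommGroup C] [Module R C] {f : A →ₗ[R] B} {g : B →ₗ[R] C} (hf : Injective f) (hfg : Exact f g) {r : R}
    (hr : IsSMulRegular C r) : Injective (map r f) := by
  rw [injective_iff_map_eq_zero]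
  intro y hy
  obtain ⟨a, rfl⟩ := Submodule.mkQ_surjective _ y
  have h0 : Exact (0 : R →ₗ[R] A) f := by
    intro x
    constructor
    · intro hx; exact ⟨0, by rw [LinearMap.zero_apply]; exact (hf (by rw [hx, map_zero])).symm⟩
    · rintro ⟨_, rfl⟩; simp only [LinearMap.zero_apply, map_zero]
  obtain ⟨z, hz⟩ := (map_first_exact_on_four_term_exact_of_isSMulRegular_last h0 hfg hr _).1 hy
  rw [← hz]
  obtain ⟨u, rfl⟩ := Submodule.mkQ_surjective _ z
  show map r (0 : R →ₗ[R] A) (Submodule.Quotient.mk u) = 0
  rfl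

lemma isWeaklyRegular_middle : ∀ (rs : List R) {A B C : Type u} [AddCommGroup A] [Module R A] [AddCommGroup B]
    [Module R B] [AddCommGroup C] [Module R C] (f : A →ₗ[R] B) (g : B →ₗ[R] C), Injective f → Exact f g →
    Surjective g → IsWeaklyRegular A rs → IsWeaklyRegular C rs → IsWeaklyRegular B rs := by
  intro rs
  induction rs with
  | nil => intros; exact IsWeaklyRegular.nil R _
  | cons r rs ih =>
    intro A B C _ _ _ _ _ _ f g hf hfg hg hA hC
    rw [isWeaklyRegular_cons_iff] at hA hC ⊢
    exact ⟨isSMulRegular_of_range_eq_ker hf hfg.linearMap_ker_eq.symm hA.1 hC.1,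
      ih (map r f) (map r g) (map_injective_of_isSMulRegular hf hfg hC.1) (map_exact r hfg hg)
        (map_surjective r hg) hA.2 hC.2⟩

lemma isWeaklyRegular_left : ∀ (rs : List R) {A B C : Type u} [AddCommGroup A] [Module R A] [AddCommGroup B]
    [Module R B] [AddCommGroup C] [Module R C] (f : A →ₗ[R] B) (g : B →ₗ[R] C), Injective f → Exact f g →
    Surjective g → IsWeaklyRegular B rs → IsWeaklyRegular C rs → IsWeaklyRegular A rs := by
  intro rs
  induction rs with
  | nil => intros; exact IsWeaklyRegular.nil R _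
  | cons r rs ih =>
    intro A B C _ _ _ _ _ _ f g hf hfg hg hB hC
    rw [isWeaklyRegular_cons_iff] at hB hC ⊢
    exact ⟨hB.1.of_injective f hf,
      ih (map r f) (map r g) (map_injective_of_isSMulRegular hf hfg hC.1) (map_exact r hfg hg)
        (map_surjective r hg) hB.2 hC.2⟩

/-- The Mayer-Vietoris step: `x` is regular on the middle term and kills the right one. -/
lemma isWeaklyRegular_cons_left (x : R) (rs : List R) {A B C : Type u} [AddCommGroup A] [Module R A] [AddCommGroup B]
    [Module R B] [AddCommGroup C] [Module R C] (f : A →ₗ[R] B) (g : B →ₗ[R] C) (hf : Injective f) (hfg : Exact f g)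
    (hg : Surjective g) (hB : IsWeaklyRegular B (x :: rs)) (hxC : ∀ c : C, x • c = 0) (hC : IsWeaklyRegular C rs) :
    IsWeaklyRegular A (x :: rs) := by
  rw [isWeaklyRegular_cons_iff] at hB ⊢
  refine ⟨hB.1.of_injective f hf, ?_⟩
  -- the image of the first term in the second
  let ι := LinearMap.range (map x f)
  let q : B →ₗ[R] C := g
  have hle : (x • ⊤ : Submodule R B) ≤ LinearMap.ker g := by
    rintro _ ⟨b, -, rfl⟩
    exact (g.map_smul x b).trans (hxC _)
  let g' : QuotSMulTop x B →ₗ[R] C := Submodule.liftQ _ g hle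
  have hg' : Surjective g' := fun c => by
    obtain ⟨b, rfl⟩ := hg c
    exact ⟨Submodule.Quotient.mk b, rfl⟩
  have hker : Exact (map x f) g' := by
    intro y
    obtain ⟨b, rfl⟩ := Submodule.mkQ_surjective _ y
    constructor
    · intro hb
      obtain ⟨a, rfl⟩ := (hfg b).1 hb
      exact ⟨Submodule.Quotient.mk a, rfl⟩
    · rintro ⟨z, hz⟩
      obtain ⟨a, rfl⟩ := Submodule.mkQ_surjective _ z
      rw [← hz]
      exact hfg.apply_apply_eq_zero a
  have hI : IsWeaklyRegular ι rs :=
    isWeaklyRegular_left rs ι.subtype g' Subtype.val_injective (fun y => (hker y).trans ⟨fun h => ⟨⟨y, h⟩, rfl⟩, fun ⟨z, hz⟩ => hz ▸ z.2⟩) hg' hB.2 hC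
  -- the kernel of the map is a copy of the third term
  have hmem : ∀ b : B, ∃ a, f a = x • b := fun b => (hfg _).1 (by rw [map_smul, hxC])
  choose δ hδ using hmem
  let δ₀ : B →ₗ[R] QuotSMulTop x A :=
    { toFun := fun b => Submodule.Quotient.mk (δ b)
      map_add' := fun b b' => by
        rw [← Submodule.Quotient.mk_add]; congr 1; exact hf (by rw [map_add, hδ, hδ, hδ, smul_add])
      map_smul' := fun r b => by
        rw [RingHom.id_apply, ← Submodule.Quotient.mk_smul]; congr 1
        exact hf (by rw [map_smul, hδ, hδ, smul_comm]) }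
  have hδ₀ : LinearMap.ker g ≤ LinearMap.ker δ₀ := by
    intro b hb
    obtain ⟨a, rfl⟩ := (hfg b).1 hb
    show Submodule.Quotient.mk (δ (f a)) = 0
    rw [Submodule.Quotient.mk_eq_zero, show δ (f a) = x • a from hf (by rw [hδ, map_smul])]
    exact Submodule.smul_mem_pointwise_smul _ _ _ trivial
  let D : C →ₗ[R] QuotSMulTop x A :=
    (Submodule.liftQ _ δ₀ hδ₀) ∘ₗ (g.quotKerEquivOfSurjective hg).symm.toLinearMap
  have hD : ∀ b, D (g b) = Submodule.Quotient.mk (δ b) := fun b => by
    show Submodule.liftQ _ δ₀ hδ₀ ((g.quotKerEquivOfSurjective hg).symm (g b)) = _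
    rw [show (g.quotKerEquivOfSurjective hg).symm (g b) = Submodule.Quotient.mk b from
      (g.quotKerEquivOfSurjective hg).symm_apply_eq.2 rfl]
    rfl
  have hDinj : Injective D := by
    rw [injective_iff_map_eq_zero]
    intro c hc
    obtain ⟨b, rfl⟩ := hg c
    rw [hD, Submodule.Quotient.mk_eq_zero] at hc
    obtain ⟨a, -, ha⟩ := hc
    have : x • b = x • f a := by rw [← hδ, ← ha]; exact f.map_smul x a
    rw [hB.1 this]
    exact hfg.apply_apply_eq_zero a
  have hDexact : Exact D (map x f).rangeRestrict := by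
    intro y
    obtain ⟨a, rfl⟩ := Submodule.mkQ_surjective _ y
    constructor
    · intro h
      have h' : (Submodule.Quotient.mk (f a) : QuotSMulTop x B) = 0 := congrArg Subtype.val h
      obtain ⟨b, -, hb⟩ := (Submodule.Quotient.mk_eq_zero _).1 h'
      refine ⟨g b, (hD b).trans ?_⟩
      congr 1
      exact hf ((hδ b).trans hb)
    · rintro ⟨c, hc⟩
      obtain ⟨b, rfl⟩ := hg c
      rw [hD] at hc
      refine Subtype.ext ?_
      show map x f (Submodule.mkQ _ a) = 0
      rw [← hc]
      show (Submodule.Quotient.mk (f (δ b)) : QuotSMulTop x B) = 0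
      rw [hδ, Submodule.Quotient.mk_eq_zero]
      exact Submodule.smul_mem_pointwise_smul _ _ _ trivial
  exact isWeaklyRegular_middle rs D _ hDinj hDexact (map x f).surjective_rangeRestrict hC hI

end SMTLib
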