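import Groth.Agent.CommAlgDim.Depth
import Groth.Agent.SMTLib.RegSeq

/-!
# Depth and short exact sequences
-/

universe u

namespace SMTLib

open RingTheory.Sequence Function Pointwise CommAlgDim

variable {R : Type u} [CommRing R] [IsNoetherianRing R]

lemma exists_isSMulRegular_pair {B C : Type u} [AddCommGroup B] [Module R B] [Module.Finite R B]
    [AddCommGroup C] [Module R C] [Module.Finite R C] {I : Ideal R} {n m : ℕ}
    (hB : HasSeqIn I B (n + 1)) (hC : HasSeqIn I C (m + 1)) :
    ∃ x ∈ I, IsSMulRegular B x ∧ IsSMulRegular C x := by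
  have h1 := (hasSeqIn_one_iff I).1 (hB.mono (by omega))
  have h2 := (hasSeqIn_one_iff I).1 (hC.mono (by omega))
  obtain ⟨x, hx, hreg⟩ := exists_isSMulRegular_mem (M := B × C) (I := I) fun p hp => by
    rw [associatedPrimes.prod] at hp
    exact hp.elim (h1 p) (h2 p)
  exact ⟨x, hx, hreg.of_injective (LinearMap.inl R B C) LinearMap.inl_injective,
    hreg.of_injective (LinearMap.inr R B C) LinearMap.inr_injective⟩

/-- Depth of the middle term. -/
lemma hasSeqIn_middle {I : Ideal R} : ∀ (n : ℕ) {A B C : Type u} [AddCommGroup A] [Module R A] [Module.Finite R A]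
    [AddCommGroup B] [Module R B] [Module.Finite R B] [AddCommGroup C] [Module R C] [Module.Finite R C]
    (f : A →ₗ[R] B) (g : B →ₗ[R] C), Injective f → Exact f g → Surjective g →
    HasSeqIn I A n → HasSeqIn I C n → HasSeqIn I B n := by
  intro n
  induction n with
  | zero => exact fun _ _ _ _ _ _ _ => hasSeqIn_zero I
  | succ n ih =>
    intro A B C _ _ _ _ _ _ _ _ _ f g hf hfg hg hA hC
    obtain ⟨x, hx, hxA, hxC⟩ := exists_isSMulRegular_pair hA hC
    have hxB : IsSMulRegular B x := (isWeaklyRegular_singleton_iff _ _).1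
      (isWeaklyRegular_middle [x] f g hf hfg hg ((isWeaklyRegular_singleton_iff _ _).2 hxA)
        ((isWeaklyRegular_singleton_iff _ _).2 hxC))
    exact hasSeqIn_succ_of_cons hx hxB (ih (QuotSMulTop.map x f) (QuotSMulTop.map x g)
      (map_injective_of_isSMulRegular hf hfg hxC) (QuotSMulTop.map_exact x hfg hg)
      (QuotSMulTop.map_surjective x hg) (hA.quotSMulTop hx hxA) (hC.quotSMulTop hx hxC))

/-- Depth of the left term. -/
lemma hasSeqIn_left {I : Ideal R} : ∀ (n : ℕ) {A B C : Type u} [AddCommGroup A] [Module R A] [Module.Finite R A]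
    [AddCommGroup B] [Module R B] [Module.Finite R B] [AddCommGroup C] [Module R C] [Module.Finite R C]
    (f : A →ₗ[R] B) (g : B →ₗ[R] C), Injective f → Exact f g → Surjective g →
    HasSeqIn I B (n + 1) → HasSeqIn I C n → HasSeqIn I A (n + 1) := by
  intro n
  induction n with
  | zero =>
    intro A B C _ _ _ _ _ _ _ _ _ f g hf _ _ hB _
    obtain ⟨x, hx, hxB, -⟩ := exists_isSMulRegular_pair hB hB
    exact ⟨[x], rfl, by simpa using hx, (isWeaklyRegular_singleton_iff _ _).2 (hxB.of_injective f hf)⟩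
  | succ n ih =>
    intro A B C _ _ _ _ _ _ _ _ _ f g hf hfg hg hB hC
    obtain ⟨x, hx, hxB, hxC⟩ := exists_isSMulRegular_pair hB hC
    exact hasSeqIn_succ_of_cons hx (hxB.of_injective f hf) (ih (QuotSMulTop.map x f) (QuotSMulTop.map x g)
      (map_injective_of_isSMulRegular hf hfg hxC) (QuotSMulTop.map_exact x hfg hg)
      (QuotSMulTop.map_surjective x hg) (hB.quotSMulTop hx hxB) (hC.quotSMulTop hx hxC))

end SMTLib
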