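import Groth.Agent.SMTLib.SchubertUFD
import Mathlib.RingTheory.GradedAlgebra.HomogeneousLocalization

/-!
# A ring graded by degree and its degree zero localisation
-/

universe u v

namespace SMTLib

open HomogeneousLocalization

variable {K : Type u} [Field K] {R : Type v} [CommRing R] [IsDomain R] [Algebra K R]
  (𝒜 : ℕ → Submodule K R) [GradedAlgebra 𝒜]

theorem transcendental_away (e : ℕ) (he : 0 < e) (s : R) (hs : s ∈ 𝒜 e) :
    Transcendental (HomogeneousLocalization.Away 𝒜 s) (algebraMap R (Localization.Away s) s) := by
  classical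
  by_cases hs0 : s = 0
  · have : Subsingleton (HomogeneousLocalization.Away 𝒜 s) := by
      refine HomogeneousLocalization.subsingleton _ ⟨1, ?_⟩
      simp [hs0]
    intro ⟨p, hp, _⟩
    exact hp (Subsingleton.elim _ _)
  have hle : Submonoid.powers s ≤ nonZeroDivisors R := powers_le_nonZeroDivisors_of_noZeroDivisors hs0
  have hinj : Function.Injective (algebraMap R (Localization.Away s)) := IsLocalization.injective _ hle
  rw [transcendental_iff]
  intro p hp
  choose N a ha hmk using fun i => Away.mk_surjective 𝒜 hs (p.coeff i)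
  let M := p.support.sup N
  let b : ℕ → R := fun i => a i * s ^ (M - N i + i)
  have hb : ∀ i ∈ p.support, b i ∈ 𝒜 ((M + i) * e) := fun i hi => by
    have hle : N i ≤ M := Finset.le_sup hi
    have h1 := SetLike.mul_mem_graded (ha i) (SetLike.pow_mem_graded (M - N i + i) hs)
    rwa [← add_smul, smul_eq_mul, show N i + (M - N i + i) = M + i by omega] at h1
  have hzero : ∑ i ∈ p.support, b i = 0 := by
    refine hinj ?_
    rw [map_zero, map_sum, ← mul_zero (algebraMap R (Localization.Away s) s ^ M), ← hp, Polynomial.aeval_eq_sum_range' (n := p.natDegree + 1) (by omega),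
      Finset.mul_sum]
    refine Finset.sum_subset_zero_on_sdiff (Polynomial.supp_subset_range (Nat.lt_succ_self _)) (fun i hi => ?_) fun i hi => ?_
    · rw [Finset.mem_sdiff, Polynomial.notMem_support_iff] at hi
      rw [hi.2, Algebra.smul_def, map_zero, zero_mul, mul_zero]
    · have hle : N i ≤ M := Finset.le_sup hi
      have hval : algebraMap R (Localization.Away s) s ^ N i * (p.coeff i).val = algebraMap R _ (a i) := by
        rw [← hmk i, Away.val_mk, ← map_pow, Localization.mk_eq_mk', IsLocalization.mul_mk'_eq_mk'_of_mul]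
        exact IsLocalization.mk'_eq_iff_eq_mul.2 (by rw [← map_mul, mul_comm])
      rw [Algebra.smul_def]
      show _ = _ * ((p.coeff i).val * _)
      simp only [b, map_mul, map_pow, ← hval]
      conv_rhs => rw [← Nat.sub_add_cancel hle]
      rw [pow_add, pow_add]
      ring
  refine Polynomial.ext fun i => ?_
  by_cases hi : i ∈ p.support
  swap
  · simpa using hi
  have : b i = 0 := by
    have h := congrArg (GradedRing.proj 𝒜 ((M + i) * e)) hzero
    rw [map_sum, map_zero] at h
    simp only [GradedRing.proj_apply] at h
    rw [Finset.sum_eq_single i] at h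
    · rwa [DirectSum.decompose_of_mem_same 𝒜 (hb i hi)] at h
    · intro j hj hji
      rw [DirectSum.decompose_of_mem_ne 𝒜 (hb j hj)]
      intro heq
      exact hji (by have := Nat.eq_of_mul_eq_mul_right he heq; omega)
    · exact fun h => absurd hi h
  rw [Polynomial.coeff_zero, ← hmk i]
  refine HomogeneousLocalization.val_injective _ ?_
  rw [Away.val_mk, HomogeneousLocalization.val_zero, (mul_eq_zero.1 this).resolve_right (pow_ne_zero _ hs0)]
  exact Localization.mk_zero _

theorem ufd_of_ufd_away [IsNoetherianRing R] (s : R) (hs : s ∈ 𝒜 1) (hp : Prime s)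
    (h : UniqueFactorizationMonoid (HomogeneousLocalization.Away 𝒜 s)) : UniqueFactorizationMonoid R := by
  classical
  let A := HomogeneousLocalization.Away 𝒜 s
  let L := Localization.Away s
  have hle : Submonoid.powers s ≤ nonZeroDivisors R := powers_le_nonZeroDivisors_of_noZeroDivisors hp.ne_zero
  have : IsDomain L := IsLocalization.isDomain_of_le_nonZeroDivisors _ hle
  have hvalinj : Function.Injective (algebraMap A L) := HomogeneousLocalization.val_injective _
  have : IsDomain A := hvalinj.isDomain _
  let φ : Polynomial A →ₐ[A] L := Polynomial.aeval (algebraMap R L s)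
  have hφ : Function.Injective φ := (injective_iff_map_eq_zero φ).2 fun q hq =>
    (transcendental_iff.1 (transcendental_away 𝒜 1 Nat.one_pos s hs)) q hq
  letI : Algebra (Polynomial A) L := φ.toRingHom.toAlgebra
  have hX : (Polynomial.X : Polynomial A) ≠ 0 := Polynomial.X_ne_zero
  have hφX : φ Polynomial.X = algebraMap R L s := Polynomial.aeval_X _
  have hR : ∀ x : R, ∃ q, φ q = algebraMap R L x := by
    intro x
    rw [← DirectSum.sum_support_decompose 𝒜 x, map_sum]
    choose q hq using fun j : ℕ => (⟨Polynomial.C (Away.mk 𝒜 hs j (DirectSum.decompose 𝒜 x j : R) (by simp)) * Polynomial.X ^ j, by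
      rw [map_mul, map_pow, hφX, Polynomial.aeval_C]
      show (Away.mk 𝒜 hs j _ _).val * _ = _
      rw [Away.val_mk, ← map_pow, Localization.mk_eq_mk']
      exact IsLocalization.mk'_spec' L _ _ |> fun h => by rw [mul_comm]; exact h⟩ :
        ∃ q, φ q = algebraMap R L (DirectSum.decompose 𝒜 x j : R))
    exact ⟨∑ j ∈ (DirectSum.decompose 𝒜 x).support, q j, by rw [map_sum]; exact Finset.sum_congr rfl fun j _ => hq j⟩
  have hloc : IsLocalization (Submonoid.powers (Polynomial.X : Polynomial A)) L :=
    { map_units := by
        rintro ⟨_, k, rfl⟩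
        show IsUnit (φ (Polynomial.X ^ k))
        rw [map_pow, hφX]
        exact (IsLocalization.Away.algebraMap_isUnit s).pow k
      surj := fun z => by
        obtain ⟨⟨x, _, k, rfl⟩, hz⟩ := IsLocalization.surj (Submonoid.powers s) z
        obtain ⟨q, hq⟩ := hR x
        refine ⟨⟨q, _, k, rfl⟩, ?_⟩
        show z * φ (Polynomial.X ^ k) = φ q
        rw [hq, map_pow, hφX, ← map_pow]
        exact hz
      exists_of_eq := fun {x y} hxy => ⟨1, by rw [hφ hxy]⟩ }
  have : UniqueFactorizationMonoid L :=
    ufd_localization (Submonoid.powers (Polynomial.X : Polynomial A)) (powers_le_nonZeroDivisors_of_noZeroDivisors hX) L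
  have : IsLocalization (Submonoid.closure {s}) L := by
    rw [← Submonoid.powers_eq_closure]; infer_instance
  exact ufd_of_ufd_localization (P := {s}) (fun a ha => WfDvdMonoid.exists_factors a ha)
    (fun p hp' => by rw [Set.mem_singleton_iff] at hp'; exact hp' ▸ hp) L

end SMTLib
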