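import Groth.Prelude.Def_W4bk4grassmannianPl
import Mathlib.GroupTheory.Perm.Fin
import Mathlib.Data.Fin.Tuple.Sort

/-!
# Signed Plücker coordinates and minors
-/

universe u

namespace SMTLib

open MvPolynomial W4bk4grassmannian

variable {d n : ℕ}

/-- The number of inversions computes the sign of a permutation of `Fin d`. -/
lemma sign_eq_neg_one_pow (π : Equiv.Perm (Fin d)) :
    Equiv.Perm.sign π =
      (-1) ^ (Finset.univ.filter fun p : Fin d × Fin d => p.1 < p.2 ∧ π p.2 < π p.1).card := by
  rw [π.sign_eq_prod_prod_Iio, Finset.prod_sigma', ← Finset.prod_const]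
  rw [Finset.prod_ite, Finset.prod_const_one, one_mul, Finset.prod_const, Finset.prod_const]
  congr 1
  refine Finset.card_bij (fun x _ => (x.2, x.1)) ?_ ?_ ?_
  · rintro ⟨j, i⟩ hx
    simp only [Finset.mem_filter, Finset.mem_sigma, Finset.mem_Iio, Finset.mem_univ, true_and, not_lt] at hx ⊢
    exact ⟨hx.1, lt_of_le_of_ne hx.2 fun h => (π.injective.ne hx.1.ne') h⟩
  · rintro ⟨j, i⟩ - ⟨j', i'⟩ - h
    simp only [Prod.mk.injEq] at h
    obtain ⟨rfl, rfl⟩ := h
    rfl
  · rintro ⟨i, j⟩ hx
    simp only [Finset.mem_filter, Finset.mem_univ, true_and] at hx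
    refine ⟨⟨j, i⟩, ?_, rfl⟩
    simp only [Finset.mem_filter, Finset.mem_sigma, Finset.mem_Iio, Finset.mem_univ, true_and, not_lt]
    exact ⟨hx.1, hx.2.le⟩

lemma card_image_eq_iff (a : Fin d → Fin n) : (Finset.univ.image a).card = d ↔ Function.Injective a := by
  constructor
  · intro h
    have := Finset.card_image_iff.1 (show (Finset.univ.image a).card = (Finset.univ : Finset (Fin d)).card by
      rw [h, Finset.card_univ, Fintype.card_fin])
    simpa [Set.injOn_univ] using this
  · intro h
    rw [Finset.card_image_of_injective _ h, Finset.card_univ, Fintype.card_fin]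

/-- An injective tuple is its sorted tuple after a permutation of sign given by the inversions. -/
lemma exists_perm_sort (a : Fin d → Fin n) (h : (Finset.univ.image a).card = d) :
    ∃ π : Equiv.Perm (Fin d), a = (sortIdx d n a h).1 ∘ π ∧
      (Equiv.Perm.sign π : ℤ) = (-1) ^ invCount d n a := by
  have ha := (card_image_eq_iff a).1 h
  have hm : StrictMono (a ∘ Tuple.sort a) :=
    (Tuple.monotone_sort a).strictMono_of_injective (ha.comp (Tuple.sort a).injective)
  have e : a ∘ Tuple.sort a = (sortIdx d n a h).1 :=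
    Finset.orderEmbOfFin_unique h (fun x => Finset.mem_image.2 ⟨_, Finset.mem_univ _, rfl⟩) hm
  have e' : a = (sortIdx d n a h).1 ∘ (Tuple.sort a).symm := by
    rw [← e, Function.comp_assoc, Equiv.self_comp_symm, Function.comp_id]
  refine ⟨(Tuple.sort a).symm, e', ?_⟩
  rw [sign_eq_neg_one_pow, Units.val_pow_eq_pow_val, Units.val_neg, Units.val_one]
  congr 1
  unfold invCount
  congr 1
  refine Finset.filter_congr fun p _ => and_congr_right fun _ => ?_
  conv_rhs => rw [e']
  exact ((sortIdx d n a h).2.lt_iff_lt).symm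

section Eval

variable {K : Type u} [CommRing K] {R : Type u} [CommRing R] [Algebra K R]

/-- Evaluation of the Plücker coordinates at the minors of a matrix over an algebra. -/
noncomputable def evalAt (B : Matrix (Fin n) (Fin d) R) : PlRing K d n →ₐ[K] R :=
  MvPolynomial.aeval fun θ : Idx d n => (B.submatrix θ.1 id).det

lemma evalAt_X (B : Matrix (Fin n) (Fin d) R) (θ : Idx d n) :
    evalAt (K := K) B (X θ) = (B.submatrix θ.1 id).det := by rw [evalAt, aeval_X]

lemma evalAt_coord (B : Matrix (Fin n) (Fin d) R) (a : Fin d → Fin n) :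
    evalAt (K := K) B (coord K d n a) = (B.submatrix a id).det := by
  unfold coord
  by_cases h : (Finset.univ.image a).card = d
  · obtain ⟨π, hπ, hs⟩ := exists_perm_sort a h
    rw [dif_pos h, map_mul, map_pow, map_neg, map_one, evalAt_X]
    conv_rhs => rw [hπ, ← Function.comp_id (id : Fin d → Fin d), ← Matrix.submatrix_submatrix, Matrix.det_permute, hs]
    push_cast
    rfl
  · rw [dif_neg h, map_zero]
    rw [card_image_eq_iff] at h
    obtain ⟨s, t, hst, hne⟩ := Function.not_injective_iff.1 h
    exact (Matrix.det_zero_of_row_eq hne (funext fun j => by simp [hst])).symm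

lemma evalMinors_eq (A : Matrix (Fin n) (Fin d) K) (f : PlRing K d n) :
    evalMinors K d n A f = evalAt A f := rfl

lemma pluckerMap_eq : pluckerMap K d n = evalAt (Matrix.of fun i j => (X (i, j) : MatRing K d n)) := rfl

/-- Naturality in the algebra. -/
lemma map_evalAt {R' : Type u} [CommRing R'] [Algebra K R'] (φ : R →ₐ[K] R') (B : Matrix (Fin n) (Fin d) R)
    (f : PlRing K d n) : φ (evalAt B f) = evalAt (B.map φ) f := by
  have : φ.comp (evalAt (K := K) B) = evalAt (B.map φ) := MvPolynomial.algHom_ext fun θ => by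
    rw [AlgHom.comp_apply, evalAt_X, evalAt_X, AlgHom.map_det]
    congr 1
  exact AlgHom.congr_fun this f

end Eval

end SMTLib
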