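import Mathlib.Algebra.MvPolynomial.CommRing
import Mathlib.RingTheory.Polynomial.Basic
import Mathlib.Algebra.Polynomial.RingDivision
import Mathlib.RingTheory.Adjoin.Basic
import Mathlib.LinearAlgebra.FreeModule.Basic
import Mathlib.Order.Preorder.Chain
import Mathlib.Data.Finsupp.Weight
import Mathlib.RingTheory.Ideal.Quotient.Operations
import Mathlib.RingTheory.Polynomial.Tower

/-!
# Degenerations of algebras with straightening laws
-/

universe u v

namespace SMTLib

open MvPolynomial

variable {K : Type u} [Field K] {A : Type u} [CommRing A] [Algebra K A] {L : Type v} [PartialOrder L]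

/-- The supports which are chains. -/
abbrev ChainExp (L : Type v) [PartialOrder L] : Type v :=
  {e : L →₀ ℕ // IsChain (fun a b : L => a ≤ b) (e.support : Set L)}

lemma exists_pair {e : L →₀ ℕ} (h : ¬ IsChain (fun a b : L => a ≤ b) (e.support : Set L)) :
    ∃ a b e', ¬ a ≤ b ∧ ¬ b ≤ a ∧ e = e' + (Finsupp.single a 1 + Finsupp.single b 1) := by
  classical
  simp only [IsChain, Set.Pairwise, not_forall, not_or] at h
  obtain ⟨a, ha, b, hb, hab, h1, h2⟩ := h
  rw [Finset.mem_coe, Finsupp.mem_support_iff] at ha hb
  refine ⟨a, b, e - (Finsupp.single a 1 + Finsupp.single b 1), h1, h2, (tsub_add_cancel_of_le fun x => ?_).symm⟩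
  rw [Finsupp.add_apply, Finsupp.single_apply, Finsupp.single_apply]
  split_ifs with h1 h2 h2
  · exact absurd (h1.trans h2.symm) hab
  · subst h1; omega
  · subst h2; omega
  · omega

variable (φ : MvPolynomial L K →ₐ[K] A) (ω μ : L → ℕ) (lead : L → L → MvPolynomial L K)

/-- The degenerate ideal. -/
noncomputable def initIdeal : Ideal (MvPolynomial L K) :=
  Ideal.span {f | ∃ a b : L, ¬ a ≤ b ∧ ¬ b ≤ a ∧ f = X a * X b - lead a b}

/-- An element of the family attached to a monomial. -/
noncomputable def fam (e : L →₀ ℕ) : Polynomial A :=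
  Polynomial.C (φ (monomial e 1)) * Polynomial.X ^ Finsupp.weight ω e

lemma fam_add (e e' : L →₀ ℕ) : fam φ ω (e + e') = fam φ ω e * fam φ ω e' := by
  simp only [fam]
  rw [map_add (Finsupp.weight ω), pow_add, show monomial (e + e') (1 : K) = monomial e 1 * monomial e' 1 by rw [monomial_mul, one_mul], map_mul, map_mul]
  ring

variable (rest : L → L → MvPolynomial L K)

/-- The hypotheses of a degeneration. -/
structure Law : Prop where
  surj : Function.Surjective φ
  indep : LinearIndependent K fun e : ChainExp L => φ (monomial e.1 1)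
  eq : ∀ a b, ¬ a ≤ b → ¬ b ≤ a → φ (X a * X b) = φ (lead a b) + φ (rest a b)
  lead_mem : ∀ a b, ¬ a ≤ b → ¬ b ≤ a → ∀ x ∈ (lead a b).support,
    Finsupp.weight ω x = ω a + ω b ∧ Finsupp.weight μ x < μ a + μ b
  rest_mem : ∀ a b, ¬ a ≤ b → ¬ b ≤ a → ∀ x ∈ (rest a b).support,
    Finsupp.weight ω x < ω a + ω b ∧ Finsupp.weight μ x < μ a + μ b

variable {φ ω μ lead rest}

theorem exists_family (h : Law φ ω μ lead rest) :
    ∃ (R : Type u) (_ : CommRing R) (_ : Algebra K R) (_ : Algebra (Polynomial K) R)
      (_ : IsScalarTower K (Polynomial K) R),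
      Module.Free (Polynomial K) R ∧
      Nonempty ((R ⧸ Ideal.span {algebraMap (Polynomial K) R Polynomial.X}) ≃ₐ[K]
        (MvPolynomial L K ⧸ initIdeal lead)) ∧
      ∀ c : K, c ≠ 0 →
        Nonempty ((R ⧸ Ideal.span {algebraMap (Polynomial K) R (Polynomial.X - Polynomial.C c)}) ≃ₐ[K] A) := by
  classical
  letI alg : Algebra (Polynomial K) (Polynomial A) := (Polynomial.mapRingHom (algebraMap K A)).toAlgebra
  haveI : IsScalarTower K (Polynomial K) (Polynomial A) := IsScalarTower.of_algebraMap_eq fun x => by
    show _ = Polynomial.map _ (Polynomial.C x)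
    rw [Polynomial.map_C]
    rfl
  have hmap : ∀ r : Polynomial K, algebraMap (Polynomial K) (Polynomial A) r = r.map (algebraMap K A) := fun r => rfl
  let R₀ : Subalgebra (Polynomial K) (Polynomial A) :=
    Algebra.adjoin (Polynomial K) (Set.range fun a : L => fam φ ω (Finsupp.single a 1))
  let v : ChainExp L → Polynomial A := fun e => fam φ ω e.1
  let V := Submodule.span (Polynomial K) (Set.range v)
  -- straightening inside the family
  have hfam : ∀ (N : ℕ) (e : L →₀ ℕ), Finsupp.weight μ e ≤ N → fam φ ω e ∈ V := by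
    intro N
    induction N using Nat.strong_induction_on with
    | _ N ih =>
    intro e he
    by_cases hch : IsChain (fun a b : L => a ≤ b) (e.support : Set L)
    · exact Submodule.subset_span ⟨⟨e, hch⟩, rfl⟩
    obtain ⟨a, b, e', hab, hba, rfl⟩ := exists_pair hch
    have hw : ∀ g : L → ℕ, Finsupp.weight g (Finsupp.single a 1 + Finsupp.single b 1) = g a + g b := fun g => by
      simp [Finsupp.weight_single]
    have hexp : fam φ ω (Finsupp.single a 1 + Finsupp.single b 1) =
        ∑ x ∈ (lead a b).support, algebraMap (Polynomial K) (Polynomial A)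
          (Polynomial.C (coeff x (lead a b)) * Polynomial.X ^ (ω a + ω b - Finsupp.weight ω x)) * fam φ ω x +
        ∑ x ∈ (rest a b).support, algebraMap (Polynomial K) (Polynomial A)
          (Polynomial.C (coeff x (rest a b)) * Polynomial.X ^ (ω a + ω b - Finsupp.weight ω x)) * fam φ ω x := by
      have key : ∀ p : MvPolynomial L K, (∀ x ∈ p.support, Finsupp.weight ω x ≤ ω a + ω b) →
          Polynomial.C (φ p) * Polynomial.X ^ (ω a + ω b) = ∑ x ∈ p.support, algebraMap (Polynomial K) (Polynomial A)
            (Polynomial.C (coeff x p) * Polynomial.X ^ (ω a + ω b - Finsupp.weight ω x)) * fam φ ω x := by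
        intro p hp
        conv_lhs => rw [p.as_sum]
        rw [map_sum, map_sum, Finset.sum_mul]
        refine Finset.sum_congr rfl fun x hx => ?_
        rw [hmap, fam, Polynomial.map_mul, Polynomial.map_C, Polynomial.map_pow, Polynomial.map_X,
          show monomial x (coeff x p) = coeff x p • monomial x (1 : K) by simp [smul_monomial], map_smul,
          Algebra.smul_def, map_mul]
        conv_lhs => rw [← Nat.sub_add_cancel (hp x hx), pow_add]
        ring
      rw [← key _ fun x hx => (h.lead_mem a b hab hba x hx).1.le,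
        ← key _ fun x hx => (h.rest_mem a b hab hba x hx).1.le, ← add_mul, ← map_add, ← h.eq a b hab hba, fam, hw,
        X, X, monomial_mul, one_mul]
    rw [fam_add, hexp, mul_add, Finset.mul_sum, Finset.mul_sum]
    have hmem : ∀ (r : Polynomial K) (x : L →₀ ℕ), Finsupp.weight μ x < μ a + μ b →
        fam φ ω e' * (algebraMap (Polynomial K) (Polynomial A) r * fam φ ω x) ∈ V := by
      intro r x hx
      rw [mul_left_comm, ← fam_add, ← Algebra.smul_def]
      rw [map_add, hw] at he
      exact V.smul_mem _ (ih (Finsupp.weight μ (e' + x)) (by rw [map_add]; omega) _ le_rfl)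
    exact V.add_mem (V.sum_mem fun x hx => hmem _ _ (h.lead_mem a b hab hba x hx).2)
      (V.sum_mem fun x hx => hmem _ _ (h.rest_mem a b hab hba x hx).2)
  have hfam_mem : ∀ e : L →₀ ℕ, fam φ ω e ∈ R₀ := by
    intro e
    induction e using Finsupp.induction with
    | zero => simp [fam]
    | single_add a n f _ _ ih =>
      rw [fam_add]
      refine R₀.mul_mem ?_ ih
      clear * - 
      induction n with
      | zero => simp [fam]
      | succ n ihn =>
        rw [Finsupp.single_add, fam_add]
        exact R₀.mul_mem ihn (Algebra.subset_adjoin ⟨a, rfl⟩)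
  have hRV : R₀.toSubmodule = V := by
    refine le_antisymm ?_ (Submodule.span_le.2 ?_)
    · rw [Algebra.adjoin_eq_span, Submodule.span_le]
      intro x hx
      suffices ∃ e, x = fam φ ω e by
        obtain ⟨e, rfl⟩ := this
        exact hfam _ e le_rfl
      induction hx using Submonoid.closure_induction with
      | mem x hx => obtain ⟨a, rfl⟩ := hx; exact ⟨_, rfl⟩
      | one => exact ⟨0, by simp [fam]⟩
      | mul x y _ _ hx hy => obtain ⟨⟨e, rfl⟩, ⟨e', rfl⟩⟩ := And.intro hx hy; exact ⟨e + e', (fam_add φ ω e e').symm⟩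
    · rintro _ ⟨e, rfl⟩
      exact hfam_mem e.1
  have hvcoeff : ∀ (r : Polynomial K) (e : ChainExp L) (k : ℕ), (r • v e).coeff k =
      if Finsupp.weight ω e.1 ≤ k then r.coeff (k - Finsupp.weight ω e.1) • φ (monomial e.1 1) else 0 := by
    intro r e k
    rw [Algebra.smul_def, hmap]
    simp only [v, fam]
    rw [← mul_assoc, Polynomial.coeff_mul_X_pow']
    split_ifs
    · rw [Polynomial.coeff_mul_C, Polynomial.coeff_map, ← Algebra.smul_def]
    · rfl
  have hvli : LinearIndependent (Polynomial K) v := by
    rw [linearIndependent_iff']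
    intro s g hg e he
    ext k
    have := congrArg (fun p : Polynomial A => p.coeff (k + Finsupp.weight ω e.1)) hg
    simp only [Polynomial.finsetSum_coeff, hvcoeff, Polynomial.coeff_zero] at this
    have h0 := (linearIndependent_iff'.1 h.indep s (fun i => if Finsupp.weight ω i.1 ≤ k + Finsupp.weight ω e.1 then
      (g i).coeff (k + Finsupp.weight ω e.1 - Finsupp.weight ω i.1) else 0) (by
        rw [← this]; exact Finset.sum_congr rfl fun i _ => by split_ifs <;> simp)) e he
    simpa using h0
  let vR : ChainExp L → R₀ := fun e => ⟨v e, hfam_mem e.1⟩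
  have hvRli : LinearIndependent (Polynomial K) vR := LinearIndependent.of_comp R₀.val.toLinearMap hvli
  have hvRspan : ⊤ ≤ Submodule.span (Polynomial K) (Set.range vR) := by
    rintro ⟨x, hx⟩ -
    have hx' : x ∈ V := hRV ▸ hx
    rw [← Submodule.apply_mem_span_image_iff_mem_span (f := R₀.val.toLinearMap) Subtype.val_injective]
    rwa [← Set.range_comp]
  let B : Module.Basis (ChainExp L) (Polynomial K) R₀ := Module.Basis.mk hvRli hvRspan
  have hB : ∀ e, B e = vR e := fun e => Module.Basis.mk_apply hvRli hvRspan e
  -- divisibility criterion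
  have hdiv : ∀ (p : Polynomial K) (x : R₀), (∀ e, p ∣ B.repr x e) →
      x ∈ Ideal.span {algebraMap (Polynomial K) R₀ p} := by
    intro p x hx
    rw [← B.linearCombination_repr x, Finsupp.linearCombination_apply]
    refine Submodule.sum_mem _ fun e _ => ?_
    obtain ⟨q, hq⟩ := hx e
    show B.repr x e • B e ∈ _
    rw [hq, mul_smul, Algebra.smul_def]
    exact Ideal.mul_mem_right _ _ (Ideal.subset_span rfl)
  refine ⟨R₀, inferInstance, inferInstance, inferInstance, inferInstance, Module.Free.of_basis B, ?_, ?_⟩
  · let I₀ := Ideal.span {algebraMap (Polynomial K) R₀ Polynomial.X}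
    let Θ : MvPolynomial L K →ₐ[K] R₀ ⧸ I₀ :=
      MvPolynomial.aeval fun a => Ideal.Quotient.mk I₀ ⟨fam φ ω (Finsupp.single a 1), Algebra.subset_adjoin ⟨a, rfl⟩⟩
    have hΘ : ∀ e : L →₀ ℕ, Θ (monomial e 1) = Ideal.Quotient.mk I₀ ⟨fam φ ω e, hfam_mem e⟩ := by
      intro e
      induction e using Finsupp.induction with
      | zero =>
        rw [show monomial (0 : L →₀ ℕ) (1 : K) = 1 from rfl, map_one, ← map_one (Ideal.Quotient.mk I₀)]
        congr 1
        exact Subtype.ext (by simp [fam])
      | single_add a n f _ _ ih =>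
        rw [show monomial (Finsupp.single a n + f) (1 : K) = monomial (Finsupp.single a n) 1 * monomial f 1 by
          rw [monomial_mul, one_mul], map_mul, ih, ← X_pow_eq_monomial, map_pow, MvPolynomial.aeval_X, ← map_pow,
          ← map_mul]
        congr 1
        refine Subtype.ext ?_
        show fam φ ω (Finsupp.single a 1) ^ n * fam φ ω f = fam φ ω (Finsupp.single a n + f)
        rw [fam_add]
        congr 1
        clear * -
        induction n with
        | zero => simp [fam]
        | succ n ihn => rw [pow_succ, ihn, ← fam_add, ← Finsupp.single_add]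
    have hcrit : ∀ (p : MvPolynomial L K) (x : R₀), x.1 = ∑ e ∈ p.support, Polynomial.C (coeff e p • φ (monomial e 1)) *
        Polynomial.X ^ Finsupp.weight ω e → Θ p = Ideal.Quotient.mk I₀ x := by
      intro p x hx
      conv_lhs => rw [p.as_sum]
      rw [map_sum]
      have : x = ∑ e ∈ p.support, coeff e p • (⟨fam φ ω e, hfam_mem e⟩ : R₀) := by
        refine Subtype.ext ?_
        rw [hx, AddSubmonoidClass.coe_finsetSum]
        refine Finset.sum_congr rfl fun e _ => ?_
        show _ = coeff e p • fam φ ω e
        rw [fam, ← smul_mul_assoc, Polynomial.smul_C]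
      rw [this, map_sum]
      refine Finset.sum_congr rfl fun e _ => ?_
      rw [show monomial e (coeff e p) = coeff e p • monomial e (1 : K) by simp [smul_monomial], map_smul, hΘ]
      rfl
    have hker : initIdeal lead ≤ RingHom.ker Θ.toRingHom := by
      rw [initIdeal, Ideal.span_le]
      rintro _ ⟨a, b, hab, hba, rfl⟩
      show Θ (X a * X b - lead a b) = 0
      rw [map_sub, X, X, monomial_mul, one_mul, hΘ]
      let xl : R₀ := ∑ e ∈ (lead a b).support, coeff e (lead a b) • (⟨fam φ ω e, hfam_mem e⟩ : R₀)
      rw [hcrit (lead a b) xl ?_, ← map_sub, Ideal.Quotient.eq_zero_iff_mem]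
      swap
      · rw [AddSubmonoidClass.coe_finsetSum]
        refine Finset.sum_congr rfl fun e _ => ?_
        show coeff e (lead a b) • fam φ ω e = _
        rw [fam, ← smul_mul_assoc, Polynomial.smul_C]
      let y : R₀ := ∑ e ∈ (rest a b).support, algebraMap (Polynomial K) R₀
        (Polynomial.C (coeff e (rest a b)) * Polynomial.X ^ (ω a + ω b - Finsupp.weight ω e - 1)) *
          (⟨fam φ ω e, hfam_mem e⟩ : R₀)
      refine Ideal.mem_span_singleton.2 ⟨y, Subtype.ext ?_⟩
      have hw : Finsupp.weight ω (Finsupp.single a 1 + Finsupp.single b 1) = ω a + ω b := by simp [Finsupp.weight_single]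
      show fam φ ω (Finsupp.single a 1 + Finsupp.single b 1) - xl.1 =
        algebraMap (Polynomial K) (Polynomial A) Polynomial.X * y.1
      rw [AddSubmonoidClass.coe_finsetSum, AddSubmonoidClass.coe_finsetSum, fam, hw,
        show monomial (Finsupp.single a 1 + Finsupp.single b 1) (1 : K) = X a * X b by rw [X, X, monomial_mul, one_mul],
        h.eq a b hab hba, map_add, add_mul, Finset.mul_sum]
      have hl : ∑ e ∈ (lead a b).support, (coeff e (lead a b) • (⟨fam φ ω e, hfam_mem e⟩ : R₀)).1 =
          Polynomial.C (φ (lead a b)) * Polynomial.X ^ (ω a + ω b) := by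
        conv_rhs => rw [(lead a b).as_sum, map_sum, map_sum, Finset.sum_mul]
        refine Finset.sum_congr rfl fun e he => ?_
        show coeff e (lead a b) • fam φ ω e = _
        rw [fam, ← smul_mul_assoc, Polynomial.smul_C, (h.lead_mem a b hab hba e he).1, ← map_smul φ]
        simp [smul_monomial]
      rw [hl, add_sub_cancel_left]
      conv_lhs => rw [(rest a b).as_sum, map_sum, map_sum, Finset.sum_mul]
      refine Finset.sum_congr rfl fun e he => ?_
      show _ = algebraMap (Polynomial K) (Polynomial A) Polynomial.X * (algebraMap (Polynomial K) (Polynomial A)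
        (Polynomial.C (coeff e (rest a b)) * Polynomial.X ^ (ω a + ω b - Finsupp.weight ω e - 1)) * fam φ ω e)
      rw [hmap, hmap, Polynomial.map_X, Polynomial.map_mul, Polynomial.map_C, Polynomial.map_pow, Polynomial.map_X, fam,
        show monomial e (coeff e (rest a b)) = coeff e (rest a b) • monomial e (1 : K) by simp [smul_monomial],
        map_smul, Algebra.smul_def, map_mul]
      have hlt := (h.rest_mem a b hab hba e he).1
      conv_lhs => rw [show ω a + ω b = 1 + (ω a + ω b - Finsupp.weight ω e - 1) + Finsupp.weight ω e by omega,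
        pow_add, pow_add, pow_one]
      ring
    let Θ' : (MvPolynomial L K ⧸ initIdeal lead) →ₐ[K] R₀ ⧸ I₀ := Ideal.Quotient.liftₐ _ Θ fun x hx => hker hx
    -- chain monomials span the source
    have hsrc : ∀ (N : ℕ) (e : L →₀ ℕ), Finsupp.weight μ e ≤ N →
        Ideal.Quotient.mkₐ K (initIdeal lead) (monomial e 1) ∈ Submodule.span K
          (Set.range fun e : ChainExp L => Ideal.Quotient.mkₐ K (initIdeal lead) (monomial e.1 1)) := by
      intro N
      induction N using Nat.strong_induction_on with
      | _ N ih =>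
      intro e he
      by_cases hch : IsChain (fun a b : L => a ≤ b) (e.support : Set L)
      · exact Submodule.subset_span ⟨⟨e, hch⟩, rfl⟩
      obtain ⟨a, b, e', hab, hba, rfl⟩ := exists_pair hch
      have heq : Ideal.Quotient.mkₐ K (initIdeal lead) (monomial (e' + (Finsupp.single a 1 + Finsupp.single b 1)) 1) =
          Ideal.Quotient.mkₐ K (initIdeal lead) (monomial e' 1 * lead a b) := by
        rw [Ideal.Quotient.mkₐ_eq_mk, Ideal.Quotient.eq]
        rw [show monomial (e' + (Finsupp.single a 1 + Finsupp.single b 1)) (1 : K) = monomial e' 1 * (X a * X b) by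
          rw [X, X, monomial_mul, monomial_mul, one_mul, one_mul], ← mul_sub]
        exact Ideal.mul_mem_left _ _ (Ideal.subset_span ⟨a, b, hab, hba, rfl⟩)
      rw [heq, (lead a b).as_sum, Finset.mul_sum, map_sum]
      refine Submodule.sum_mem _ fun x hx => ?_
      rw [monomial_mul, one_mul, show monomial (e' + x) (coeff x (lead a b)) = coeff x (lead a b) • monomial (e' + x) (1 : K)
        by simp [smul_monomial], map_smul]
      rw [map_add (Finsupp.weight μ), show Finsupp.weight μ (Finsupp.single a 1 + Finsupp.single b 1) = μ a + μ b by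
        simp [Finsupp.weight_single]] at he
      exact Submodule.smul_mem _ _ (ih (Finsupp.weight μ (e' + x))
        (by rw [map_add]; have := (h.lead_mem a b hab hba x hx).2; omega) _ le_rfl)
    have hred : ∀ q : MvPolynomial L K ⧸ initIdeal lead, ∃ g : ChainExp L →₀ K,
        g.sum (fun e r => r • Ideal.Quotient.mkₐ K (initIdeal lead) (monomial e.1 1)) = q := by
      intro q
      obtain ⟨p, rfl⟩ := Ideal.Quotient.mkₐ_surjective K _ q
      rw [← Finsupp.mem_span_range_iff_exists_finsupp, p.as_sum, map_sum]
      refine Submodule.sum_mem _ fun e _ => ?_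
      rw [show monomial e (coeff e p) = coeff e p • monomial e (1 : K) by simp [smul_monomial], map_smul]
      exact Submodule.smul_mem _ _ (hsrc _ e le_rfl)
    refine ⟨(AlgEquiv.ofBijective Θ' ⟨(injective_iff_map_eq_zero _).2 fun q hq => ?_, fun q => ?_⟩).symm⟩
    · obtain ⟨g, rfl⟩ := hred q
      rw [map_finsuppSum] at hq
      simp only [map_smul] at hq
      have hΘ' : ∀ e : ChainExp L, Θ' (Ideal.Quotient.mkₐ K (initIdeal lead) (monomial e.1 1)) =
          Ideal.Quotient.mk I₀ (B e) := fun e => (hΘ e.1).trans (by rw [hB])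
      simp only [hΘ'] at hq
      have hq' : (g.sum fun e r => Polynomial.C r • B e) ∈ I₀ := by
        rw [← Ideal.Quotient.eq_zero_iff_mem, ← Ideal.Quotient.mkₐ_eq_mk K, map_finsuppSum, ← hq]
        refine Finset.sum_congr rfl fun e _ => ?_
        show Ideal.Quotient.mk I₀ (Polynomial.C (g e) • B e) = g e • Ideal.Quotient.mk I₀ (B e)
        rw [← Polynomial.algebraMap_eq, algebraMap_smul]
        rfl
      obtain ⟨y, hy⟩ := Ideal.mem_span_singleton.1 hq'
      have : g = 0 := by
        ext e
        have := congrArg (fun x => (B.repr x e).coeff 0) hy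
        simp only [map_finsuppSum, map_smul, Module.Basis.repr_self, Finsupp.smul_single, smul_eq_mul, mul_one,
          ← Algebra.smul_def, Finsupp.smul_apply, Polynomial.mul_coeff_zero, Polynomial.coeff_X_zero, zero_mul] at this
        rw [Finsupp.sum_apply, Finsupp.sum_eq_single e (fun x _ hx => by simp [hx]) (fun _ => by simp)] at this
        simpa using this
      rw [this, Finsupp.sum_zero_index]
    · obtain ⟨x, rfl⟩ := Ideal.Quotient.mk_surjective q
      refine ⟨∑ e ∈ (B.repr x).support, (B.repr x e).coeff 0 • Ideal.Quotient.mkₐ K (initIdeal lead) (monomial e.1 1), ?_⟩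
      rw [map_sum]
      have : x - ∑ e ∈ (B.repr x).support, (B.repr x e).coeff 0 • B e ∈ I₀ := by
        nth_rewrite 1 [← B.linearCombination_repr x]
        rw [Finsupp.linearCombination_apply, Finsupp.sum, ← Finset.sum_sub_distrib]
        refine Submodule.sum_mem _ fun e _ => ?_
        rw [← algebraMap_smul (Polynomial K) ((B.repr x e).coeff 0) (B e), ← sub_smul, Algebra.smul_def]
        refine Ideal.mul_mem_right _ _ (Ideal.mem_span_singleton.2 (map_dvd _ (Polynomial.X_dvd_iff.2 ?_)))
        simp [Polynomial.algebraMap_eq]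
      rw [Ideal.Quotient.mk_eq_mk_iff_sub_mem (x := x) (y := ∑ e ∈ (B.repr x).support, (B.repr x e).coeff 0 • B e) |>.2 this,
        ← Ideal.Quotient.mkₐ_eq_mk K, map_sum]
      refine Finset.sum_congr rfl fun e _ => ?_
      rw [map_smul, map_smul]
      congr 1
      exact (hΘ e.1).trans (by rw [hB]; rfl)
  · intro c hc
    let ev : R₀ →ₐ[K] A := ((Polynomial.aeval (algebraMap K A c)).restrictScalars K).comp (R₀.val.restrictScalars K)
    have hev : ∀ (r : Polynomial K) (x : R₀), ev (r • x) = r.eval c • ev x := by
      intro r x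
      show Polynomial.aeval (algebraMap K A c) (algebraMap (Polynomial K) (Polynomial A) r * x.1) = _
      rw [hmap, map_mul, Polynomial.aeval_map_algebraMap A, Polynomial.aeval_algebraMap_apply, ← Algebra.smul_def,
        Polynomial.coe_aeval_eq_eval]
      rfl
    have hevB : ∀ e : ChainExp L, ev (B e) = c ^ Finsupp.weight ω e.1 • φ (monomial e.1 1) := fun e => by
      rw [hB]
      show Polynomial.aeval (algebraMap K A c) (fam φ ω e.1) = _
      rw [fam, map_mul, map_pow, Polynomial.aeval_X, Polynomial.aeval_C, ← map_pow, Algebra.smul_def, mul_comm]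
      rfl
    have hsurj : Function.Surjective ev := by
      intro y
      obtain ⟨p, rfl⟩ := h.surj y
      rw [← AlgHom.mem_range, p.as_sum, map_sum]
      refine Subalgebra.sum_mem _ fun e _ => ?_
      rw [show monomial e (coeff e p) = coeff e p • monomial e (1 : K) by simp [smul_monomial], map_smul]
      refine Subalgebra.smul_mem _ ((AlgHom.mem_range _).2 ⟨(c ^ Finsupp.weight ω e)⁻¹ • (⟨fam φ ω e, hfam_mem e⟩ : R₀), ?_⟩) _
      rw [map_smul]
      show _ • Polynomial.aeval (algebraMap K A c) (fam φ ω e) = _
      rw [fam, map_mul, map_pow, Polynomial.aeval_X, Polynomial.aeval_C, ← map_pow, Algebra.algebraMap_self,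
        RingHom.id_apply, mul_comm, ← Algebra.smul_def, smul_smul, inv_mul_cancel₀ (pow_ne_zero _ hc), one_smul]
    have hker : RingHom.ker ev = Ideal.span {algebraMap (Polynomial K) R₀ (Polynomial.X - Polynomial.C c)} := by
      refine le_antisymm (fun x hx => hdiv _ x fun e => ?_) ((Ideal.span_singleton_le_iff_mem _).2 ?_)
      · rw [RingHom.mem_ker, ← B.linearCombination_repr x, Finsupp.linearCombination_apply, map_finsuppSum] at hx
        simp only [hev, hevB, smul_smul] at hx
        rw [Polynomial.dvd_iff_isRoot]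
        by_cases he : e ∈ (B.repr x).support
        · exact (mul_eq_zero.1 (linearIndependent_iff'.1 h.indep _ _ hx e he)).resolve_right (pow_ne_zero _ hc)
        · rw [Finsupp.notMem_support_iff.1 he]; simp
      · rw [RingHom.mem_ker, Algebra.algebraMap_eq_smul_one, hev]
        simp
    exact ⟨(Ideal.quotientEquivAlgOfEq K hker.symm).trans (Ideal.quotientKerAlgEquivOfSurjective hsurj)⟩

end SMTLib
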