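import Groth.Agent.SMTLib.Divisors
import Groth.Agent.SMTLib.Dim
import Groth.Agent.SMTLib.RegSeq

/-!
# A regular sequence on Schubert varieties and unions of divisors
-/

universe u

namespace SMTLib

open MvPolynomial W4bk4grassmannian RingTheory.Sequence Pointwise

variable {K : Type u} [Field K] {d n : ℕ}

lemma codeg_add (θ : Idx d n) : codeg θ + ∑ t : Fin d, t.val = wt θ.1 := by
  rw [codeg, wt, ← Finset.sum_add_distrib]
  exact Finset.sum_congr rfl fun t _ => by have := fin_val_le θ.1 θ.2 t; omega

lemma codeg_lt_of_lt {a b : Idx d n} (h : a < b) : codeg a < codeg b := by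
  have := wt_strictMono h
  have := codeg_add a
  have := codeg_add b
  omega

lemma codeg_le_of_le {a b : Idx d n} (h : a ≤ b) : codeg a ≤ codeg b := by
  rcases h.lt_or_eq with h | rfl
  exacts [(codeg_lt_of_lt h).le, le_rfl]

lemma codeg_sup_add_inf (a b : Idx d n) :
    codeg (W4bk4grassmannian.sup a b) + codeg (W4bk4grassmannian.inf a b) = codeg a + codeg b := by
  have h : wt (W4bk4grassmannian.sup a b).1 + wt (W4bk4grassmannian.inf a b).1 = wt a.1 + wt b.1 := by
    rw [wt, wt, wt, wt, ← Finset.sum_add_distrib, ← Finset.sum_add_distrib]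
    refine Finset.sum_congr rfl fun t _ => ?_
    simp only [W4bk4grassmannian.sup, W4bk4grassmannian.inf]
    rcases le_total (a.1 t) (b.1 t) with h | h <;> simp [h] <;> omega
  have := codeg_add (W4bk4grassmannian.sup a b)
  have := codeg_add (W4bk4grassmannian.inf a b)
  have := codeg_add a
  have := codeg_add b
  omega

/-- Two divisors meet in a divisor. -/
lemma inf_mem_divisors {τ φ φ' : Idx d n} (h : φ ∈ divisors τ) (h' : φ' ∈ divisors τ) (hne : φ ≠ φ') :
    W4bk4grassmannian.inf φ φ' ∈ divisors φ' := by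
  obtain ⟨h1, h2⟩ := h
  obtain ⟨h1', h2'⟩ := h'
  have hsup : W4bk4grassmannian.sup φ φ' = τ := by
    by_contra hn
    have hlt : W4bk4grassmannian.sup φ φ' < τ :=
      lt_of_le_of_ne (fun t => max_le (h1.le t) (h1'.le t)) hn
    have hge : φ < W4bk4grassmannian.sup φ φ' := lt_of_le_of_ne (fun t => le_max_left _ _) fun e => by
      have hle : φ' ≤ φ := fun t => (le_max_right _ _).trans_eq (by
        show (W4bk4grassmannian.sup φ φ').1 t = φ.1 t
        rw [← e])
      have := codeg_lt_of_lt (lt_of_le_of_ne hle hne.symm)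
      omega
    have := codeg_lt_of_lt hlt
    have := codeg_lt_of_lt hge
    omega
  have hadd := codeg_sup_add_inf φ φ'
  rw [hsup] at hadd
  refine ⟨lt_of_le_of_ne (fun t => min_le_right _ _) fun e => ?_, by omega⟩
  rw [e] at hadd
  omega

variable (K d n)

/-- The sum of the coordinates of a given rank. -/
noncomputable def rankSum (k : ℕ) : PlRing K d n := ∑ φ ∈ Finset.univ.filter (fun φ : Idx d n => codeg φ = k), X φ

/-- The rank sums, in decreasing order. -/
noncomputable def rankList : ℕ → List (PlRing K d n)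
  | 0 => [rankSum K d n 0]
  | m + 1 => rankSum K d n (m + 1) :: rankList m

variable {K d n}

lemma rankSum_mem {φ : Idx d n} {k : ℕ} (h : codeg φ < k) : rankSum K d n k ∈ schubertVanishing K d n φ := by
  refine Submodule.sum_mem _ fun ψ hψ => plIdeal_le_schubertVanishing φ (Ideal.subset_span (Or.inr ⟨ψ, fun hle => ?_, rfl⟩))
  have := codeg_le_of_le hle
  rw [(Finset.mem_filter.1 hψ).2] at this
  omega

lemma rankSum_sub_mem (φ : Idx d n) : rankSum K d n (codeg φ) - X φ ∈ schubertVanishing K d n φ := by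
  classical
  have hφ : φ ∈ Finset.univ.filter (fun ψ : Idx d n => codeg ψ = codeg φ) := Finset.mem_filter.2 ⟨Finset.mem_univ φ, rfl⟩
  rw [rankSum, ← Finset.add_sum_erase _ _ hφ, add_sub_cancel_left]
  refine Submodule.sum_mem _ fun ψ hψ => plIdeal_le_schubertVanishing φ (Ideal.subset_span (Or.inr ⟨ψ, fun hle => ?_, rfl⟩))
  obtain ⟨hne, hψ⟩ := Finset.mem_erase.1 hψ
  have := codeg_lt_of_lt (lt_of_le_of_ne hle hne)
  rw [(Finset.mem_filter.1 hψ).2] at this
  omega

variable [Infinite K]

lemma X_notMem (hd : 0 < d) {φ θ : Idx d n} (h : θ ≤ φ) : (X θ : PlRing K d n) ∉ schubertVanishing K d n φ := by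
  intro hmem
  have := schubertVanishing_le_ker φ hmem
  rw [RingHom.mem_ker] at this
  exact (degree_cellMap_X (K := K) φ θ h).1.ne_zero this

/-- The ideal of a union. -/
noncomputable def unionIdeal (T : Finset (Idx d n)) : Ideal (PlRing K d n) := ⨅ φ ∈ T, schubertVanishing K d n φ

omit [Infinite K] in
lemma mem_unionIdeal {T : Finset (Idx d n)} {f : PlRing K d n} :
    f ∈ unionIdeal T ↔ ∀ φ ∈ T, f ∈ schubertVanishing K d n φ := by
  simp [unionIdeal, Submodule.mem_iInf]

/-- Sums distribute over intersections of Schubert ideals. -/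
lemma unionIdeal_sup (hd : 0 < d) (T : Finset (Idx d n)) (φ₀ : Idx d n) :
    unionIdeal T ⊔ schubertVanishing K d n φ₀ =
      unionIdeal (T.image fun φ => W4bk4grassmannian.inf φ φ₀) := by
  classical
  refine le_antisymm (sup_le (fun f hf => ?_) (fun f hf => ?_)) (fun f hf => ?_)
  · rw [mem_unionIdeal] at hf ⊢
    intro ψ hψ
    obtain ⟨φ, hφ, rfl⟩ := Finset.mem_image.1 hψ
    exact schubertVanishing_antitone hd (fun t => min_le_left _ _) (hf φ hφ)
  · rw [mem_unionIdeal]
    intro ψ hψ
    obtain ⟨φ, -, rfl⟩ := Finset.mem_image.1 hψ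
    exact schubertVanishing_antitone hd (fun t => min_le_right _ _) hf
  rw [mem_unionIdeal] at hf
  obtain ⟨a, ha⟩ := exists_repr f
  set L := fun b : Std d n →₀ K => Finsupp.linearCombination K (fun c : Std d n => chainMon K c.2.1) b
  let a₁ := a.filter fun c => c.LE φ₀
  let a₂ := a.filter fun c => ¬ c.LE φ₀
  have h1 : L a₁ ∈ unionIdeal T := by
    rw [mem_unionIdeal]
    intro φ hφ
    refine (mem_iff_coeff hd φ (L a₁) a₁ (by simp [L])).2 fun c hc => ?_
    by_cases hc0 : c.LE φ₀
    · simp only [a₁, Finsupp.filter_apply, if_pos hc0]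
      exact (mem_iff_coeff hd _ f a (ha _)).1 (hf _ (Finset.mem_image.2 ⟨φ, hφ, rfl⟩)) c
        ((Std.le_inf_iff c φ φ₀).2 ⟨hc, hc0⟩)
    · simp [a₁, Finsupp.filter_apply, hc0]
  have h2 : L a₂ ∈ schubertVanishing K d n φ₀ :=
    (mem_iff_coeff hd φ₀ (L a₂) a₂ (by simp [L])).2 fun c hc => by simp [a₂, Finsupp.filter_apply, hc]
  have : f = L a₁ + (L a₂ + (f - L a)) := by
    have : L a = L a₁ + L a₂ := by
      rw [← map_add]; simp only [L, a₁, a₂, Finsupp.filter_add_filter_not]
    rw [this]; ring
  rw [this]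
  exact Submodule.add_mem_sup h1 (Ideal.add_mem _ h2 (ha φ₀))

/-- The coordinate ring as a module. -/
abbrev coordMod (I : Ideal (PlRing K d n)) : Type u := PlRing K d n ⧸ I

omit [Infinite K] in
lemma isWeaklyRegular_cons_quot (I : Ideal (PlRing K d n)) (r : PlRing K d n) (rs : List (PlRing K d n))
    (h1 : IsSMulRegular (coordMod I) r) (h2 : IsWeaklyRegular (coordMod (I ⊔ Ideal.span {r})) rs) :
    IsWeaklyRegular (coordMod I) (r :: rs) := by
  rw [isWeaklyRegular_cons_iff]
  refine ⟨h1, ?_⟩
  have h : (r • ⊤ : Submodule (PlRing K d n) (coordMod I)) = Submodule.map (Submodule.mkQ I) (Ideal.span {r}) := by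
    ext y
    rw [Submodule.mem_smul_pointwise_iff_exists, Submodule.mem_map]
    constructor
    · rintro ⟨z, -, rfl⟩
      obtain ⟨z, rfl⟩ := Submodule.mkQ_surjective _ z
      exact ⟨r * z, Ideal.mul_mem_right _ _ (Ideal.subset_span rfl), (map_smul (Submodule.mkQ I) r z)⟩
    · rintro ⟨z, hz, rfl⟩
      obtain ⟨w, rfl⟩ := Ideal.mem_span_singleton.1 hz
      exact ⟨Submodule.mkQ I w, trivial, (map_smul (Submodule.mkQ I) r w).symm⟩
  exact (((Submodule.quotEquivOfEq _ _ h).trans
    (Submodule.quotientQuotientEquivQuotientSup I (Ideal.span {r}))).isWeaklyRegular_congr rs).2 h2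

lemma sup_span_rankSum (τ : Idx d n) :
    schubertVanishing K d n τ ⊔ Ideal.span {rankSum K d n (codeg τ)} =
      schubertVanishing K d n τ ⊔ Ideal.span {X τ} := by
  have h := rankSum_sub_mem (K := K) τ
  refine le_antisymm (sup_le le_sup_left ?_) (sup_le le_sup_left ?_) <;>
    rw [Ideal.span_singleton_le_iff_mem]
  · simpa using Ideal.add_mem _ (Ideal.mem_sup_left h : _ ∈ schubertVanishing K d n τ ⊔ Ideal.span {X τ})
      (Ideal.mem_sup_right (Ideal.subset_span rfl))
  · simpa using Ideal.sub_mem _ (Ideal.mem_sup_right (Ideal.subset_span rfl) :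
      rankSum K d n (codeg τ) ∈ schubertVanishing K d n τ ⊔ Ideal.span {rankSum K d n (codeg τ)})
      (Ideal.mem_sup_left h)

lemma isSMulRegular_rankSum (hd : 0 < d) (τ : Idx d n) :
    IsSMulRegular (coordMod (schubertVanishing K d n τ)) (rankSum K d n (codeg τ)) := by
  refine (isSMulRegular_quotient_iff_mem_of_smul_mem _ _).2 fun x hx => ?_
  refine ((isPrime_schubertVanishing hd τ).mem_or_mem hx).resolve_left fun h => X_notMem (K := K) hd (le_refl τ) ?_
  simpa using Ideal.sub_mem _ h (rankSum_sub_mem (K := K) τ)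

theorem isWeaklyRegular_rankList (hd : 0 < d) (hdn : d ≤ n) :
    ∀ m, (∀ φ : Idx d n, codeg φ = m → IsWeaklyRegular (coordMod (K := K) (schubertVanishing K d n φ)) (rankList K d n m)) ∧
      ∀ (τ : Idx d n) (T : Finset (Idx d n)), codeg τ = m + 1 → (∀ φ ∈ T, φ ∈ divisors τ) → T.Nonempty →
        IsWeaklyRegular (coordMod (unionIdeal (K := K) T)) (rankList K d n m) := by
  classical
  intro m
  induction m with
  | zero =>
    have h0 : ∀ φ : Idx d n, codeg φ = 0 →
        IsWeaklyRegular (coordMod (schubertVanishing K d n φ)) (rankList K d n 0) := fun φ hφ =>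
      (isWeaklyRegular_singleton_iff _ _).2 (hφ ▸ isSMulRegular_rankSum hd φ)
    refine ⟨h0, fun τ T hτ hT hne => ?_⟩
    obtain ⟨φ, hφ⟩ := hne
    have hT' : T = {φ} := Finset.eq_singleton_iff_unique_mem.2 ⟨hφ, fun ψ hψ => by
      have h1 := (hT ψ hψ).2
      have h2 := (hT φ hφ).2
      rw [(codeg_eq_zero_iff hdn ψ).1 (by omega), (codeg_eq_zero_iff hdn φ).1 (by omega)]⟩
    have : unionIdeal (K := K) T = schubertVanishing K d n φ := by simp [hT', unionIdeal]
    rw [this]
    exact h0 φ (by have := (hT φ hφ).2; omega)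
  | succ m ih =>
    have hQ : ∀ φ : Idx d n, codeg φ = m + 1 →
        IsWeaklyRegular (coordMod (schubertVanishing K d n φ)) (rankList K d n (m + 1)) := by
      intro φ hφ
      refine isWeaklyRegular_cons_quot _ _ _ (hφ ▸ isSMulRegular_rankSum hd φ) ?_
      have hlt : bottom hdn < φ := lt_of_le_of_ne (bottom_le hdn φ) fun e => by
        rw [(codeg_eq_zero_iff hdn φ).2 e.symm] at hφ; omega
      rw [← hφ, sup_span_rankSum, sup_span_eq_iInf_divisors hd φ ⟨_, hlt⟩]
      obtain ⟨ψ, hψ, -⟩ := exists_divisor_ge hlt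
      have := ih.2 φ (Finset.univ.filter fun x => x ∈ divisors φ) hφ (fun x hx => (Finset.mem_filter.1 hx).2)
        ⟨ψ, Finset.mem_filter.2 ⟨Finset.mem_univ ψ, hψ⟩⟩
      have e : unionIdeal (K := K) (Finset.univ.filter fun x => x ∈ divisors φ) = ⨅ ψ ∈ divisors φ, schubertVanishing K d n ψ := by
        ext y
        simp [mem_unionIdeal, Submodule.mem_iInf]
      rwa [e] at this
    refine ⟨hQ, fun τ T hτ hT hne => ?_⟩
    induction hne using Finset.Nonempty.cons_induction with
    | singleton φ =>
      have : unionIdeal (K := K) ({φ} : Finset (Idx d n)) = schubertVanishing K d n φ := by simp [unionIdeal]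
      rw [this]
      exact hQ φ (by have := (hT φ (Finset.mem_singleton_self φ)).2; omega)
    | cons φ₀ T hφ₀ hne ihT =>
      set I := unionIdeal (K := K) T
      set J := schubertVanishing K d n φ₀
      have hu : unionIdeal (K := K) (Finset.cons φ₀ T hφ₀) = I ⊓ J := by
        ext f; simp only [mem_unionIdeal, Finset.mem_cons, Submodule.mem_inf, I, J, forall_eq_or_imp]
        tauto
      rw [hu]
      have hd₀ := hT φ₀ (Finset.mem_cons_self _ _)
      have hC : IsWeaklyRegular (coordMod (I ⊔ J)) (rankList K d n m) := by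
        show IsWeaklyRegular (coordMod (unionIdeal T ⊔ schubertVanishing K d n φ₀)) _
        rw [unionIdeal_sup hd]
        refine ih.2 φ₀ _ (by have := hd₀.2; omega) (fun ψ hψ => ?_) (hne.image _)
        obtain ⟨φ, hφ, rfl⟩ := Finset.mem_image.1 hψ
        exact inf_mem_divisors (hT φ (Finset.mem_cons_of_mem hφ)) hd₀ (fun e => hφ₀ (e ▸ hφ))
      have hkill : ∀ c : coordMod (I ⊔ J), rankSum K d n (m + 1) • c = 0 := by
        intro c
        obtain ⟨c, rfl⟩ := Submodule.mkQ_surjective _ c
        show Submodule.mkQ (I ⊔ J) (rankSum K d n (m + 1) * c) = 0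
        rw [Submodule.mkQ_apply, Submodule.Quotient.mk_eq_zero]
        refine Ideal.mul_mem_right _ _ ?_
        show rankSum K d n (m + 1) ∈ unionIdeal T ⊔ schubertVanishing K d n φ₀
        rw [unionIdeal_sup hd, mem_unionIdeal]
        intro ψ hψ
        obtain ⟨φ, hφ, rfl⟩ := Finset.mem_image.1 hψ
        refine rankSum_mem ?_
        have := (inf_mem_divisors (hT φ (Finset.mem_cons_of_mem hφ)) hd₀ (fun e => hφ₀ (e ▸ hφ))).2
        have := hd₀.2
        omega
      let f : coordMod (I ⊓ J) →ₗ[PlRing K d n] coordMod I × coordMod J :=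
        Submodule.liftQ _ ((Submodule.mkQ I).prod (Submodule.mkQ J)) (by
          rw [LinearMap.ker_prod, Submodule.ker_mkQ, Submodule.ker_mkQ])
      let g : coordMod I × coordMod J →ₗ[PlRing K d n] coordMod (I ⊔ J) :=
        (Submodule.factor le_sup_left).coprod (-(Submodule.factor le_sup_right))
      have hf : Function.Injective f := by
        rw [← LinearMap.ker_eq_bot, Submodule.ker_liftQ_eq_bot']
        rw [LinearMap.ker_prod, Submodule.ker_mkQ, Submodule.ker_mkQ]
      have hg : Function.Surjective g := fun c => by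
        obtain ⟨c, rfl⟩ := Submodule.mkQ_surjective _ c
        exact ⟨(Submodule.mkQ I c, 0), by simp [g]⟩
      have hfg : Function.Exact f g := by
        rintro ⟨a, b⟩
        obtain ⟨a, rfl⟩ := Submodule.mkQ_surjective _ a
        obtain ⟨b, rfl⟩ := Submodule.mkQ_surjective _ b
        constructor
        · intro h
          have h' : a - b ∈ I ⊔ J := by
            rw [← Submodule.Quotient.mk_eq_zero (p := I ⊔ J), Submodule.Quotient.mk_sub]
            simpa [g, sub_eq_add_neg] using h
          obtain ⟨i, hi, j, hj, hij⟩ := Submodule.mem_sup.1 h'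
          refine ⟨Submodule.Quotient.mk (a - i), Prod.ext ?_ ?_⟩
          · show Submodule.mkQ I (a - i) = Submodule.mkQ I a
            rw [Submodule.mkQ_apply, Submodule.mkQ_apply, Submodule.Quotient.eq]
            simpa using I.neg_mem hi
          · show Submodule.mkQ J (a - i) = Submodule.mkQ J b
            rw [Submodule.mkQ_apply, Submodule.mkQ_apply, Submodule.Quotient.eq]
            convert hj using 1
            linear_combination -hij
        · rintro ⟨c, hc⟩
          obtain ⟨c, rfl⟩ := Submodule.mkQ_surjective _ c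
          rw [← hc]
          show g (Submodule.mkQ I c, Submodule.mkQ J c) = 0
          simp [g]
      refine isWeaklyRegular_cons_left _ _ f g hf hfg hg ?_ hkill hC
      exact isWeaklyRegular_middle (rankList K d n (m + 1)) (LinearMap.inl _ (coordMod I) (coordMod J))
        (LinearMap.snd _ (coordMod I) (coordMod J)) LinearMap.inl_injective
        Function.Exact.inl_snd LinearMap.snd_surjective
        (ihT fun φ hφ => hT φ (Finset.mem_cons_of_mem hφ)) (hQ φ₀ (by have := hd₀.2; omega))

end SMTLib
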