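import Groth.Agent.SMTLib.Coord
import Mathlib.LinearAlgebra.Alternating.DomCoprod
import Mathlib.GroupTheory.Perm.Finite
import Mathlib.Data.Fintype.Sort
import Mathlib.LinearAlgebra.Dimension.StrongRankCondition
import Mathlib.LinearAlgebra.InvariantBasisNumber
import Mathlib.RingTheory.MvPolynomial.Basic
import Mathlib.RingTheory.Polynomial.Basic
import Mathlib.LinearAlgebra.Dimension.Free
import Mathlib.RingTheory.FiniteType
import Mathlib.LinearAlgebra.Dimension.Constructions
import Mathlib.Algebra.BigOperators.Intervals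

/-!
# The shuffle relations vanish on minors
-/

universe u

namespace SMTLib

open MvPolynomial W4bk4grassmannian
open scoped TensorProduct

variable {d n : ℕ}

lemma compl_card {r : Fin d} {A : Finset (Fin (d + 1))} (hA : A.card = r.val + 1) : Aᶜ.card = d - r.val := by
  rw [Finset.card_compl, hA, Fintype.card_fin]; omega

/-- The position equivalence. -/
def posEquiv (r : Fin d) : Fin (r.val + 1) ⊕ Fin (d - r.val) ≃ Fin (d + 1) :=
  finSumFinEquiv.trans (finCongr (by omega))

lemma posEquiv_inl_val (r : Fin d) (k : Fin (r.val + 1)) : (posEquiv r (Sum.inl k)).val = k.val := rfl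

lemma posEquiv_inr_val (r : Fin d) (k : Fin (d - r.val)) : (posEquiv r (Sum.inr k)).val = r.val + 1 + k.val := rfl

/-- The shuffle attached to a set of positions. -/
noncomputable def shufflePerm (r : Fin d) (A : Finset (Fin (d + 1))) (hA : A.card = r.val + 1) :
    Equiv.Perm (Fin (r.val + 1) ⊕ Fin (d - r.val)) :=
  (finSumEquivOfFinset hA (compl_card hA)).trans (posEquiv r).symm

lemma sum_card_Iio_inter {N k : ℕ} (A : Finset (Fin N)) (hA : A.card = k) :
    ∑ a ∈ A, (A.filter (· < a)).card = k * (k - 1) / 2 := by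
  conv_lhs => arg 1; rw [← A.image_orderEmbOfFin_univ hA]
  rw [Finset.sum_image fun x _ y _ h => (A.orderEmbOfFin hA).injective h]
  have key : ∀ x : Fin k, (A.filter (· < A.orderEmbOfFin hA x)).card = x.val := fun x => by
    have : A.filter (· < A.orderEmbOfFin hA x) = (Finset.Iio x).image (A.orderEmbOfFin hA) := by
      ext y
      simp only [Finset.mem_filter, Finset.mem_image, Finset.mem_Iio]
      constructor
      · rintro ⟨hy, hlt⟩
        rw [← A.image_orderEmbOfFin_univ hA] at hy
        obtain ⟨z, -, rfl⟩ := Finset.mem_image.1 hy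
        exact ⟨z, (A.orderEmbOfFin hA).lt_iff_lt.1 hlt, rfl⟩
      · rintro ⟨z, hz, rfl⟩
        exact ⟨A.orderEmbOfFin_mem hA z, (A.orderEmbOfFin hA).lt_iff_lt.2 hz⟩
    rw [this, Finset.card_image_of_injective _ (A.orderEmbOfFin hA).injective, Fin.card_Iio]
  simp only [key]
  rw [Fin.sum_univ_eq_sum_range (fun i => i) k, Finset.sum_range_id]

lemma sign_shufflePerm (r : Fin d) (A : Finset (Fin (d + 1))) (hA : A.card = r.val + 1) :
    (Equiv.Perm.sign (shufflePerm r A hA) : ℤ) = (-1) ^ shuffleSign r A := by
  let c := finSumEquivOfFinset hA (compl_card hA)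
  let π : Equiv.Perm (Fin (d + 1)) := (posEquiv r).permCongr (shufflePerm r A hA)
  have hπ : ∀ x, π (posEquiv r x) = c x := fun x => by
    simp [π, Equiv.permCongr_apply, shufflePerm, c]
  rw [← Equiv.Perm.sign_permCongr (posEquiv r) (shufflePerm r A hA)]
  show (Equiv.Perm.sign π : ℤ) = _
  rw [sign_eq_neg_one_pow π, Units.val_pow_eq_pow_val, Units.val_neg, Units.val_one]
  congr 1
  have h1 : (Finset.univ.filter fun p : Fin (d + 1) × Fin (d + 1) => p.1 < p.2 ∧ π p.2 < π p.1).card =
      ((A ×ˢ Aᶜ).filter fun p => p.2 < p.1).card := by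
    refine Finset.card_bij (fun p _ => (π p.1, π p.2)) ?_ ?_ ?_
    · rintro ⟨p, q⟩ hpq
      obtain ⟨s, rfl⟩ := (posEquiv r).surjective p
      obtain ⟨t, rfl⟩ := (posEquiv r).surjective q
      simp only [Finset.mem_filter, Finset.mem_univ, true_and, hπ, Finset.mem_product] at hpq ⊢
      obtain ⟨h1, h2⟩ := hpq
      rcases s with s | s <;> rcases t with t | t <;>
        simp only [c, finSumEquivOfFinset_inl, finSumEquivOfFinset_inr, Fin.lt_def, posEquiv_inl_val,
          posEquiv_inr_val] at h1 h2 ⊢
      · exact absurd ((A.orderEmbOfFin hA).monotone (show s ≤ t from Fin.le_def.2 h1.le)) (not_le.2 h2)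
      · exact ⟨⟨A.orderEmbOfFin_mem hA s, Aᶜ.orderEmbOfFin_mem (compl_card hA) t⟩, h2⟩
      · omega
      · exact absurd ((Aᶜ.orderEmbOfFin (compl_card hA)).monotone (show s ≤ t from Fin.le_def.2 (by omega)))
          (not_le.2 h2)
    · rintro ⟨p, q⟩ - ⟨p', q'⟩ - h
      simp only [Prod.mk.injEq] at h
      rw [π.injective h.1, π.injective h.2]
    · rintro ⟨x, y⟩ hxy
      simp only [Finset.mem_filter, Finset.mem_product] at hxy
      obtain ⟨⟨hx, hy⟩, hlt⟩ := hxy
      rw [← A.image_orderEmbOfFin_univ hA] at hx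
      rw [← Aᶜ.image_orderEmbOfFin_univ (compl_card hA)] at hy
      obtain ⟨s, -, rfl⟩ := Finset.mem_image.1 hx
      obtain ⟨t, -, rfl⟩ := Finset.mem_image.1 hy
      refine ⟨(posEquiv r (Sum.inl s), posEquiv r (Sum.inr t)), ?_, ?_⟩
      · simp only [Finset.mem_filter, Finset.mem_univ, true_and, hπ]
        refine ⟨?_, hlt⟩
        rw [Fin.lt_def, posEquiv_inl_val, posEquiv_inr_val]
        omega
      · simp only [hπ]
        rfl
  rw [h1]
  have h2 : ((A ×ˢ Aᶜ).filter fun p => p.2 < p.1).card = ∑ a ∈ A, (Aᶜ.filter (· < a)).card := by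
    rw [Finset.card_filter, Finset.sum_product]
    simp only [Finset.card_filter]
  have h3 : ∀ a : Fin (d + 1), (A.filter (· < a)).card + (Aᶜ.filter (· < a)).card = a.val := fun a => by
    have e1 : A.filter (· < a) = (Finset.univ.filter (· < a)).filter (· ∈ A) := by
      ext x; simp [and_comm]
    have e2 : Aᶜ.filter (· < a) = (Finset.univ.filter (· < a)).filter (· ∉ A) := by
      ext x; simp [and_comm]
    rw [e1, e2, Finset.card_filter_add_card_filter_not, show Finset.univ.filter (· < a) = Finset.Iio a by ext; simp, Fin.card_Iio]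
  have h4 : (∑ a ∈ A, (A.filter (· < a)).card) + ∑ a ∈ A, (Aᶜ.filter (· < a)).card = A.sum (fun a => a.val) := by
    rw [← Finset.sum_add_distrib]
    exact Finset.sum_congr rfl fun a _ => h3 a
  rw [sum_card_Iio_inter A hA, Nat.add_sub_cancel, Nat.mul_comm] at h4
  unfold shuffleSign
  omega

lemma bijective_shuffleClass (r : Fin d) :
    Function.Bijective fun A : {A : Finset (Fin (d + 1)) // A.card = r.val + 1} =>
      (QuotientGroup.mk (shufflePerm r A.1 A.2) : Equiv.Perm.ModSumCongr (Fin (r.val + 1)) (Fin (d - r.val))) := by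
  let img : Equiv.Perm (Fin (r.val + 1) ⊕ Fin (d - r.val)) → Finset (Fin (d + 1)) :=
    fun σ => Finset.univ.image fun k => posEquiv r (σ (Sum.inl k))
  have himg : ∀ A hA, img (shufflePerm r A hA) = A := fun A hA => by
    conv_rhs => rw [← A.image_orderEmbOfFin_univ hA]
    refine Finset.image_congr fun k _ => ?_
    simp [shufflePerm]
  constructor
  · rintro ⟨A, hA⟩ ⟨B, hB⟩ h
    refine Subtype.ext ?_
    show A = B
    obtain ⟨⟨sl, sr⟩, hs⟩ := QuotientGroup.eq.1 h
    rw [← himg A hA, ← himg B hB]
    have e : shufflePerm r B hB = shufflePerm r A hA * Equiv.Perm.sumCongr sl sr := by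
      rw [← Equiv.Perm.sumCongrHom_apply _ _ (sl, sr), hs, mul_inv_cancel_left]
    rw [e]
    ext x
    simp only [img, Finset.mem_image, Finset.mem_univ, true_and, Equiv.Perm.coe_mul, Function.comp_apply,
      Equiv.Perm.sumCongr_apply, Sum.map_inl]
    exact ⟨fun ⟨k, hk⟩ => ⟨sl.symm k, by rwa [Equiv.apply_symm_apply]⟩, fun ⟨k, hk⟩ => ⟨sl k, hk⟩⟩
  · intro q
    induction q using QuotientGroup.induction_on with
    | _ σ =>
    have hA : (img σ).card = r.val + 1 := by
      rw [Finset.card_image_of_injective _ fun a b h => Sum.inl_injective (σ.injective ((posEquiv r).injective h)),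
        Finset.card_univ, Fintype.card_fin]
    refine ⟨⟨img σ, hA⟩, QuotientGroup.eq.2 (Equiv.Perm.mem_sumCongrHom_range_of_perm_mapsTo_inl ?_)⟩
    rintro _ ⟨k, rfl⟩
    obtain ⟨l, hl⟩ : ∃ l, (img σ).orderEmbOfFin hA l = posEquiv r (σ (Sum.inl k)) := by
      have : posEquiv r (σ (Sum.inl k)) ∈ img σ := Finset.mem_image.2 ⟨k, Finset.mem_univ _, rfl⟩
      rw [← (img σ).image_orderEmbOfFin_univ hA] at this
      obtain ⟨l, -, hl⟩ := Finset.mem_image.1 this
      exact ⟨l, hl⟩
    refine ⟨l, (shufflePerm r (img σ) hA).injective ?_⟩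
    rw [Equiv.Perm.coe_mul, Function.comp_apply, ← Equiv.Perm.mul_apply, mul_inv_cancel, Equiv.Perm.one_apply]
    simp [shufflePerm, hl]

section Alt

variable {R : Type u} [CommRing R] (fixed : Fin d → Fin d → R) {ι : Type} (pos : ι → Fin d)

/-- A matrix with some rows prescribed. -/
noncomputable def extMat (u : ι → Fin d → R) : Matrix (Fin d) (Fin d) R :=
  Matrix.of fun t c => Function.extend pos u fixed t c

variable (hpos : Function.Injective pos)
include hpos

lemma extMat_pos (u : ι → Fin d → R) (k : ι) : extMat fixed pos u (pos k) = u k :=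
  funext fun c => by show Function.extend pos u fixed (pos k) c = u k c; rw [hpos.extend_apply]

omit hpos in
lemma extMat_not (u : ι → Fin d → R) (t : Fin d) (h : ¬∃ k, pos k = t) : extMat fixed pos u t = fixed t :=
  funext fun c => by show Function.extend pos u fixed t c = fixed t c; rw [Function.extend_apply' _ _ _ h]

lemma extMat_update [DecidableEq ι] (u : ι → Fin d → R) (k : ι) (z : Fin d → R) :
    extMat fixed pos (Function.update u k z) = (extMat fixed pos u).updateRow (pos k) z := by
  funext t
  by_cases ht : ∃ k', pos k' = t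
  · obtain ⟨k', rfl⟩ := ht
    rw [extMat_pos fixed pos hpos]
    by_cases hk : k' = k
    · subst hk; simp
    · rw [Function.update_of_ne hk, Matrix.updateRow_ne (hpos.ne hk), extMat_pos fixed pos hpos]
  · rw [extMat_not fixed pos _ t ht, Matrix.updateRow_ne (fun h => ht ⟨k, h.symm⟩), extMat_not fixed pos _ t ht]

/-- A determinant with some fixed rows, as an alternating map in the other rows. -/
noncomputable def fixedRowsDet : (Fin d → R) [⋀^ι]→ₗ[R] R where
  toFun u := (extMat fixed pos u).det
  map_update_add' {_} u k x y := by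
    simp only [extMat_update fixed pos hpos, Matrix.det_updateRow_add]
  map_update_smul' {_} u k c x := by
    simp only [extMat_update fixed pos hpos, Matrix.det_updateRow_smul, smul_eq_mul]
  map_eq_zero_of_eq' u k l h hne := Matrix.det_zero_of_row_eq (hpos.ne hne) (by
    rw [extMat_pos fixed pos hpos, extMat_pos fixed pos hpos, h])

end Alt

/-- The shuffle sum. -/
def shuffleSum {R : Type u} [CommRing R] (B : Matrix (Fin n) (Fin d) R) (i j : Idx d n) (r : Fin d) : R :=
  ∑ A : {A : Finset (Fin (d + 1)) // A.card = r.val + 1},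
    (-1) ^ shuffleSign r A.1 * (B.submatrix (shuffleI i j r A.1 A.2) id).det *
      (B.submatrix (shuffleJ i j r A.1 A.2) id).det

lemma evalAt_shuffleRel {K R : Type u} [CommRing K] [CommRing R] [Algebra K R] (B : Matrix (Fin n) (Fin d) R)
    (i j : Idx d n) (r : Fin d) : evalAt (K := K) B (shuffleRel K i j r) = shuffleSum B i j r := by
  classical
  rw [shuffleRel, map_sum, shuffleSum]
  rw [← Finset.sum_filter_of_ne (p := fun A : Finset (Fin (d + 1)) => A.card = r.val + 1) fun A _ h => by
    by_contra hA
    exact h (by rw [shuffleTerm, dif_neg hA, map_zero])]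
  rw [Finset.sum_subtype (p := fun A : Finset (Fin (d + 1)) => A.card = r.val + 1)
    (Finset.univ.filter fun A : Finset (Fin (d + 1)) => A.card = r.val + 1)
    (fun x => by simp) fun A => evalAt (K := K) B (shuffleTerm K i j r A)]
  refine Finset.sum_congr rfl fun A _ => ?_
  rw [shuffleTerm, dif_pos A.2, map_mul, map_mul, map_pow, map_neg, map_one, evalAt_coord, evalAt_coord]

lemma map_shuffleSum {R S : Type u} [CommRing R] [CommRing S] (φ : R →+* S) (B : Matrix (Fin n) (Fin d) R)
    (i j : Idx d n) (r : Fin d) : φ (shuffleSum B i j r) = shuffleSum (B.map φ) i j r := by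
  simp only [shuffleSum, map_sum, map_mul, map_pow, map_neg, map_one, RingHom.map_det, RingHom.mapMatrix_apply,
    Matrix.submatrix_map]

lemma shuffleSum_eq_zero_of_domain {R : Type u} [CommRing R] [IsDomain R] (B : Matrix (Fin n) (Fin d) R)
    (i j : Idx d n) (r : Fin d) : shuffleSum B i j r = 0 := by
  classical
  let posA : Fin (r.val + 1) → Fin d := fun k => ⟨k.val, by omega⟩
  let posB : Fin (d - r.val) → Fin d := fun k => ⟨r.val + k.val, by omega⟩
  have hA : Function.Injective posA := fun a b h => Fin.ext (congrArg Fin.val h :)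
  have hB : Function.Injective posB := fun a b h => by
    have : r.val + a.val = r.val + b.val := congrArg Fin.val h
    exact Fin.ext (by omega)
  let a := fixedRowsDet (fun t => B (i.1 t)) posA hA
  let b := fixedRowsDet (fun t => B (j.1 t)) posB hB
  let w : Fin (r.val + 1) ⊕ Fin (d - r.val) → Fin d → R := fun x => B (movingRows i j r (posEquiv r x))
  have h0 : a.domCoprod b w = 0 := by
    refine AlternatingMap.map_linearDependent _ w fun hli => ?_
    have := hli.fintype_card_le_finrank
    simp only [Fintype.card_sum, Fintype.card_fin, Module.finrank_fintype_fun_eq_card] at this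
    omega
  have h1 := congrArg (LinearMap.mul' R R) h0
  rw [AlternatingMap.domCoprod_apply, map_zero] at h1
  rw [← h1, sum_apply, map_sum, shuffleSum]
  refine Fintype.sum_bijective _ (bijective_shuffleClass r) _ _ fun A => ?_
  show _ = LinearMap.mul' R R (AlternatingMap.domCoprod.summand a b (Quotient.mk'' (shufflePerm r A.1 A.2)) w)
  rw [AlternatingMap.domCoprod.summand_mk'', smul_apply, MultilinearMap.domDomCongr_apply,
    MultilinearMap.domCoprod_apply, Units.smul_def, map_zsmul, LinearMap.mul'_apply, zsmul_eq_mul,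
    sign_shufflePerm]
  push_cast
  rw [mul_assoc]
  congr 1
  congr 1
  · show _ = Matrix.det _
    congr 1
    funext t
    by_cases ht : t.val ≤ r.val
    · have e : t = posA ⟨t.val, by omega⟩ := rfl
      conv_rhs => rw [e, extMat_pos _ _ hA]
      funext c
      simp [shuffleI, ht, w, shufflePerm, posA]
    · rw [extMat_not _ _ _ t fun ⟨k, hk⟩ => ht (hk ▸ by simp [posA]; omega)]
      funext c
      simp [shuffleI, ht]
  · show _ = Matrix.det _
    congr 1
    funext t
    by_cases ht : t.val < r.val
    · have ht' : t < r := ht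
      rw [extMat_not _ _ _ t fun ⟨k, hk⟩ => by rw [← hk] at ht; simp [posB] at ht]
      funext c
      simp [shuffleJ, ht']
    · have ht' : ¬ t < r := ht
      have e : t = posB ⟨t.val - r.val, by omega⟩ := Fin.ext (by simp [posB]; omega)
      conv_rhs => rw [e, extMat_pos _ _ hB]
      funext c
      simp [shuffleJ, ht', w, shufflePerm]

lemma shuffleSum_eq_zero {R : Type u} [CommRing R] (B : Matrix (Fin n) (Fin d) R) (i j : Idx d n) (r : Fin d) :
    shuffleSum B i j r = 0 := by
  let φ : MvPolynomial (Fin n × Fin d) (ULift.{u} ℤ) →+* R :=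
    MvPolynomial.eval₂Hom ((Int.castRingHom R).comp ULift.ringEquiv.toRingHom) fun p => B p.1 p.2
  have e : (Matrix.of fun s t => (X (s, t) : MvPolynomial (Fin n × Fin d) (ULift.{u} ℤ))).map φ = B := by
    ext s t; simp [φ]
  haveI : IsDomain (ULift.{u} ℤ) := ULift.ringEquiv.isDomain
  rw [← e, ← map_shuffleSum, shuffleSum_eq_zero_of_domain, map_zero]

theorem evalAt_shuffleRel_eq_zero {K R : Type u} [CommRing K] [CommRing R] [Algebra K R]
    (B : Matrix (Fin n) (Fin d) R) (i j : Idx d n) (r : Fin d) : evalAt (K := K) B (shuffleRel K i j r) = 0 := by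
  rw [evalAt_shuffleRel, shuffleSum_eq_zero]

end SMTLib
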